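import Mathlib
import Cfsg.Prelude.Def_Solvable
import Cfsg.Prelude.Def_KGroupFacts

set_option autoImplicit false

/-!
# Abstract lemmas for the local-balance criterion

`K` a group, `A ≤ Aut K` containing `Inn K`, `x ∈ A`: when is `O_{p'}(C_A(x))` trivial?
-/

namespace Cfsg.Agent.Lib.Helper36.LocalBalance

theorem pPrimeCore_ne_bot_iff {G : Type*} [Group G] (p : ℕ) :
    Cfsg.pPrimeCore p G ≠ ⊥ ↔
      ∃ N : Subgroup G, N.Normal ∧ (Nat.card N).Coprime p ∧ N ≠ ⊥ := by
  unfold Cfsg.pPrimeCore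
  constructor
  · intro h
    by_contra hno
    push Not at hno
    apply h
    rw [eq_bot_iff]
    apply sSup_le
    rintro N ⟨hN1, hN2⟩
    rw [hno N hN1 hN2]
  · rintro ⟨N, hN1, hN2, hN3⟩ h
    apply hN3
    rw [eq_bot_iff, ← h]
    exact le_sSup ⟨hN1, hN2⟩

theorem pPrimeCore_ne_bot_of_equiv {G H : Type*} [Group G] [Group H] (e : G ≃* H) (p : ℕ)
    (h : Cfsg.pPrimeCore p G ≠ ⊥) : Cfsg.pPrimeCore p H ≠ ⊥ := by
  rw [pPrimeCore_ne_bot_iff] at h ⊢
  obtain ⟨N, hN1, hN2, hN3⟩ := h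
  refine ⟨N.map e.toMonoidHom, hN1.map _ e.surjective, ?_, ?_⟩
  · rw [← Nat.card_congr (N.equivMapOfInjective e.toMonoidHom e.injective).toEquiv]
    exact hN2
  · intro h0
    apply hN3
    exact (Subgroup.map_eq_bot_iff_of_injective N e.injective).mp h0

theorem pPrimeCore_ne_bot_congr {G H : Type*} [Group G] [Group H] (e : G ≃* H) (p : ℕ) :
    Cfsg.pPrimeCore p G ≠ ⊥ ↔ Cfsg.pPrimeCore p H ≠ ⊥ :=
  ⟨pPrimeCore_ne_bot_of_equiv e p, pPrimeCore_ne_bot_of_equiv e.symm p⟩

variable {K : Type*} [Group K]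

theorem mul_conj_eq (x : MulAut K) (k : K) : x * MulAut.conj k = MulAut.conj (x k) * x := by
  ext y
  simp [MulAut.mul_apply, MulAut.conj_apply, map_mul, map_inv]

theorem conj_mem_centralizer_iff (hZ : Subgroup.center K = ⊥) (x : MulAut K) (k : K) :
    MulAut.conj k ∈ Subgroup.centralizer {x} ↔ x k = k := by
  rw [Subgroup.mem_centralizer_iff]
  constructor
  · intro h
    have h1 := h x rfl
    rw [mul_conj_eq] at h1
    have h2 : MulAut.conj (x k) = MulAut.conj k := mul_right_cancel h1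
    have h3 : k⁻¹ * x k ∈ Subgroup.center K := by
      have h4 : MulAut.conj (k⁻¹ * x k) = 1 := by rw [map_mul, map_inv, h2, inv_mul_cancel]
      rw [Subgroup.mem_center_iff]
      intro y
      have h5 := congrArg (fun f : MulAut K => f y) h4
      simp only [MulAut.conj_apply, MulAut.one_apply] at h5
      calc y * (k⁻¹ * x k) = (k⁻¹ * x k * y * (k⁻¹ * x k)⁻¹) * (k⁻¹ * x k) := by rw [h5]
        _ = k⁻¹ * x k * y := by group
    rw [hZ, Subgroup.mem_bot] at h3
    exact (inv_mul_eq_one.mp h3).symm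
  · intro h y hy
    rw [Set.mem_singleton_iff] at hy
    subst hy
    rw [mul_conj_eq, h]

/-- for a centreless group the fixed points of `x` correspond to the inner automorphisms
commuting with `x` -/
theorem card_inn_inf_centralizer (hZ : Subgroup.center K = ⊥) (x : MulAut K) :
    Nat.card ↥(Cfsg.Inn K ⊓ Subgroup.centralizer {x}) =
      Nat.card ↥(MonoidHom.eqLocus x.toMonoidHom (MonoidHom.id K)) := by
  symm
  let f : ↥(MonoidHom.eqLocus x.toMonoidHom (MonoidHom.id K)) →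
      ↥(Cfsg.Inn K ⊓ Subgroup.centralizer {x}) := fun k =>
    ⟨MulAut.conj (k : K), ⟨⟨(k : K), rfl⟩, (conj_mem_centralizer_iff hZ x k).mpr k.2⟩⟩
  apply Nat.card_congr (Equiv.ofBijective f ⟨?_, ?_⟩)
  · intro k k' hkk'
    have h1 : MulAut.conj (k : K) = MulAut.conj (k' : K) := congrArg Subtype.val hkk'
    have h2 : MulAut.conj ((k' : K)⁻¹ * (k : K)) = 1 := by
      rw [map_mul, map_inv, h1, inv_mul_cancel]
    have h3 : (k' : K)⁻¹ * (k : K) ∈ Subgroup.center K := by
      rw [Subgroup.mem_center_iff]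
      intro y
      have h5 := congrArg (fun f : MulAut K => f y) h2
      simp only [MulAut.conj_apply, MulAut.one_apply] at h5
      calc y * ((k' : K)⁻¹ * (k : K))
          = ((k' : K)⁻¹ * (k : K) * y * ((k' : K)⁻¹ * (k : K))⁻¹) * ((k' : K)⁻¹ * (k : K)) := by
            rw [h5]
        _ = (k' : K)⁻¹ * (k : K) * y := by group
    rw [hZ, Subgroup.mem_bot] at h3
    apply Subtype.ext
    exact (inv_mul_eq_one.mp h3).symm
  · rintro ⟨b, ⟨k, rfl⟩, hb⟩
    exact ⟨⟨k, (conj_mem_centralizer_iff hZ x k).mp hb⟩, rfl⟩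

/-- `⇐`: if the inner automorphisms commuting with `x` form a non-trivial `p'`-group, the
`p'`-core of `C_A(x)` is non-trivial -/
theorem core_ne_bot_of_coprime (A : Subgroup (MulAut K)) (x : MulAut K) (p : ℕ)
    (hinn : Cfsg.Inn K ≤ A)
    (hcop : (Nat.card ↥(Cfsg.Inn K ⊓ Subgroup.centralizer {x})).Coprime p)
    (hne : Cfsg.Inn K ⊓ Subgroup.centralizer {x} ≠ ⊥) :
    Cfsg.pPrimeCore p ↥(A ⊓ Subgroup.centralizer {x}) ≠ ⊥ := by
  rw [pPrimeCore_ne_bot_iff]
  have hle : Cfsg.Inn K ⊓ Subgroup.centralizer {x} ≤ A ⊓ Subgroup.centralizer {x} :=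
    inf_le_inf_right _ hinn
  refine ⟨(Cfsg.Inn K ⊓ Subgroup.centralizer {x}).subgroupOf (A ⊓ Subgroup.centralizer {x}),
    ?_, ?_, ?_⟩
  · constructor
    intro n hn c
    rw [Subgroup.mem_subgroupOf] at hn ⊢
    rw [Subgroup.coe_mul, Subgroup.coe_mul, Subgroup.coe_inv]
    refine ⟨(Cfsg.innNormal K).conj_mem _ hn.1 _, ?_⟩
    exact Subgroup.mul_mem _ (Subgroup.mul_mem _ c.2.2 hn.2) (Subgroup.inv_mem _ c.2.2)
  · rw [Nat.card_congr (Subgroup.subgroupOfEquivOfLe hle).toEquiv]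
    exact hcop
  · intro h0
    apply hne
    rw [Subgroup.subgroupOf_eq_bot] at h0
    rw [eq_bot_iff]
    intro b hb
    have := h0.le_bot ⟨hb, hle hb⟩
    exact this

/-- `⇒`: a simple subgroup `E` of order divisible by `p`, consisting of inner automorphisms
commuting with `x`, normalised by all such, with `C_{Aut K}(E) ≤ ⟨x⟩` and `x ^ p = 1`,
forces the `p'`-core of `C_A(x)` to be trivial -/
theorem core_eq_bot_of_simple [Finite K] (A : Subgroup (MulAut K)) (x : MulAut K) (p : ℕ)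
    [Fact p.Prime] (hinn : Cfsg.Inn K ≤ A) (hxp : x ^ p = 1)
    (E : Subgroup (MulAut K)) (hEI : E ≤ Cfsg.Inn K ⊓ Subgroup.centralizer {x})
    (hEs : IsSimpleGroup ↥E) (hEp : p ∣ Nat.card ↥E)
    (hEn : ∀ b ∈ Cfsg.Inn K ⊓ Subgroup.centralizer {x}, ∀ e ∈ E, b * e * b⁻¹ ∈ E)
    (hEc : ∀ a : MulAut K, (∀ e ∈ E, a * e = e * a) → a ∈ Subgroup.zpowers x) :
    Cfsg.pPrimeCore p ↥(A ⊓ Subgroup.centralizer {x}) = ⊥ := by
  have hp : p.Prime := Fact.out
  set C : Subgroup (MulAut K) := A ⊓ Subgroup.centralizer {x} with hC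
  set I' : Subgroup (MulAut K) := Cfsg.Inn K ⊓ Subgroup.centralizer {x} with hI'
  by_contra hcore
  obtain ⟨N, hNn, hNc, hNne⟩ := (pPrimeCore_ne_bot_iff p).mp hcore
  have hI'C : I' ≤ C := inf_le_inf_right _ hinn
  set N' : Subgroup (MulAut K) := N.map C.subtype with hN'
  have hN'C : N' ≤ C := by
    rintro _ ⟨n, -, rfl⟩
    exact n.2
  have hfin : Finite (MulAut K) :=
    Finite.of_injective (fun e : MulAut K => (e : K → K)) DFunLike.coe_injective
  -- (a) `C` normalises `N'`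
  have ha : ∀ c ∈ C, ∀ n ∈ N', c * n * c⁻¹ ∈ N' := by
    rintro c hc _ ⟨n, hn, rfl⟩
    refine ⟨⟨c, hc⟩ * n * ⟨c, hc⟩⁻¹, hNn.conj_mem n hn _, ?_⟩
    simp
  -- (b) cardinality
  have hb : (Nat.card ↥N').Coprime p := by
    rw [hN', ← Nat.card_congr (N.equivMapOfInjective C.subtype C.subtype_injective).toEquiv]
    exact hNc
  -- (c) elements of `N'` in `⟨x⟩` are trivial
  have hc : ∀ n ∈ N', n ∈ Subgroup.zpowers x → n = 1 := by
    intro n hn hnx
    obtain ⟨k, rfl⟩ := hnx
    have h1 : (x ^ k) ^ p = 1 := by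
      rw [← zpow_natCast, ← zpow_mul, mul_comm, zpow_mul, zpow_natCast, hxp, one_zpow]
    have h2 : orderOf (x ^ k) ∣ p := orderOf_dvd_of_pow_eq_one h1
    have h3 : orderOf (x ^ k) ∣ Nat.card ↥N' := by
      have := orderOf_dvd_natCard (⟨x ^ k, hn⟩ : ↥N')
      rwa [← Subgroup.orderOf_coe] at this
    have h4 : orderOf (x ^ k) ∣ 1 := by
      have := Nat.dvd_gcd h3 h2
      rwa [Nat.Coprime.gcd_eq_one hb] at this
    exact orderOf_eq_one_iff.mp (Nat.dvd_one.mp h4)
  have hEC : E ≤ C := hEI.trans hI'C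
  -- Step 1
  have h1 : ∀ n ∈ N', n ∈ E → n = 1 := by
    have hnorm : (N'.subgroupOf E).Normal := by
      constructor
      intro n hn e
      rw [Subgroup.mem_subgroupOf] at hn ⊢
      rw [Subgroup.coe_mul, Subgroup.coe_mul, Subgroup.coe_inv]
      exact ha _ (hEC e.2) _ hn
    rcases hnorm.eq_bot_or_eq_top with h | h
    · intro n hn hnE
      have : (⟨n, hnE⟩ : ↥E) ∈ N'.subgroupOf E := by
        rw [Subgroup.mem_subgroupOf]; exact hn
      rw [h, Subgroup.mem_bot] at this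
      exact congrArg Subtype.val this
    · exfalso
      have hle : E ≤ N' := by
        intro e he
        have : (⟨e, he⟩ : ↥E) ∈ N'.subgroupOf E := by rw [h]; exact Subgroup.mem_top _
        rw [Subgroup.mem_subgroupOf] at this
        exact this
      have hdvd : p ∣ Nat.card ↥N' := hEp.trans (Subgroup.card_dvd_of_le hle)
      have := Nat.dvd_gcd hdvd (dvd_refl p)
      rw [Nat.Coprime.gcd_eq_one hb] at this
      exact hp.one_lt.ne' (Nat.dvd_one.mp this)
  -- Step 2
  have h2 : ∀ m ∈ N', m ∈ I' → m = 1 := by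
    intro m hm hmI
    apply hc m hm
    apply hEc
    intro e he
    have hcomm : m * e * m⁻¹ * e⁻¹ = 1 := by
      apply h1
      · have : m * e * m⁻¹ * e⁻¹ = m * (e * m⁻¹ * e⁻¹) := by group
        rw [this]
        exact Subgroup.mul_mem _ hm (ha e (hEC he) _ (Subgroup.inv_mem _ hm))
      · exact Subgroup.mul_mem _ (hEn m hmI e he) (Subgroup.inv_mem _ he)
    calc m * e = (m * e * m⁻¹ * e⁻¹) * (e * m) := by group
      _ = e * m := by rw [hcomm, one_mul]
  -- Step 3
  have h3 : ∀ n ∈ N', n = 1 := by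
    intro n hn
    apply hc n hn
    apply hEc
    intro e he
    have heI : e ∈ I' := hEI he
    have hnC : n ∈ C := hN'C hn
    have hcomm : n * e * n⁻¹ * e⁻¹ = 1 := by
      apply h2
      · have : n * e * n⁻¹ * e⁻¹ = n * (e * n⁻¹ * e⁻¹) := by group
        rw [this]
        exact Subgroup.mul_mem _ hn (ha e (hEC he) _ (Subgroup.inv_mem _ hn))
      · refine Subgroup.mul_mem _ ⟨?_, ?_⟩ (Subgroup.inv_mem _ heI)
        · exact (Cfsg.innNormal K).conj_mem _ heI.1 _
        · exact Subgroup.mul_mem _ (Subgroup.mul_mem _ hnC.2 heI.2) (Subgroup.inv_mem _ hnC.2)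
    calc n * e = (n * e * n⁻¹ * e⁻¹) * (e * n) := by group
      _ = e * n := by rw [hcomm, one_mul]
  apply hNne
  rw [eq_bot_iff]
  intro n hn
  rw [Subgroup.mem_bot]
  apply Subtype.ext
  exact h3 _ ⟨n, hn, rfl⟩

/-- conjugation invariance of the centraliser in `A` -/
theorem map_conj_inf_centralizer (A : Subgroup (MulAut K)) (x β : MulAut K) :
    (A ⊓ Subgroup.centralizer {x}).map (MulAut.conj β).toMonoidHom =
      A.map (MulAut.conj β).toMonoidHom ⊓ Subgroup.centralizer {β * x * β⁻¹} := by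
  rw [Subgroup.map_inf _ _ _ (MulAut.conj β).injective]
  congr 1
  ext b
  constructor
  · rintro ⟨c, hc0, rfl⟩
    have hc : c ∈ Subgroup.centralizer {x} := hc0
    rw [Subgroup.mem_centralizer_iff] at hc ⊢
    intro y hy
    rw [Set.mem_singleton_iff] at hy
    subst hy
    have h1 := hc x rfl
    show β * x * β⁻¹ * (β * c * β⁻¹) = β * c * β⁻¹ * (β * x * β⁻¹)
    calc β * x * β⁻¹ * (β * c * β⁻¹) = β * (x * c) * β⁻¹ := by group
      _ = β * (c * x) * β⁻¹ := by rw [h1]
      _ = β * c * β⁻¹ * (β * x * β⁻¹) := by group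
  · intro hb
    rw [Subgroup.mem_centralizer_iff] at hb
    have h1 := hb _ rfl
    refine ⟨β⁻¹ * b * β, ?_, ?_⟩
    · show β⁻¹ * b * β ∈ Subgroup.centralizer {x}
      rw [Subgroup.mem_centralizer_iff]
      intro y hy
      rw [Set.mem_singleton_iff] at hy
      subst hy
      calc y * (β⁻¹ * b * β) = β⁻¹ * (β * y * β⁻¹ * b) * β := by group
        _ = β⁻¹ * (b * (β * y * β⁻¹)) * β := by rw [h1]
        _ = β⁻¹ * b * β * y := by group
    · show β * (β⁻¹ * b * β) * β⁻¹ = b
      group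

theorem core_conj_iff (A : Subgroup (MulAut K)) (x β : MulAut K) (p : ℕ) :
    Cfsg.pPrimeCore p ↥(A ⊓ Subgroup.centralizer {x}) ≠ ⊥ ↔
      Cfsg.pPrimeCore p
        ↥(A.map (MulAut.conj β).toMonoidHom ⊓ Subgroup.centralizer {β * x * β⁻¹}) ≠ ⊥ :=
  pPrimeCore_ne_bot_congr
    (((A ⊓ Subgroup.centralizer {x}).equivMapOfInjective (MulAut.conj β).toMonoidHom
      (MulAut.conj β).injective).trans
      (MulEquiv.subgroupCongr (map_conj_inf_centralizer A x β))) p

theorem inn_le_map_conj (A : Subgroup (MulAut K)) (β : MulAut K) (hinn : Cfsg.Inn K ≤ A) :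
    Cfsg.Inn K ≤ A.map (MulAut.conj β).toMonoidHom := by
  intro b hb
  refine ⟨β⁻¹ * b * β, hinn ?_, ?_⟩
  · have := (Cfsg.innNormal K).conj_mem b hb β⁻¹
    rwa [inv_inv] at this
  · show β * (β⁻¹ * b * β) * β⁻¹ = b
    group

theorem card_eqLocus_conj (x β : MulAut K) :
    Nat.card ↥(MonoidHom.eqLocus (β * x * β⁻¹).toMonoidHom (MonoidHom.id K)) =
      Nat.card ↥(MonoidHom.eqLocus x.toMonoidHom (MonoidHom.id K)) := by
  symm
  refine Nat.card_congr
    { toFun := fun k => ⟨β (k : K), ?_⟩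
      invFun := fun k => ⟨β⁻¹ (k : K), ?_⟩
      left_inv := ?_
      right_inv := ?_ }
  · have hk : x (k : K) = (k : K) := k.2
    show (β * x * β⁻¹) (β (k : K)) = β (k : K)
    rw [MulAut.mul_apply, MulAut.mul_apply, MulAut.inv_apply_self, hk]
  · have hk : (β * x * β⁻¹) (k : K) = (k : K) := k.2
    show x (β⁻¹ (k : K)) = β⁻¹ (k : K)
    rw [MulAut.mul_apply, MulAut.mul_apply] at hk
    have h1 := congrArg (fun y => β⁻¹ y) hk
    simp only [MulAut.inv_apply_self] at h1
    exact h1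
  · intro k
    apply Subtype.ext
    show β⁻¹ (β (k : K)) = (k : K)
    rw [MulAut.inv_apply_self]
  · intro k
    apply Subtype.ext
    show β (β⁻¹ (k : K)) = (k : K)
    rw [MulAut.apply_inv_self]

/-- two homomorphisms with the same kernel have isomorphic images on every subgroup -/
theorem nonempty_map_equiv_of_ker_eq {S G₁ G₂ : Type*} [Group S] [Group G₁] [Group G₂]
    (f₁ : S →* G₁) (f₂ : S →* G₂) (hk : f₁.ker = f₂.ker) (H : Subgroup S) :
    Nonempty (↥(H.map f₁) ≃* ↥(H.map f₂)) := by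
  have h1 : (f₁.comp H.subtype).range = H.map f₁ := by
    rw [MonoidHom.range_comp, Subgroup.range_subtype]
  have h2 : (f₂.comp H.subtype).range = H.map f₂ := by
    rw [MonoidHom.range_comp, Subgroup.range_subtype]
  have h3 : (f₁.comp H.subtype).ker = (f₂.comp H.subtype).ker := by
    ext s
    rw [MonoidHom.mem_ker, MonoidHom.mem_ker, MonoidHom.comp_apply, MonoidHom.comp_apply,
      ← MonoidHom.mem_ker, ← MonoidHom.mem_ker, hk]
  exact ⟨(MulEquiv.subgroupCongr h1.symm).trans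
    ((QuotientGroup.quotientKerEquivRange (f₁.comp H.subtype)).symm.trans
      ((QuotientGroup.quotientMulEquivOfEq h3).trans
        ((QuotientGroup.quotientKerEquivRange (f₂.comp H.subtype)).trans
          (MulEquiv.subgroupCongr h2))))⟩

theorem center_eq_bot_of_inn_ne_bot [IsSimpleGroup K] (h : Cfsg.Inn K ≠ ⊥) :
    Subgroup.center K = ⊥ := by
  rcases (inferInstance : (Subgroup.center K).Normal).eq_bot_or_eq_top with h0 | h0
  · exact h0
  · exfalso
    apply h
    rw [eq_bot_iff]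
    rintro _ ⟨k, rfl⟩
    rw [Subgroup.mem_bot]
    have hk : k ∈ Subgroup.center K := by rw [h0]; exact Subgroup.mem_top _
    rw [Subgroup.mem_center_iff] at hk
    ext y
    rw [MulAut.conj_apply, MulAut.one_apply, ← hk y, mul_inv_cancel_right]

theorem conj_injective_of_center_eq_bot (hZ : Subgroup.center K = ⊥) :
    Function.Injective (MulAut.conj : K →* MulAut K) := by
  rw [injective_iff_map_eq_one]
  intro k hk
  have h3 : k ∈ Subgroup.center K := by
    rw [Subgroup.mem_center_iff]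
    intro y
    have h5 := congrArg (fun f : MulAut K => f y) hk
    simp only [MulAut.conj_apply, MulAut.one_apply] at h5
    calc y * k = (k * y * k⁻¹) * k := by rw [h5]
      _ = k * y := by group
  rwa [hZ, Subgroup.mem_bot] at h3

theorem card_inn_of_center_eq_bot (hZ : Subgroup.center K = ⊥) :
    Nat.card ↥(Cfsg.Inn K) = Nat.card K :=
  (Nat.card_congr (MonoidHom.ofInjective (conj_injective_of_center_eq_bot hZ)).toEquiv).symm

theorem isSimpleGroup_inn [IsSimpleGroup K] (h : Cfsg.Inn K ≠ ⊥) :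
    IsSimpleGroup ↥(Cfsg.Inn K) := by
  have : Nontrivial ↥(Cfsg.Inn K) := (Subgroup.nontrivial_iff_ne_bot _).mpr h
  exact IsSimpleGroup.isSimpleGroup_of_surjective (MulAut.conj : K →* MulAut K).rangeRestrict
    (MulAut.conj : K →* MulAut K).rangeRestrict_surjective

end Cfsg.Agent.Lib.Helper36.LocalBalance
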