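import Mathlib
import Cfsg.Agent.Lib.Helper43.OSplit
import Cfsg.Agent.Lib.Helper36.LocalBalance.Abs

set_option autoImplicit false
set_option linter.unusedSectionVars false

/-!
# The subgroup `E = image of Ω(Q₀)` in the centraliser of a standard field automorphism
-/

namespace Cfsg.Agent.Lib.Helper36.LocalBalance

open scoped MatrixGroups Matrix
open Matrix Cfsg.Agent.Lib.Helper45.PSLField Cfsg.Agent.Lib.Helper36 Cfsg.Agent.Lib.Helper44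
  Cfsg.Agent.Lib.Helper43

variable {ι : Type} [Fintype ι] [DecidableEq ι] {F : Type*} [Field F] {F₀ : Type*} [Field F₀]

/-- isometries over the subfield are isometries over the big field -/
theorem glMap_mem_isometryGroup_of_hom (Q₀ : QuadraticForm F₀ (ι → F₀))
    (Q : QuadraticForm F (ι → F)) (j : F₀ →+* F) (hS : GramCompat j (⇑Q₀) (⇑Q))
    (h2 : (2 : F) ≠ 0) (A : GL ι F₀) (hA : A ∈ Cfsg.isometryGroup F₀ (⇑Q₀)) :
    Matrix.GeneralLinearGroup.map j A ∈ Cfsg.isometryGroup F (⇑Q) := by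
  have hgram₀ : (A : Matrix ι ι F₀)ᵀ * gramStd (⇑Q₀) * (A : Matrix ι ι F₀) = gramStd (⇑Q₀) := by
    have := gram_semisimilarity Q₀ A (RingEquiv.refl F₀) 1
      (fun v => by
        rw [one_mul]
        exact (mem_isometryGroup_iff' (⇑Q₀) A).mp hA v)
    rw [map_refl, one_smul] at this
    exact this
  set B : Matrix ι ι F := (A : Matrix ι ι F₀).map j with hB
  have hgram : Bᵀ * gramStd (⇑Q) * B = gramStd (⇑Q) := by
    have h1 := congrArg (fun M : Matrix ι ι F₀ => M.map j) hgram₀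
    simp only [Matrix.map_mul, Matrix.transpose_map] at h1
    rw [hS] at h1
    exact h1
  rw [mem_isometryGroup_iff']
  intro v
  show Q (B *ᵥ v) = Q v
  have h1 : ∀ x : ι → F, (2 : F) * Q x = x ⬝ᵥ (gramStd (⇑Q) *ᵥ x) := by
    intro x
    rw [← polar_eq_gram, QuadraticMap.polar_self, two_smul, two_mul]
  have h3 : (2 : F) * Q (B *ᵥ v) = 2 * Q v := by
    rw [h1, dot_gram_conj, hgram, ← h1]
  exact mul_left_cancel₀ h2 h3

/-- `O(Q₀) → O(Q)` along a field embedding -/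
noncomputable def isoSub (Q₀ : QuadraticForm F₀ (ι → F₀)) (Q : QuadraticForm F (ι → F))
    (j : F₀ →+* F) (hS : GramCompat j (⇑Q₀) (⇑Q)) (h2 : (2 : F) ≠ 0) :
    ↥(Cfsg.isometryGroup F₀ (⇑Q₀)) →* ↥(Cfsg.isometryGroup F (⇑Q)) where
  toFun A := ⟨Matrix.GeneralLinearGroup.map j A.1,
    glMap_mem_isometryGroup_of_hom Q₀ Q j hS h2 A.1 A.2⟩
  map_one' := by
    apply Subtype.ext
    show Matrix.GeneralLinearGroup.map j (1 : GL ι F₀) = 1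
    rw [map_one]
  map_mul' a b := by
    apply Subtype.ext
    show Matrix.GeneralLinearGroup.map j (a.1 * b.1) = _
    rw [map_mul]
    rfl

theorem glMap_mem_OmegaGL_of_hom (Q₀ : QuadraticForm F₀ (ι → F₀))
    (Q : QuadraticForm F (ι → F)) (j : F₀ →+* F) (hS : GramCompat j (⇑Q₀) (⇑Q))
    (h2 : (2 : F) ≠ 0) (A : GL ι F₀) (hA : A ∈ OmegaGL (⇑Q₀)) :
    Matrix.GeneralLinearGroup.map j A ∈ OmegaGL (⇑Q) := by
  obtain ⟨s, hs, rfl⟩ := hA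
  refine ⟨isoSub Q₀ Q j hS h2 s, ?_, rfl⟩
  have h1 : (commutator ↥(Cfsg.isometryGroup F₀ (⇑Q₀))).map (isoSub Q₀ Q j hS h2) ≤
      commutator ↥(Cfsg.isometryGroup F (⇑Q)) := by
    rw [commutator_def, commutator_def, Subgroup.map_commutator]
    exact Subgroup.commutator_mono le_top le_top
  exact h1 ⟨s, hs, rfl⟩

section

variable (Q₀ : QuadraticForm F₀ (ι → F₀)) (Q : QuadraticForm F (ι → F))
  (j : F₀ →+* F) (hS : GramCompat j (⇑Q₀) (⇑Q)) (h2 : (2 : F) ≠ 0)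
  (hdet : (gramStd (⇑Q)).det ≠ 0)

/-- `Ω(Q₀)` inside the similarity group -/
def omegaSim : Subgroup ↥(Cfsg.Geo.quadSimilarityGroup (⇑Q₀)) :=
  (OmegaGL (⇑Q₀)).subgroupOf (Cfsg.Geo.quadSimilarityGroup (⇑Q₀))

/-- the image of `Ω(Q₀)` in `Aut(PΩ(Q))` -/
noncomputable def EGroup : Subgroup (MulAut (Cfsg.POmega F (⇑Q))) :=
  (omegaSim Q₀).map (subSim Q₀ Q j hS h2 hdet)

theorem EGroup_le_Inn : EGroup Q₀ Q j hS h2 hdet ≤ Cfsg.Inn (Cfsg.POmega F (⇑Q)) := by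
  rintro _ ⟨A, hA, rfl⟩
  rw [subSim_apply, Inn_eq]
  exact ⟨_, glMap_mem_OmegaGL_of_hom Q₀ Q j hS h2 A.1 hA, rfl⟩

theorem EGroup_le_centralizer (hQ : FieldCompat (⇑Q)) (σ : RingAut F)
    (hj : ∀ a, σ (j a) = j a) :
    EGroup Q₀ Q j hS h2 hdet ≤ Subgroup.centralizer {oField hQ σ} := by
  rintro _ ⟨A, -, rfl⟩
  rw [Subgroup.mem_centralizer_iff]
  intro h hh
  rw [Set.mem_singleton_iff] at hh
  subst hh
  exact subSim_comm Q₀ Q j hS h2 hdet hQ σ hj A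

theorem Inn_le_pgoAut' (Q : (ι → F) → F) : Cfsg.Inn (Cfsg.POmega F Q) ≤ Cfsg.pgoAut F Q := by
  rw [Inn_eq]
  rintro _ ⟨g, -, rfl⟩
  exact simAut_mem_pgoAut Q g

theorem conj_mem_omegaSim (B A : ↥(Cfsg.Geo.quadSimilarityGroup (⇑Q₀))) (hA : A ∈ omegaSim Q₀) :
    B * A * B⁻¹ ∈ omegaSim Q₀ := by
  unfold omegaSim at hA ⊢
  rw [Subgroup.mem_subgroupOf] at hA ⊢
  obtain ⟨s, hs, hsA⟩ := hA
  obtain ⟨s', hs'⟩ := exists_conj_Omega (⇑Q₀) B ⟨s, hs⟩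
  refine ⟨s'.1, s'.2, ?_⟩
  rw [Subgroup.coe_subtype] at hsA ⊢
  rw [hs']
  show (B : GL ι F₀) * s.1 * (B : GL ι F₀)⁻¹ = _
  rw [hsA]
  rfl

end

section Cent

variable (Q₀ : QuadraticForm F₀ (ι → F₀)) (Q : QuadraticForm F (ι → F))
  (j : F₀ →+* F) (hS : GramCompat j (⇑Q₀) (⇑Q)) (h2 : (2 : F) ≠ 0)
  (hdet : (gramStd (⇑Q)).det ≠ 0) [Finite F] [Nonempty ι] (hQ : FieldCompat (⇑Q))
  (hker : OKernelProp hQ) (σ : RingAut F) {r : ℕ} (hr : 0 < r) (hσ : orderOf σ = r)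
  (hj : ∀ a : F, σ a = a ↔ ∃ b, j b = a)

include hker hr hσ hj in
theorem inn_inf_centralizer_le_range :
    Cfsg.Inn (Cfsg.POmega F (⇑Q)) ⊓ Subgroup.centralizer {oField hQ σ} ≤
      (subSim Q₀ Q j hS h2 hdet).range := by
  intro b hb
  have hb' : b ∈ Cfsg.pgoAut F (⇑Q) ⊓ Subgroup.centralizer {oField hQ σ} :=
    ⟨Inn_le_pgoAut' _ hb.1, hb.2⟩
  obtain ⟨A, hA⟩ := (mem_pgo_centralizer_iff Q₀ Q j hS h2 hdet hQ hker σ hr hσ hj b).mp hb'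
  exact ⟨A, hA⟩

include hker hr hσ hj in
theorem EGroup_normalized :
    ∀ b ∈ Cfsg.Inn (Cfsg.POmega F (⇑Q)) ⊓ Subgroup.centralizer {oField hQ σ},
      ∀ e ∈ EGroup Q₀ Q j hS h2 hdet, b * e * b⁻¹ ∈ EGroup Q₀ Q j hS h2 hdet := by
  intro b hb e he
  obtain ⟨B, rfl⟩ := inn_inf_centralizer_le_range Q₀ Q j hS h2 hdet hQ hker σ hr hσ hj hb
  obtain ⟨A, hA, rfl⟩ := he
  refine ⟨B * A * B⁻¹, conj_mem_omegaSim Q₀ B A hA, ?_⟩
  rw [map_mul, map_mul, map_inv]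

include hker in
theorem subSim_ker_eq {hQ₀ : FieldCompat (⇑Q₀)} (hker₀ : OKernelProp hQ₀) :
    (subSim Q₀ Q j hS h2 hdet).ker = (simAut (⇑Q₀)).ker := by
  ext A
  rw [MonoidHom.mem_ker, MonoidHom.mem_ker, subSim_eq_one_iff Q₀ Q j hS h2 hdet hker,
    simAut_eq_one_iff_scalar Q₀ hker₀]

include hker in
theorem nonempty_EGroup_equiv {hQ₀ : FieldCompat (⇑Q₀)} (hker₀ : OKernelProp hQ₀) :
    Nonempty (↥(EGroup Q₀ Q j hS h2 hdet) ≃* ↥(Cfsg.Inn (Cfsg.POmega F₀ (⇑Q₀)))) := by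
  obtain ⟨e⟩ := nonempty_map_equiv_of_ker_eq (subSim Q₀ Q j hS h2 hdet) (simAut (⇑Q₀))
    (subSim_ker_eq Q₀ Q j hS h2 hdet hQ hker hker₀) (omegaSim Q₀)
  have h1 : (omegaSim Q₀).map (simAut (⇑Q₀)) = Cfsg.Inn (Cfsg.POmega F₀ (⇑Q₀)) :=
    (Inn_eq (⇑Q₀)).symm
  exact ⟨e.trans (MulEquiv.subgroupCongr h1)⟩

include hker in
theorem nonempty_range_equiv {hQ₀ : FieldCompat (⇑Q₀)} (hker₀ : OKernelProp hQ₀) :
    Nonempty (↥(subSim Q₀ Q j hS h2 hdet).range ≃* ↥(Cfsg.pgoAut F₀ (⇑Q₀))) := by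
  obtain ⟨e⟩ := nonempty_map_equiv_of_ker_eq (subSim Q₀ Q j hS h2 hdet) (simAut (⇑Q₀))
    (subSim_ker_eq Q₀ Q j hS h2 hdet hQ hker hker₀) ⊤
  have h1 : (⊤ : Subgroup ↥(Cfsg.Geo.quadSimilarityGroup (⇑Q₀))).map (simAut (⇑Q₀)) =
      Cfsg.pgoAut F₀ (⇑Q₀) := by
    rw [pgoAut_eq, MonoidHom.range_eq_map]
  have h0 : (subSim Q₀ Q j hS h2 hdet).range =
      (⊤ : Subgroup ↥(Cfsg.Geo.quadSimilarityGroup (⇑Q₀))).map (subSim Q₀ Q j hS h2 hdet) :=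
    MonoidHom.range_eq_map _
  exact ⟨(MulEquiv.subgroupCongr h0).trans (e.trans (MulEquiv.subgroupCongr h1))⟩

include hker hr hσ hj in
/-- the order of the group of inner automorphisms commuting with `φ_σ` divides `2 |E|` -/
theorem card_inn_inf_centralizer_dvd [Fintype F₀] [DecidableEq F₀]
    {hQ₀ : FieldCompat (⇑Q₀)} (hker₀ : OKernelProp hQ₀)
    (hnd₀ : (QuadraticMap.polarBilin Q₀).Nondegenerate) (h2₀ : (2 : F₀) ≠ 0)
    (hdim : 5 ≤ Fintype.card ι) (k : ℕ) (hcard : Fintype.card ι = 2 * k + 1) :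
    Nat.card ↥(Cfsg.Inn (Cfsg.POmega F (⇑Q)) ⊓ Subgroup.centralizer {oField hQ σ}) ∣
      2 * Nat.card ↥(EGroup Q₀ Q j hS h2 hdet) := by
  have hfin : Finite (MulAut (Cfsg.POmega F (⇑Q))) := by
    have : Finite (GL ι F) := Finite.of_injective (fun g : GL ι F => (g : Matrix ι ι F))
      Units.val_injective
    have : Finite (Cfsg.POmega F (⇑Q)) := inferInstance
    exact Finite.of_injective (fun e : MulAut (Cfsg.POmega F (⇑Q)) =>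
      (e : Cfsg.POmega F (⇑Q) → Cfsg.POmega F (⇑Q))) DFunLike.coe_injective
  have h1 := Subgroup.card_dvd_of_le
    (inn_inf_centralizer_le_range Q₀ Q j hS h2 hdet hQ hker σ hr hσ hj)
  obtain ⟨e1⟩ := nonempty_range_equiv Q₀ Q j hS h2 hdet hQ hker hker₀
  obtain ⟨e2⟩ := nonempty_EGroup_equiv Q₀ Q j hS h2 hdet hQ hker hker₀
  rw [Nat.card_congr e1.toEquiv] at h1
  rw [Nat.card_congr e2.toEquiv]
  have h3 := relIndex_Inn_pgoAut_odd Q₀ hnd₀ h2₀ hdim k hcard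
  have hle : Cfsg.Inn (Cfsg.POmega F₀ (⇑Q₀)) ≤ Cfsg.pgoAut F₀ (⇑Q₀) := Inn_le_pgoAut' _
  have h4 := Subgroup.card_mul_index
    ((Cfsg.Inn (Cfsg.POmega F₀ (⇑Q₀))).subgroupOf (Cfsg.pgoAut F₀ (⇑Q₀)))
  have h5 : ((Cfsg.Inn (Cfsg.POmega F₀ (⇑Q₀))).subgroupOf (Cfsg.pgoAut F₀ (⇑Q₀))).index = 2 := h3
  rw [h5, Nat.card_congr (Subgroup.subgroupOfEquivOfLe hle).toEquiv, mul_comm] at h4
  rw [h4]
  exact h1

end Cent

end Cfsg.Agent.Lib.Helper36.LocalBalance
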