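import Mathlib

set_option autoImplicit false

/-!
# Matrices over `F` commuting with a set of matrices over a subfield

If every `F₀`-matrix commuting with the set `𝓡` is scalar, so is every `F`-matrix commuting with
(the images of) `𝓡`: decompose along an `F₀`-basis of `F`.
-/

namespace Cfsg.Agent.Lib.Helper36.LocalBalance

open Matrix

variable {ι : Type*} [Fintype ι] [DecidableEq ι] {F₀ F : Type*} [Field F₀] [Field F]

theorem scalar_of_commutes_subfield (j : F₀ →+* F) (𝓡 : Set (Matrix ι ι F₀))
    (hsc : ∀ M : Matrix ι ι F₀, (∀ R ∈ 𝓡, M * R = R * M) → ∃ c : F₀, M = c • (1 : Matrix ι ι F₀))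
    (G : Matrix ι ι F) (hG : ∀ R ∈ 𝓡, G * R.map j = R.map j * G) :
    ∃ c : F, G = c • (1 : Matrix ι ι F) := by
  classical
  letI : Algebra F₀ F := j.toAlgebra
  have hsmul : ∀ (r : F₀) (y : F), r • y = j r * y := fun r y => by
    rw [Algebra.smul_def]; rfl
  -- every functional gives a commuting matrix
  have key : ∀ φ : F →ₗ[F₀] F₀, ∃ c : F₀, (G.map φ) = c • (1 : Matrix ι ι F₀) := by
    intro φ
    apply hsc
    intro R hR
    have h1 := hG R hR
    ext k l
    have h2 := congrArg φ (congrFun (congrFun h1 k) l)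
    rw [Matrix.mul_apply, Matrix.mul_apply, map_sum, map_sum] at h2
    rw [Matrix.mul_apply, Matrix.mul_apply]
    convert h2 using 2 with i _ i _
    · rw [Matrix.map_apply, Matrix.map_apply, mul_comm (G k i), ← hsmul, map_smul, smul_eq_mul,
        mul_comm]
    · rw [Matrix.map_apply, Matrix.map_apply, ← hsmul, map_smul, smul_eq_mul]
  -- separate points
  have hsep : ∀ y : F, (∀ φ : F →ₗ[F₀] F₀, φ y = 0) → y = 0 := by
    intro y hy
    let b := Module.Basis.ofVectorSpace F₀ F
    apply b.ext_elem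
    intro i
    rw [map_zero, Finsupp.zero_apply]
    exact hy (b.coord i)
  have hoff : ∀ k l, k ≠ l → G k l = 0 := by
    intro k l hkl
    apply hsep
    intro φ
    obtain ⟨c, hc⟩ := key φ
    have := congrFun (congrFun hc k) l
    rwa [Matrix.map_apply, Matrix.smul_apply, Matrix.one_apply_ne hkl, smul_zero] at this
  have hdiag : ∀ k l, G k k = G l l := by
    intro k l
    rw [← sub_eq_zero]
    apply hsep
    intro φ
    obtain ⟨c, hc⟩ := key φ
    have h1 := congrFun (congrFun hc k) k
    have h2 := congrFun (congrFun hc l) l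
    rw [Matrix.map_apply, Matrix.smul_apply, Matrix.one_apply_eq] at h1 h2
    rw [map_sub, h1, h2, sub_self]
  rcases isEmpty_or_nonempty ι with hι | ⟨⟨k₀⟩⟩
  · exact ⟨0, by ext k; exact (hι.false k).elim⟩
  · refine ⟨G k₀ k₀, ?_⟩
    ext k l
    by_cases hkl : k = l
    · subst hkl
      rw [Matrix.smul_apply, Matrix.one_apply_eq, smul_eq_mul, mul_one]
      exact hdiag k k₀
    · rw [Matrix.smul_apply, Matrix.one_apply_ne hkl, smul_zero]
      exact hoff k l hkl

/-- the matrix form of the centraliser computation: a pair `(g, τ)` with `g τ(A) = A g` for all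
`A` in a group `Ω₀` of matrices over `F₀` which contains a unipotent family `1 + t N₀` and has
only scalar commutant. -/
theorem cent_matrix (j : F₀ →+* F) (τ : F ≃+* F) (g : GL ι F) (Ω₀ : Set (Matrix ι ι F₀))
    (hcomm : ∀ A ∈ Ω₀, (g : Matrix ι ι F) * ((A.map j).map τ) = A.map j * (g : Matrix ι ι F))
    (N₀ : Matrix ι ι F₀) (hN₀ : N₀ ≠ 0) (hu : ∀ t : F₀, (1 + t • N₀) ∈ Ω₀)
    (hsc : ∀ M : Matrix ι ι F₀, (∀ A ∈ Ω₀, M * A = A * M) →
      ∃ c : F₀, M = c • (1 : Matrix ι ι F₀)) :
    (∀ t : F₀, τ (j t) = j t) ∧ ∃ c : F, (g : Matrix ι ι F) = c • (1 : Matrix ι ι F) := by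
  set Gm : Matrix ι ι F := (g : Matrix ι ι F) with hGm
  set N : Matrix ι ι F := N₀.map j with hN
  have hN0 : N ≠ 0 := by
    intro h0
    apply hN₀
    ext k l
    have := congrFun (congrFun h0 k) l
    rw [hN, Matrix.map_apply, Matrix.zero_apply] at this
    exact (map_eq_zero j).mp this
  have hmapA : ∀ t : F₀, ((1 + t • N₀).map j).map τ = 1 + τ (j t) • N.map τ := by
    intro t
    ext k l
    simp only [Matrix.map_apply, Matrix.add_apply, Matrix.smul_apply, smul_eq_mul, map_add,
      map_mul, hN]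
    congr 1
    by_cases hkl : k = l
    · subst hkl; simp
    · simp [Matrix.one_apply_ne hkl]
  have hmapA' : ∀ t : F₀, (1 + t • N₀).map j = 1 + j t • N := by
    intro t
    ext k l
    simp only [Matrix.map_apply, Matrix.add_apply, Matrix.smul_apply, smul_eq_mul, map_add,
      map_mul, hN]
    congr 1
    by_cases hkl : k = l
    · subst hkl; simp
    · simp [Matrix.one_apply_ne hkl]
  have key : ∀ t : F₀, τ (j t) • (Gm * N.map τ) = j t • (N * Gm) := by
    intro t
    have h1 := hcomm _ (hu t)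
    rw [hmapA, hmapA', Matrix.mul_add, Matrix.add_mul, Matrix.mul_one, Matrix.one_mul,
      Matrix.mul_smul, Matrix.smul_mul] at h1
    exact add_left_cancel h1
  have h1 : Gm * N.map τ = N * Gm := by
    have := key 1
    rwa [map_one, map_one, one_smul, one_smul] at this
  have hNG : N * Gm ≠ 0 := by
    intro h0
    apply hN0
    have h2 : N * Gm * ((g⁻¹ : GL ι F) : Matrix ι ι F) = 0 := by rw [h0, Matrix.zero_mul]
    rwa [Matrix.mul_assoc, hGm, ← Units.val_mul, mul_inv_cancel, Units.val_one,
      Matrix.mul_one] at h2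
  have hτ : ∀ t : F₀, τ (j t) = j t := by
    intro t
    by_contra hne
    apply hNG
    have h3 : (τ (j t) - j t) • (N * Gm) = 0 := by
      rw [sub_smul, ← key t, h1, sub_self]
    have h5 : τ (j t) - j t ≠ 0 := sub_ne_zero.mpr hne
    have := congrArg (fun M : Matrix ι ι F => (τ (j t) - j t)⁻¹ • M) h3
    simpa [smul_smul, inv_mul_cancel₀ h5] using this
  refine ⟨hτ, ?_⟩
  apply scalar_of_commutes_subfield j Ω₀ hsc
  intro A hA
  have h2 := hcomm A hA
  have h3 : (A.map j).map τ = A.map j := by
    ext k l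
    rw [Matrix.map_apply, Matrix.map_apply]
    exact hτ _
  rw [h3] at h2
  exact h2

end Cfsg.Agent.Lib.Helper36.LocalBalance
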