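import Mathlib
import Cfsg.Agent.Lib.Helper45.PSLField.Fixed

set_option autoImplicit false

/-!
# An automorphism fixing the fixed field of `σ` is a power of `σ`
-/

namespace Cfsg.Agent.Lib.Helper36.LocalBalance

open Cfsg.Agent.Lib.Helper45.PSLField

theorem mem_zpowers_of_fixes {F : Type*} [Field F] [Finite F] (σ τ : RingAut F)
    (h : ∀ a : F, σ a = a → τ a = a) : τ ∈ Subgroup.zpowers σ := by
  have hfin : Finite (RingAut F) :=
    Finite.of_injective (fun e : RingAut F => (e : F → F)) DFunLike.coe_injective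
  let τ' : F ≃ₐ[FixedPoints.subfield (Subgroup.zpowers σ) F] F :=
    { τ with commutes' := fun a => h a.1 ((mem_fixF σ a.1).mp a.2) }
  obtain ⟨g, hg⟩ := FixedPoints.toAlgAut_surjective (Subgroup.zpowers σ) F τ'
  have : τ = (g : RingAut F) := by
    ext a
    have h1 := congrArg (fun e : F ≃ₐ[FixedPoints.subfield (Subgroup.zpowers σ) F] F => e a) hg
    exact h1.symm
  rw [this]
  exact g.2

end Cfsg.Agent.Lib.Helper36.LocalBalance
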