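import Mathlib
import Cfsg.Agent.Lib.Helper36.LocalBalance.Abs

set_option autoImplicit false

/-!
# A variant of the abstract local-balance lemma: `E` need only have trivial `p'`-core
-/

namespace Cfsg.Agent.Lib.Helper36.LocalBalance

variable {K : Type*} [Group K]

/-- `⇒`: a subgroup `E` without non-trivial normal `p'`-subgroups, consisting of inner automorphisms
commuting with `x`, normalised by all such, with `C_{Aut K}(E) ≤ ⟨x⟩` and `x ^ p = 1`,
forces the `p'`-core of `C_A(x)` to be trivial -/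
theorem core_eq_bot_of_noNormal [Finite K] (A : Subgroup (MulAut K)) (x : MulAut K) (p : ℕ)
    [Fact p.Prime] (hinn : Cfsg.Inn K ≤ A) (hxp : x ^ p = 1)
    (E : Subgroup (MulAut K)) (hEI : E ≤ Cfsg.Inn K ⊓ Subgroup.centralizer {x})
    (hEP : ∀ M : Subgroup ↥E, M.Normal → (Nat.card ↥M).Coprime p → M = ⊥)
    (hEn : ∀ b ∈ Cfsg.Inn K ⊓ Subgroup.centralizer {x}, ∀ e ∈ E, b * e * b⁻¹ ∈ E)
    (hEc : ∀ a : MulAut K, (∀ e ∈ E, a * e = e * a) → a ∈ Subgroup.zpowers x) :
    Cfsg.pPrimeCore p ↥(A ⊓ Subgroup.centralizer {x}) = ⊥ := by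
  have hp : p.Prime := Fact.out
  set C : Subgroup (MulAut K) := A ⊓ Subgroup.centralizer {x} with hC
  set I' : Subgroup (MulAut K) := Cfsg.Inn K ⊓ Subgroup.centralizer {x} with hI'
  by_contra hcore
  obtain ⟨N, hNn, hNc, hNne⟩ := (pPrimeCore_ne_bot_iff p).mp hcore
  have hI'C : I' ≤ C := inf_le_inf_right _ hinn
  set N' : Subgroup (MulAut K) := N.map C.subtype with hN'
  have hN'C : N' ≤ C := by
    rintro _ ⟨n, -, rfl⟩
    exact n.2
  have hfin : Finite (MulAut K) :=
    Finite.of_injective (fun e : MulAut K => (e : K → K)) DFunLike.coe_injective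
  -- (a) `C` normalises `N'`
  have ha : ∀ c ∈ C, ∀ n ∈ N', c * n * c⁻¹ ∈ N' := by
    rintro c hc _ ⟨n, hn, rfl⟩
    refine ⟨⟨c, hc⟩ * n * ⟨c, hc⟩⁻¹, hNn.conj_mem n hn _, ?_⟩
    simp
  -- (b) cardinality
  have hb : (Nat.card ↥N').Coprime p := by
    rw [hN', ← Nat.card_congr (N.equivMapOfInjective C.subtype C.subtype_injective).toEquiv]
    exact hNc
  -- (c) elements of `N'` in `⟨x⟩` are trivial
  have hc : ∀ n ∈ N', n ∈ Subgroup.zpowers x → n = 1 := by
    intro n hn hnx
    obtain ⟨k, rfl⟩ := hnx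
    have h1 : (x ^ k) ^ p = 1 := by
      rw [← zpow_natCast, ← zpow_mul, mul_comm, zpow_mul, zpow_natCast, hxp, one_zpow]
    have h2 : orderOf (x ^ k) ∣ p := orderOf_dvd_of_pow_eq_one h1
    have h3 : orderOf (x ^ k) ∣ Nat.card ↥N' := by
      have := orderOf_dvd_natCard (⟨x ^ k, hn⟩ : ↥N')
      rwa [← Subgroup.orderOf_coe] at this
    have h4 : orderOf (x ^ k) ∣ 1 := by
      have := Nat.dvd_gcd h3 h2
      rwa [Nat.Coprime.gcd_eq_one hb] at this
    exact orderOf_eq_one_iff.mp (Nat.dvd_one.mp h4)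
  have hEC : E ≤ C := hEI.trans hI'C
  -- Step 1
  have h1 : ∀ n ∈ N', n ∈ E → n = 1 := by
    have hnorm : (N'.subgroupOf E).Normal := by
      constructor
      intro n hn e
      rw [Subgroup.mem_subgroupOf] at hn ⊢
      rw [Subgroup.coe_mul, Subgroup.coe_mul, Subgroup.coe_inv]
      exact ha _ (hEC e.2) _ hn
    have hcop : (Nat.card ↥(N'.subgroupOf E)).Coprime p := by
      have hdvd : Nat.card ↥(N'.subgroupOf E) ∣ Nat.card ↥N' := by
        rw [← Subgroup.inf_subgroupOf_right N' E,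
          Nat.card_congr (Subgroup.subgroupOfEquivOfLe (inf_le_right : N' ⊓ E ≤ E)).toEquiv]
        exact Subgroup.card_dvd_of_le inf_le_left
      exact Nat.Coprime.coprime_dvd_left hdvd hb
    have h := hEP _ hnorm hcop
    intro n hn hnE
    have : (⟨n, hnE⟩ : ↥E) ∈ N'.subgroupOf E := by
      rw [Subgroup.mem_subgroupOf]; exact hn
    rw [h, Subgroup.mem_bot] at this
    exact congrArg Subtype.val this
  -- Step 2
  have h2 : ∀ m ∈ N', m ∈ I' → m = 1 := by
    intro m hm hmI
    apply hc m hm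
    apply hEc
    intro e he
    have hcomm : m * e * m⁻¹ * e⁻¹ = 1 := by
      apply h1
      · have : m * e * m⁻¹ * e⁻¹ = m * (e * m⁻¹ * e⁻¹) := by group
        rw [this]
        exact Subgroup.mul_mem _ hm (ha e (hEC he) _ (Subgroup.inv_mem _ hm))
      · exact Subgroup.mul_mem _ (hEn m hmI e he) (Subgroup.inv_mem _ he)
    calc m * e = (m * e * m⁻¹ * e⁻¹) * (e * m) := by group
      _ = e * m := by rw [hcomm, one_mul]
  -- Step 3
  have h3 : ∀ n ∈ N', n = 1 := by
    intro n hn
    apply hc n hn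
    apply hEc
    intro e he
    have heI : e ∈ I' := hEI he
    have hnC : n ∈ C := hN'C hn
    have hcomm : n * e * n⁻¹ * e⁻¹ = 1 := by
      apply h2
      · have : n * e * n⁻¹ * e⁻¹ = n * (e * n⁻¹ * e⁻¹) := by group
        rw [this]
        exact Subgroup.mul_mem _ hn (ha e (hEC he) _ (Subgroup.inv_mem _ hn))
      · refine Subgroup.mul_mem _ ⟨?_, ?_⟩ (Subgroup.inv_mem _ heI)
        · exact (Cfsg.innNormal K).conj_mem _ heI.1 _
        · exact Subgroup.mul_mem _ (Subgroup.mul_mem _ hnC.2 heI.2) (Subgroup.inv_mem _ hnC.2)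
    calc n * e = (n * e * n⁻¹ * e⁻¹) * (e * n) := by group
      _ = e * n := by rw [hcomm, one_mul]
  apply hNne
  rw [eq_bot_iff]
  intro n hn
  rw [Subgroup.mem_bot]
  apply Subtype.ext
  exact h3 _ ⟨n, hn, rfl⟩


/-- a simple group of order divisible by `p` has no non-trivial normal `p'`-subgroup -/
theorem noNormal_of_simple {E : Type*} [Group E] [IsSimpleGroup E] (p : ℕ) [Fact p.Prime]
    (hEp : p ∣ Nat.card E) (M : Subgroup E) (hM : M.Normal) (hc : (Nat.card ↥M).Coprime p) :
    M = ⊥ := by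
  have hp : p.Prime := Fact.out
  rcases hM.eq_bot_or_eq_top with h | h
  · exact h
  · exfalso
    rw [h, Subgroup.card_top] at hc
    have := Nat.dvd_gcd hEp (dvd_refl p)
    rw [Nat.Coprime.gcd_eq_one hc] at this
    exact hp.one_lt.ne' (Nat.dvd_one.mp this)

/-- the property transfers along isomorphisms -/
theorem noNormal_of_equiv {E E' : Type*} [Group E] [Group E'] (e : E ≃* E') (p : ℕ)
    (h : ∀ M : Subgroup E', M.Normal → (Nat.card ↥M).Coprime p → M = ⊥)
    (M : Subgroup E) (hM : M.Normal) (hc : (Nat.card ↥M).Coprime p) : M = ⊥ := by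
  have h1 := h (M.map e.toMonoidHom) (hM.map _ e.surjective)
    (by rw [← Nat.card_congr (M.equivMapOfInjective e.toMonoidHom e.injective).toEquiv]; exact hc)
  exact (Subgroup.map_eq_bot_iff_of_injective M e.injective).mp h1

/-- the symmetric group on six letters has no non-trivial normal subgroup of order prime to a
prime divisor of `360` -/
theorem noNormal_perm_six (p : ℕ) (hp : p ∣ 360) (hp1 : p ≠ 1)
    (M : Subgroup (Equiv.Perm (Fin 6))) (hM : M.Normal) (hc : (Nat.card ↥M).Coprime p) :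
    M = ⊥ := by
  by_contra hne
  have hnt : Nontrivial ↥M := (Subgroup.nontrivial_iff_ne_bot M).mpr hne
  have hle : alternatingGroup (Fin 6) ≤ M :=
    Equiv.Perm.alternatingGroup_le_of_normal (by simp) hnt
  have h1 : Nat.card ↥(alternatingGroup (Fin 6)) ∣ Nat.card ↥M := Subgroup.card_dvd_of_le hle
  have h2 : Nat.card ↥(alternatingGroup (Fin 6)) = 360 := by
    have := two_mul_nat_card_alternatingGroup (α := Fin 6)
    rw [Nat.card_eq_fintype_card (α := Equiv.Perm (Fin 6)), Fintype.card_perm,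
      Fintype.card_fin] at this
    have h720 : Nat.factorial 6 = 720 := by decide
    rw [h720] at this
    omega
  rw [h2] at h1
  have h3 : p ∣ Nat.card ↥M := hp.trans h1
  have := Nat.dvd_gcd h3 (dvd_refl p)
  rw [Nat.Coprime.gcd_eq_one hc] at this
  exact hp1 (Nat.dvd_one.mp this)

end Cfsg.Agent.Lib.Helper36.LocalBalance
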