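import Mathlib
import Cfsg.Agent.Lib.Helper43.PSpCentralizer
import Cfsg.Agent.Lib.Helper43.PSpSplit
import Cfsg.Agent.Lib.Helper36.LocalBalance.Abs2

set_option autoImplicit false
set_option linter.unusedSectionVars false

/-!
# The subgroup `E = image of Sp_{2m}(F₀)` in the centraliser of a standard field automorphism of
`PSp_{2m}(F)`
-/

namespace Cfsg.Agent.Lib.Helper36.LocalBalance

open scoped MatrixGroups Matrix
open Matrix Cfsg.Agent.Lib.Helper45.PSLField Cfsg.Agent.Lib.Helper43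

variable {m : ℕ} {F : Type*} [Field F] {F₀ : Type*} [Field F₀]

/-- the image of `Sp_{2m}(F₀)` in `Aut(PSp_{2m}(F))` -/
noncomputable def EPSp (hm : 1 ≤ m) (j : F₀ →+* F) : Subgroup (MulAut (Cfsg.PSp m F)) :=
  ((gspMult hm : ↥(Cfsg.GSp m F₀) →* F₀ˣ).ker).map (subDiagPSp j)

theorem EPSp_le_Inn (hm : 1 ≤ m) (j : F₀ →+* F) :
    EPSp (m := m) hm j ≤ Cfsg.Inn (Cfsg.PSp m F) := by
  rintro _ ⟨A, hA, rfl⟩
  rw [subDiagPSp_apply, pspDiag_mem_inn_iff hm, gspMult_gspSub hm j A]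
  have hA' : gspMult hm A = 1 := hA
  rw [hA', map_one]
  exact ⟨1, by simp⟩

theorem EPSp_le_centralizer (hm : 1 ≤ m) (j : F₀ →+* F) (σ : RingAut F)
    (hj : ∀ a, σ (j a) = j a) :
    EPSp (m := m) hm j ≤ Subgroup.centralizer {(pspField σ : MulAut (Cfsg.PSp m F))} := by
  rintro _ ⟨A, -, rfl⟩
  rw [Subgroup.mem_centralizer_iff]
  intro h hh
  rw [Set.mem_singleton_iff] at hh
  subst hh
  exact subDiagPSp_comm σ j hj A

theorem Inn_le_inndiagPSp : Cfsg.Inn (Cfsg.PSp m F) ≤ Cfsg.inndiagPSp m F := by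
  intro t ht
  obtain ⟨s, rfl⟩ := (mem_inn_psp_iff t).mp ht
  exact pspDiag_mem_inndiagPSp _

section Cent

variable [Finite F] (hm : 1 ≤ m) (σ : RingAut F) {r : ℕ} (hr : 0 < r) (hσ : orderOf σ = r)
  (j : F₀ →+* F) (hj : ∀ a : F, σ a = a ↔ ∃ b, j b = a)

include hm hr hσ hj in
theorem inn_inf_centralizer_le_range_psp :
    Cfsg.Inn (Cfsg.PSp m F) ⊓ Subgroup.centralizer {(pspField σ : MulAut (Cfsg.PSp m F))} ≤
      (subDiagPSp j : ↥(Cfsg.GSp m F₀) →* MulAut (Cfsg.PSp m F)).range := by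
  intro b hb
  have hb' : b ∈ Cfsg.inndiagPSp m F ⊓ Subgroup.centralizer {pspField σ} :=
    ⟨Inn_le_inndiagPSp hb.1, hb.2⟩
  obtain ⟨A, hA⟩ := (mem_inndiag_centralizer_iff_psp hm σ hr hσ j hj b).mp hb'
  exact ⟨A, hA⟩

include hr hσ hj in
theorem EPSp_normalized :
    ∀ b ∈ Cfsg.Inn (Cfsg.PSp m F) ⊓
        Subgroup.centralizer {(pspField σ : MulAut (Cfsg.PSp m F))},
      ∀ e ∈ EPSp (m := m) hm j, b * e * b⁻¹ ∈ EPSp (m := m) hm j := by
  intro b hb e he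
  obtain ⟨B, rfl⟩ := inn_inf_centralizer_le_range_psp hm σ hr hσ j hj hb
  obtain ⟨A, hA, rfl⟩ := he
  refine ⟨B * A * B⁻¹, ?_, ?_⟩
  · exact (MonoidHom.normal_ker (gspMult hm : ↥(Cfsg.GSp m F₀) →* F₀ˣ)).conj_mem A hA B
  · rw [map_mul, map_mul, map_inv]

end Cent

/-- elements of `GSp` of multiplier one are symplectic -/
theorem exists_toGSp_of_gspMult_eq_one (hm : 1 ≤ m) (A : ↥(Cfsg.GSp m F))
    (hA : gspMult hm A = 1) :
    ∃ s : ↥(Matrix.symplecticGroup (Fin m) F), toGSp s = A := by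
  apply exists_toGSp_eq
  have h1 := gspMult_spec hm A
  rw [hA, Units.val_one] at h1
  have h2 := (transpose_J_mul_eq_iff _ 1).mp h1
  intro u v
  rw [h2 u v, one_mul]

/-- the homomorphism `Sp_{2m}(F₀) → Aut(PSp_{2m}(F))` -/
noncomputable def spToAut (j : F₀ →+* F) :
    ↥(Matrix.symplecticGroup (Fin m) F₀) →* MulAut (Cfsg.PSp m F) :=
  (subDiagPSp j).comp toGSp

theorem spToAut_range (hm : 1 ≤ m) (j : F₀ →+* F) :
    (spToAut (m := m) (F := F) j).range = EPSp (m := m) hm j := by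
  ext t
  constructor
  · rintro ⟨s, rfl⟩
    exact ⟨toGSp s, gspMult_toGSp hm s, rfl⟩
  · rintro ⟨A, hA, rfl⟩
    obtain ⟨s, rfl⟩ := exists_toGSp_of_gspMult_eq_one hm A hA
    exact ⟨s, rfl⟩

theorem center_le_ker_spToAut (hm : 1 ≤ m) (j : F₀ →+* F) :
    Subgroup.center ↥(Matrix.symplecticGroup (Fin m) F₀) ≤ (spToAut (m := m) (F := F) j).ker := by
  intro z hz
  have : Nonempty (Fin m) := ⟨⟨0, hm⟩⟩
  rw [MonoidHom.mem_ker]
  show subDiagPSp j (toGSp z) = 1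
  have hker := ker_subDiagPSp (F := F) hm j
  have hmem : toGSp z ∈ (subDiagPSp j : ↥(Cfsg.GSp m F₀) →* MulAut (Cfsg.PSp m F)).ker := by
    rw [hker, mem_scalars_subgroupOf_iff]
    rcases Cfsg.Agent.Lib.Helper5.symplecticGroup_center_eq_one_or_neg_one z hz with h | h
    · refine ⟨1, ?_⟩
      apply Subtype.ext
      apply Units.ext
      rw [toGSp_coe, h, map_one]
      rfl
    · refine ⟨-1, ?_⟩
      apply Subtype.ext
      apply Units.ext
      rw [toGSp_coe, h, scalarGSp_coe, Units.val_neg, Units.val_one, neg_smul, one_smul]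
  exact hmem

/-- the induced surjection `PSp_{2m}(F₀) → E` -/
noncomputable def pspToE (hm : 1 ≤ m) (j : F₀ →+* F) :
    Cfsg.PSp m F₀ →* MulAut (Cfsg.PSp m F) :=
  QuotientGroup.lift _ (spToAut (m := m) (F := F) j) (center_le_ker_spToAut hm j)

theorem pspToE_range (hm : 1 ≤ m) (j : F₀ →+* F) :
    (pspToE (m := m) (F := F) hm j).range = EPSp (m := m) hm j := by
  rw [← spToAut_range hm j]
  ext t
  constructor
  · rintro ⟨x, rfl⟩
    obtain ⟨s, rfl⟩ := QuotientGroup.mk_surjective x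
    exact ⟨s, rfl⟩
  · rintro ⟨s, rfl⟩
    exact ⟨QuotientGroup.mk s, rfl⟩

end Cfsg.Agent.Lib.Helper36.LocalBalance
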