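import Mathlib
import Cfsg.Agent.Lib.Helper36.LocalBalance.PSpE
import Cfsg.Agent.Lib.Helper36.LocalBalance.Decomp
import Cfsg.Agent.Lib.Helper36.LocalBalance.Galois
import Cfsg.Agent.Lib.Helper13.Symp

set_option autoImplicit false
set_option linter.unusedSectionVars false

/-!
# The centraliser of `E = image of Sp_{2m}(F₀)` among the standard automorphisms of `PSp_{2m}(F)`
is `⟨φ_σ⟩`
-/

namespace Cfsg.Agent.Lib.Helper36.LocalBalance

open scoped MatrixGroups Matrix
open Matrix Cfsg.Agent.Lib.Helper45.PSLField Cfsg.Agent.Lib.Helper43 Cfsg.Agent.Lib.Helper13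

variable {m : ℕ} {F : Type*} [Field F] {F₀ : Type*} [Field F₀]

/-- a conjugate of a unipotent `1 + N'` equal to a scalar multiple of a unipotent `1 + N`:
the scalar is `1` -/
theorem unip_scalar {n : Type*} [Fintype n] [DecidableEq n] [Nonempty n] (G : GL n F)
    (N N' : Matrix n n F) (hN : N * N = 0) (hN' : N' * N' = 0) (c : F)
    (h : (G : Matrix n n F) * (1 + N') = c • ((1 + N) * (G : Matrix n n F))) : c = 1 := by
  set Gi : Matrix n n F := ((G⁻¹ : GL n F) : Matrix n n F) with hGi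
  have hGGi : (G : Matrix n n F) * Gi = 1 := by
    rw [hGi, ← Units.val_mul, mul_inv_cancel, Units.val_one]
  set Y : Matrix n n F := (G : Matrix n n F) * N' * Gi with hY
  have hYY : Y * Y = 0 := by
    have hGiG : Gi * (G : Matrix n n F) = 1 := by
      rw [hGi, ← Units.val_mul, inv_mul_cancel, Units.val_one]
    calc Y * Y = (G : Matrix n n F) * N' * (Gi * (G : Matrix n n F)) * N' * Gi := by
          rw [hY]; simp only [Matrix.mul_assoc]
      _ = (G : Matrix n n F) * (N' * N') * Gi := by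
          rw [hGiG, Matrix.mul_one]; simp only [Matrix.mul_assoc]
      _ = 0 := by rw [hN', Matrix.mul_zero, Matrix.zero_mul]
  have h1 : 1 + Y = c • (1 + N) := by
    have h2 := congrArg (fun M : Matrix n n F => M * Gi) h
    simp only [Matrix.smul_mul] at h2
    rw [Matrix.mul_assoc (1 + N), hGGi, Matrix.mul_one, Matrix.mul_add, Matrix.mul_one,
      Matrix.add_mul, hGGi] at h2
    exact h2
  have hYeq : Y = (c - 1) • (1 : Matrix n n F) + c • N := by
    have : Y = c • (1 + N) - 1 := by rw [← h1]; abel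
    rw [this, smul_add, sub_smul, one_smul]
    abel
  -- `Y * Y = 0` expanded
  have h3 : ((c - 1) * (c - 1)) • (1 : Matrix n n F) + ((c - 1) * c + c * (c - 1)) • N = 0 := by
    have h4 : Y * Y = ((c - 1) * (c - 1)) • (1 : Matrix n n F) +
        ((c - 1) * c + c * (c - 1)) • N + (c * c) • (N * N) := by
      rw [hYeq]
      generalize c - 1 = a
      simp only [Matrix.add_mul, Matrix.mul_add, Matrix.smul_mul, Matrix.mul_smul, Matrix.one_mul,
        Matrix.mul_one, smul_smul, add_smul, smul_add]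
      abel
    rw [hYY, hN, smul_zero, add_zero] at h4
    exact h4.symm
  by_cases hN0 : N = 0
  · rw [hN0, smul_zero, add_zero] at h3
    obtain ⟨k₀⟩ := ‹Nonempty n›
    have h5 := congrFun (congrFun h3 k₀) k₀
    rw [Matrix.smul_apply, Matrix.one_apply_eq, Matrix.zero_apply, smul_eq_mul, mul_one] at h5
    rcases mul_eq_zero.mp h5 with h6 | h6 <;> exact sub_eq_zero.mp h6
  · have h5 := congrArg (fun M : Matrix n n F => M * N) h3
    simp only [Matrix.add_mul, Matrix.smul_mul, Matrix.one_mul, hN, smul_zero, add_zero,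
      Matrix.zero_mul] at h5
    by_contra hc
    apply hN0
    have h6 : (c - 1) * (c - 1) ≠ 0 := mul_ne_zero (sub_ne_zero.mpr hc) (sub_ne_zero.mpr hc)
    have h7 := congrArg (fun M : Matrix n n F => ((c - 1) * (c - 1))⁻¹ • M) h5
    simp only [smul_smul, inv_mul_cancel₀ h6, one_smul, smul_zero] at h7
    exact h7

theorem sympTransvection_sq_zero (v : Fin m ⊕ Fin m → F) :
    Matrix.vecMulVec v (Matrix.J (Fin m) F *ᵥ v) * Matrix.vecMulVec v (Matrix.J (Fin m) F *ᵥ v)
      = 0 := by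
  apply Matrix.ext_iff_mulVec.mpr
  intro x
  rw [← Matrix.mulVec_mulVec, Matrix.vecMulVec_mulVec, Matrix.vecMulVec_mulVec,
    Matrix.zero_mulVec]
  have h1 : (Matrix.J (Fin m) F *ᵥ v) ⬝ᵥ v = 0 := by
    rw [dotProduct_comm]
    exact sympForm_self v
  ext i
  simp only [Pi.smul_apply, MulOpposite.smul_eq_mul_unop, MulOpposite.unop_op, dotProduct_smul,
    Pi.zero_apply]
  rw [h1, zero_mul, mul_zero]

theorem exists_sympForm_ne_zero' {v : Fin m ⊕ Fin m → F} (hv : v ≠ 0) :
    ∃ u, Cfsg.sympForm m F u v ≠ 0 := by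
  obtain ⟨u, hu⟩ := Cfsg.Agent.Lib.Helper5.exists_sympForm_ne_zero hv
  refine ⟨u, ?_⟩
  rw [sympForm_swap]
  have : Cfsg.sympForm m F v u ≠ 0 := hu
  exact neg_ne_zero.mpr this

/-- the commutant of the symplectic transvections consists of scalar matrices -/
theorem scalar_of_commutes_transvections
    (M : Matrix (Fin m ⊕ Fin m) (Fin m ⊕ Fin m) F)
    (hM : ∀ v : Fin m ⊕ Fin m → F,
      M * Cfsg.sympTransvection m v 1 = Cfsg.sympTransvection m v 1 * M) :
    ∃ c : F, M = c • (1 : Matrix (Fin m ⊕ Fin m) (Fin m ⊕ Fin m) F) := by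
  have key : ∀ v : Fin m ⊕ Fin m → F, v ≠ 0 → ∃ c : F, M *ᵥ v = c • v := by
    intro v hv
    obtain ⟨u, hu⟩ := exists_sympForm_ne_zero' hv
    have h1 := congrArg (fun A : Matrix (Fin m ⊕ Fin m) (Fin m ⊕ Fin m) F => A *ᵥ u) (hM v)
    simp only [← Matrix.mulVec_mulVec, sympTransvection_mulVec, Matrix.mulVec_add,
      Matrix.mulVec_smul, one_mul] at h1
    have h2 : Cfsg.sympForm m F u v • M *ᵥ v = Cfsg.sympForm m F (M *ᵥ u) v • v :=
      add_left_cancel h1
    refine ⟨(Cfsg.sympForm m F u v)⁻¹ * Cfsg.sympForm m F (M *ᵥ u) v, ?_⟩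
    rw [mul_smul, ← h2, smul_smul, inv_mul_cancel₀ hu, one_smul]
  obtain ⟨a, ha⟩ := Cfsg.Agent.Lib.Helper5.eq_scalar_of_forall_mulVec_mem_span M key
  refine ⟨a, ?_⟩
  rw [ha, Matrix.smul_one_eq_diagonal]
  rfl

/-- **the standard automorphisms commuting with `E` lie in `⟨φ_σ⟩`** -/
theorem mem_zpowers_of_comm_EPSp [Finite F] (hm : 1 ≤ m) (j : F₀ →+* F) (σ : RingAut F)
    (hj : ∀ a : F, σ a = a ↔ ∃ b, j b = a)
    (a : MulAut (Cfsg.PSp m F)) (hstd : a ∈ stdAutPSp m F)
    (ha : ∀ e ∈ EPSp (m := m) hm j, a * e = e * a) :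
    a ∈ Subgroup.zpowers (pspField σ : MulAut (Cfsg.PSp m F)) := by
  obtain ⟨g, τ, rfl⟩ := hstd
  have hne : Nonempty (Fin m ⊕ Fin m) := ⟨Sum.inl ⟨0, hm⟩⟩
  set G : Matrix (Fin m ⊕ Fin m) (Fin m ⊕ Fin m) F :=
    ((g : GL (Fin m ⊕ Fin m) F) : Matrix (Fin m ⊕ Fin m) (Fin m ⊕ Fin m) F) with hG
  have hcomm : ∀ (v : Fin m ⊕ Fin m → F₀) (c : F₀),
      G * (((Cfsg.sympTransvection m v c).map j).map τ) =
        (Cfsg.sympTransvection m v c).map j * G := by
    intro v c
    set s : ↥(Matrix.symplecticGroup (Fin m) F₀) :=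
      ⟨Cfsg.sympTransvection m v c, sympTransvection_mem v c⟩ with hs
    set A : ↥(Cfsg.GSp m F₀) := toGSp s with hA
    have hAmult : gspMult hm A = 1 := gspMult_toGSp hm s
    set h : ↥(Cfsg.GSp m F) := gspSub j A with hh
    have he : subDiagPSp j A ∈ EPSp (m := m) (F := F) hm j := ⟨A, hAmult, rfl⟩
    have h1 := ha _ he
    rw [subDiagPSp_apply, ← hh] at h1
    have h3 : (pspDiag (g * gspMap τ h) : MulAut (Cfsg.PSp m F)) = pspDiag (h * g) := by
      have e1 : (pspDiag g : MulAut (Cfsg.PSp m F)) * pspField τ * pspDiag h =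
          pspDiag (g * gspMap τ h) * pspField τ := by
        rw [mul_assoc, pspField_mul_pspDiag, ← mul_assoc, ← map_mul]
      have e2 : (pspDiag h : MulAut (Cfsg.PSp m F)) * (pspDiag g * pspField τ) =
          pspDiag (h * g) * pspField τ := by
        rw [← mul_assoc, ← map_mul]
      rw [e1, e2] at h1
      exact mul_right_cancel h1
    have hX1 : (pspDiag ((h * g)⁻¹ * (g * gspMap τ h)) : MulAut (Cfsg.PSp m F)) = 1 := by
      rw [map_mul, map_inv, h3, inv_mul_cancel]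
    obtain ⟨c', hc'⟩ := (pspDiag_eq_one_iff hm _).mp hX1
    have h5 : g * gspMap τ h = (h * g) * scalarGSp c' := by
      rw [← hc', mul_inv_cancel_left]
    have h6 := congrArg (fun u : ↥(Cfsg.GSp m F) =>
      ((u : GL (Fin m ⊕ Fin m) F) : Matrix (Fin m ⊕ Fin m) (Fin m ⊕ Fin m) F)) h5
    simp only [Subgroup.coe_mul, Units.val_mul] at h6
    rw [gspMap_coe, scalarGSp_coe, Matrix.mul_smul, Matrix.mul_one] at h6
    have hH : ((h : GL (Fin m ⊕ Fin m) F) : Matrix (Fin m ⊕ Fin m) (Fin m ⊕ Fin m) F) =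
        (Cfsg.sympTransvection m v c).map j := rfl
    rw [hH] at h6
    -- unipotent form
    set W : Matrix (Fin m ⊕ Fin m) (Fin m ⊕ Fin m) F₀ :=
      Matrix.vecMulVec v (Matrix.J (Fin m) F₀ *ᵥ v) with hW
    set N : Matrix (Fin m ⊕ Fin m) (Fin m ⊕ Fin m) F := (c • W).map j with hN
    have hT : (Cfsg.sympTransvection m v c).map j = 1 + N := by
      unfold Cfsg.sympTransvection
      rw [Matrix.map_add _ (map_add j), Matrix.map_one _ (map_zero j) (map_one j)]
    have hNN : N * N = 0 := by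
      rw [hN, ← Matrix.map_mul, Matrix.smul_mul, Matrix.mul_smul, hW,
        sympTransvection_sq_zero, smul_zero, smul_zero, Matrix.map_zero _ (map_zero j)]
    have hTτ : (1 + N).map τ = 1 + N.map τ := by
      rw [Matrix.map_add _ (map_add τ), Matrix.map_one _ (map_zero τ) (map_one τ)]
    have hNN' : N.map τ * N.map τ = 0 := by
      have : (N * N).map τ = N.map τ * N.map τ := Matrix.map_mul (f := ((τ : F ≃+* F) : F →+* F))
      rw [← this, hNN, Matrix.map_zero _ (map_zero τ)]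
    rw [hT, hTτ] at h6
    have hc1 : (c' : F) = 1 := unip_scalar (g : GL (Fin m ⊕ Fin m) F) N (N.map τ) hNN hNN' _ h6
    rw [hc1, one_smul] at h6
    rw [hT, hTτ]
    exact h6
  -- the nilpotent matrix of a fixed transvection family
  set e₀ : Fin m ⊕ Fin m → F₀ := Pi.single (Sum.inl ⟨0, hm⟩) 1 with he₀
  set N₀ : Matrix (Fin m ⊕ Fin m) (Fin m ⊕ Fin m) F₀ :=
    Matrix.vecMulVec e₀ (Matrix.J (Fin m) F₀ *ᵥ e₀) with hN₀
  have he₀0 : e₀ ≠ 0 := by
    intro h0
    have := congrFun h0 (Sum.inl ⟨0, hm⟩)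
    simp [he₀] at this
  have hN₀0 : N₀ ≠ 0 := by
    intro h0
    obtain ⟨u, hu⟩ := exists_sympForm_ne_zero' he₀0
    have h1 := sympTransvection_mulVec e₀ 1 u
    unfold Cfsg.sympTransvection at h1
    rw [← hN₀, h0, smul_zero, add_zero, Matrix.one_mulVec, one_mul] at h1
    have h2 : Cfsg.sympForm m F₀ u e₀ • e₀ = 0 := by
      have := h1.symm
      rwa [add_eq_left] at this
    rcases smul_eq_zero.mp h2 with h3 | h3
    · exact hu h3
    · exact he₀0 h3
  obtain ⟨hτ, c, hc⟩ := cent_matrix j τ (g : GL (Fin m ⊕ Fin m) F)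
    {M | ∃ (v : Fin m ⊕ Fin m → F₀) (c : F₀), M = Cfsg.sympTransvection m v c}
    (by
      rintro M ⟨v, c, rfl⟩
      exact hcomm v c)
    N₀ hN₀0 (fun t => ⟨e₀, t, rfl⟩)
    (by
      intro M hM
      apply scalar_of_commutes_transvections M
      intro v
      exact hM _ ⟨v, 1, rfl⟩)
  have hτσ : τ ∈ Subgroup.zpowers σ := by
    apply mem_zpowers_of_fixes
    intro x hx
    obtain ⟨b, rfl⟩ := (hj x).mp hx
    exact hτ b
  obtain ⟨n, hn⟩ := hτσ
  have hc0 : c ≠ 0 := by
    intro h0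
    apply gsp_coe_ne_zero hm (g : GL (Fin m ⊕ Fin m) F)
    rw [hc, h0, zero_smul]
  have hg1 : (pspDiag g : MulAut (Cfsg.PSp m F)) = 1 := by
    rw [pspDiag_eq_one_iff hm]
    refine ⟨Units.mk0 c hc0, ?_⟩
    apply Subtype.ext
    apply Units.ext
    rw [scalarGSp_coe, Units.val_mk0]
    exact hc
  rw [hg1, one_mul]
  refine ⟨n, ?_⟩
  show (pspField σ : MulAut (Cfsg.PSp m F)) ^ n = pspField τ
  rw [← map_zpow]
  exact congrArg _ hn

end Cfsg.Agent.Lib.Helper36.LocalBalance
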