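import Mathlib
import Cfsg.Agent.Lib.Helper43.OSpin
import Cfsg.Agent.Lib.Helper36.ScalarCentral

set_option autoImplicit false

/-!
# The commutant of `Ω(Q)` in the matrix algebra is the scalars (odd characteristic, dim ≥ 5)
-/

namespace Cfsg.Agent.Lib.Helper36.LocalBalance

open Matrix Cfsg.Agent.Lib.Helper36 Cfsg.Agent.Lib.Helper43

variable {ι : Type} [Fintype ι] [DecidableEq ι] {F : Type*} [Field F] [Fintype F] [DecidableEq F]

/-- products of two reflections in vectors of equal non-zero norm lie in `Ω(Q)` -/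
theorem exists_OmegaGL_two_refl (Q : QuadraticForm F (ι → F))
    (hQ : (QuadraticMap.polarBilin Q).Nondegenerate) (h2 : (2 : F) ≠ 0)
    (hdim : 2 ≤ Fintype.card ι) (a b : ι → F) (ha : Q a ≠ 0) (hb : Q b = Q a) :
    ∃ A : GL ι F, A ∈ OmegaGL (⇑Q) ∧
      (A : Matrix ι ι F) = Cfsg.reflectionMatrix (⇑Q) a * Cfsg.reflectionMatrix (⇑Q) b := by
  have hb0 : Q b ≠ 0 := by rw [hb]; exact ha
  obtain ⟨g₀, hg₀S, hg₀mat, hspin⟩ := exists_special_two_refl Q hQ h2 a b ha hb0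
  refine ⟨g₀, ?_, hg₀mat⟩
  rw [mem_OmegaGL_iff_spin Q hQ h2 hdim g₀ hg₀S, hspin, hb, ← pow_two]
  exact quadraticChar_sq_one ha

theorem scalar_of_commutes_Omega (Q : QuadraticForm F (ι → F))
    (hQ : (QuadraticMap.polarBilin Q).Nondegenerate) (h2 : (2 : F) ≠ 0)
    (hdim : 5 ≤ Fintype.card ι) (M : Matrix ι ι F)
    (hM : ∀ A : GL ι F, A ∈ OmegaGL (⇑Q) → M * (A : Matrix ι ι F) = (A : Matrix ι ι F) * M) :
    ∃ c : F, M = c • (1 : Matrix ι ι F) := by
  have hdim' : 5 ≤ Module.finrank F (ι → F) := by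
    rw [Module.finrank_fintype_fun_eq_card]
    exact hdim
  have hpairs : CommutesWithPairs Q (Matrix.toLin' M) := by
    intro a b ha hb hab x
    obtain ⟨A, hA, hAmat⟩ := exists_OmegaGL_two_refl Q hQ h2 (by omega) a b ha hb
    have h1 := hM A hA
    rw [hAmat] at h1
    rw [Matrix.toLin'_apply, Matrix.toLin'_apply, ← reflectionMatrix_mulVec_eq_reflLin,
      ← reflectionMatrix_mulVec_eq_reflLin, ← reflectionMatrix_mulVec_eq_reflLin,
      ← reflectionMatrix_mulVec_eq_reflLin, Matrix.mulVec_mulVec, Matrix.mulVec_mulVec,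
      Matrix.mulVec_mulVec, Matrix.mulVec_mulVec, Matrix.mul_assoc M, h1]
  obtain ⟨c, hc⟩ := scalar_of_commutesWithPairs Q hQ h2 hdim' (Matrix.toLin' M) hpairs
  refine ⟨c, ?_⟩
  apply matrix_eq_smul_one_of_mulVec
  intro v
  rw [← Matrix.toLin'_apply]
  exact hc v

end Cfsg.Agent.Lib.Helper36.LocalBalance
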