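import Mathlib
import Cfsg.Agent.Lib.Helper36.LocalBalance.FieldE
import Cfsg.Agent.Lib.Helper36.LocalBalance.Decomp
import Cfsg.Agent.Lib.Helper36.LocalBalance.OmegaComm
import Cfsg.Agent.Lib.Helper36.LocalBalance.Galois

set_option autoImplicit false
set_option linter.unusedSectionVars false

/-!
# The centraliser of `E = image of Ω(Q₀)` in `Aut(PΩ(Q))` is `⟨φ_σ⟩` (odd dimension)
-/

namespace Cfsg.Agent.Lib.Helper36.LocalBalance

open scoped MatrixGroups Matrix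
open Matrix Cfsg.Agent.Lib.Helper45.PSLField Cfsg.Agent.Lib.Helper36 Cfsg.Agent.Lib.Helper44
  Cfsg.Agent.Lib.Helper43

variable {ι : Type} [Fintype ι] [DecidableEq ι] {F : Type*} [Field F] {F₀ : Type*} [Field F₀]

/-- a scalar isometry of determinant one in odd dimension is the identity -/
theorem scalar_eq_one_of_isometry (Q : QuadraticForm F (ι → F)) (X : GL ι F)
    (hX : X ∈ Cfsg.isometryGroup F (⇑Q)) (hdetX : Matrix.GeneralLinearGroup.det X = 1) (c : F)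
    (hc : (X : Matrix ι ι F) = c • (1 : Matrix ι ι F)) (hv : ∃ v : ι → F, Q v ≠ 0) (k : ℕ)
    (hcard : Fintype.card ι = 2 * k + 1) : c = 1 := by
  obtain ⟨v, hv⟩ := hv
  have h1 := (mem_isometryGroup_iff' (⇑Q) X).mp hX v
  rw [hc, Matrix.smul_mulVec, Matrix.one_mulVec, QuadraticMap.map_smul, smul_eq_mul] at h1
  have hcc : c * c = 1 := by
    have : c * c * Q v = 1 * Q v := by rw [h1, one_mul]
    exact mul_right_cancel₀ hv this
  have h3 : (X : Matrix ι ι F).det = 1 := by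
    have := congrArg Units.val hdetX
    rwa [Matrix.GeneralLinearGroup.val_det_apply] at this
  rw [hc, Matrix.det_smul, Matrix.det_one, mul_one, hcard, pow_succ, pow_mul, pow_two, hcc,
    one_pow, one_mul] at h3
  exact h3

section Main

variable (Q₀ : QuadraticForm F₀ (ι → F₀)) (Q : QuadraticForm F (ι → F))
  (j : F₀ →+* F) (hS : GramCompat j (⇑Q₀) (⇑Q)) (h2 : (2 : F) ≠ 0)
  (hdet : (gramStd (⇑Q)).det ≠ 0) [Finite F] [Nonempty ι] (hQ : FieldCompat (⇑Q))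
  (hker : OKernelProp hQ)

include hker in
/-- commuting with `E` in matrix terms -/
theorem matrix_comm_of_comm_EGroup (hv : ∃ v : ι → F, Q v ≠ 0) (k : ℕ)
    (hcard : Fintype.card ι = 2 * k + 1)
    (g : ↥(Cfsg.Geo.quadSimilarityGroup (⇑Q))) (τ : RingAut F)
    (ha : ∀ e ∈ EGroup Q₀ Q j hS h2 hdet,
      (simAut (⇑Q) g * oField hQ τ) * e = e * (simAut (⇑Q) g * oField hQ τ))
    (A : GL ι F₀) (hA : A ∈ OmegaGL (⇑Q₀)) :
    ((g : GL ι F) : Matrix ι ι F) * (((A : Matrix ι ι F₀).map j).map τ) =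
      (A : Matrix ι ι F₀).map j * ((g : GL ι F) : Matrix ι ι F) := by
  have hAsim : A ∈ Cfsg.Geo.quadSimilarityGroup (⇑Q₀) :=
    isometryGroup_le_similarity _ (OmegaGL_le_isometryGroup _ hA)
  set A' : ↥(Cfsg.Geo.quadSimilarityGroup (⇑Q₀)) := ⟨A, hAsim⟩ with hA'
  have hA'mem : A' ∈ omegaSim Q₀ := by
    unfold omegaSim
    rw [Subgroup.mem_subgroupOf]
    exact hA
  set h : ↥(Cfsg.Geo.quadSimilarityGroup (⇑Q)) := simSub Q₀ Q j hS h2 hdet A' with hh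
  have he : subSim Q₀ Q j hS h2 hdet A' ∈ EGroup Q₀ Q j hS h2 hdet := ⟨A', hA'mem, rfl⟩
  have h1 := ha _ he
  rw [subSim_apply, ← hh] at h1
  have h3 : simAut (⇑Q) (g * simMap hQ τ h) = simAut (⇑Q) (h * g) := by
    have e1 : simAut (⇑Q) g * oField hQ τ * simAut (⇑Q) h =
        simAut (⇑Q) (g * simMap hQ τ h) * oField hQ τ := by
      rw [mul_assoc, oField_mul_simAut, ← mul_assoc, ← map_mul]
    have e2 : simAut (⇑Q) h * (simAut (⇑Q) g * oField hQ τ) =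
        simAut (⇑Q) (h * g) * oField hQ τ := by
      rw [← mul_assoc, ← map_mul]
    rw [e1, e2] at h1
    exact mul_right_cancel h1
  set X : ↥(Cfsg.Geo.quadSimilarityGroup (⇑Q)) := (h * g)⁻¹ * (g * simMap hQ τ h) with hXdef
  have hX1 : simAut (⇑Q) X = 1 := by
    rw [hXdef, map_mul, map_inv, h3, inv_mul_cancel]
  obtain ⟨c, hc⟩ := (simAut_eq_one_iff_scalar Q hker X).mp hX1
  -- the two `Ω` elements
  have hhΩ : (h : GL ι F) ∈ OmegaGL (⇑Q) := glMap_mem_OmegaGL_of_hom Q₀ Q j hS h2 A hA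
  have hτhΩ : ((simMap hQ τ h : ↥(Cfsg.Geo.quadSimilarityGroup (⇑Q))) : GL ι F) ∈ OmegaGL (⇑Q) := by
    obtain ⟨s, hs, hsh⟩ := hhΩ
    refine ⟨(omegaField hQ τ ⟨s, hs⟩).1, (omegaField hQ τ ⟨s, hs⟩).2, ?_⟩
    apply Units.ext
    rw [simMap_coe, ← hsh]
    rfl
  have hh_sp := OmegaGL_le_special (⇑Q) hhΩ
  have hτh_sp := OmegaGL_le_special (⇑Q) hτhΩ
  have hXcoe : (X : GL ι F) = ((h : GL ι F) * (g : GL ι F))⁻¹ *
      ((g : GL ι F) * ((simMap hQ τ h : ↥(Cfsg.Geo.quadSimilarityGroup (⇑Q))) : GL ι F)) := rfl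
  have hXiso : (X : GL ι F) ∈ Cfsg.isometryGroup F (⇑Q) := by
    have hnorm := similarity_le_normalizer (⇑Q) (Subgroup.inv_mem _ g.2)
    rw [Subgroup.mem_normalizer_iff] at hnorm
    have h5 := (hnorm ((h : GL ι F)⁻¹)).mp (Subgroup.inv_mem _ hh_sp.1)
    have h6 : (X : GL ι F) = ((g : GL ι F)⁻¹ * (h : GL ι F)⁻¹ * ((g : GL ι F)⁻¹)⁻¹) *
        ((simMap hQ τ h : ↥(Cfsg.Geo.quadSimilarityGroup (⇑Q))) : GL ι F) := by
      rw [hXcoe]; group
    rw [h6]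
    exact Subgroup.mul_mem _ h5 hτh_sp.1
  have hXdet : Matrix.GeneralLinearGroup.det (X : GL ι F) = 1 := by
    have d1 : Matrix.GeneralLinearGroup.det (h : GL ι F) = 1 := hh_sp.2
    have d2 : Matrix.GeneralLinearGroup.det
        ((simMap hQ τ h : ↥(Cfsg.Geo.quadSimilarityGroup (⇑Q))) : GL ι F) = 1 := hτh_sp.2
    rw [hXcoe, map_mul, map_inv, map_mul, map_mul, d1, d2, one_mul, mul_one, inv_mul_cancel]
  have hc1 : c = 1 := scalar_eq_one_of_isometry Q (X : GL ι F) hXiso hXdet c hc hv k hcard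
  rw [hc1, one_smul] at hc
  have hX1' : (X : GL ι F) = 1 := Units.ext hc
  have h7 : (g : GL ι F) * ((simMap hQ τ h : ↥(Cfsg.Geo.quadSimilarityGroup (⇑Q))) : GL ι F) =
      (h : GL ι F) * (g : GL ι F) := by
    rw [hXcoe, inv_mul_eq_one] at hX1'
    exact hX1'.symm
  have h8 := congrArg (fun u : GL ι F => (u : Matrix ι ι F)) h7
  simp only [Units.val_mul] at h8
  rw [simMap_coe] at h8
  exact h8

include hker in
/-- **the centraliser of `E` in `Aut(PΩ(Q))` is contained in `⟨φ_σ⟩`** -/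
theorem mem_zpowers_of_comm_EGroup [Fintype F₀] [DecidableEq F₀] (hstd : OAllStd hQ)
    (σ : RingAut F) (hj : ∀ a : F, σ a = a ↔ ∃ b, j b = a)
    (hnd₀ : (QuadraticMap.polarBilin Q₀).Nondegenerate) (h2₀ : (2 : F₀) ≠ 0)
    (hdim : 5 ≤ Fintype.card ι) (k : ℕ) (hcard : Fintype.card ι = 2 * k + 1)
    (hv : ∃ v : ι → F, Q v ≠ 0)
    (N₀ : Matrix ι ι F₀) (hN₀ : N₀ ≠ 0)
    (hu : ∀ t : F₀, ∃ A : GL ι F₀, A ∈ OmegaGL (⇑Q₀) ∧ (A : Matrix ι ι F₀) = 1 + t • N₀)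
    (a : MulAut (Cfsg.POmega F (⇑Q)))
    (ha : ∀ e ∈ EGroup Q₀ Q j hS h2 hdet, a * e = e * a) :
    a ∈ Subgroup.zpowers (oField hQ σ) := by
  obtain ⟨g, τ, rfl⟩ := hstd a
  have hcomm := matrix_comm_of_comm_EGroup Q₀ Q j hS h2 hdet hQ hker hv k hcard g τ ha
  obtain ⟨hτ, c, hc⟩ := cent_matrix j τ (g : GL ι F)
    {M | ∃ A : GL ι F₀, A ∈ OmegaGL (⇑Q₀) ∧ (A : Matrix ι ι F₀) = M}
    (by
      rintro M ⟨A, hA, rfl⟩
      exact hcomm A hA)
    N₀ hN₀ (fun t => hu t)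
    (by
      intro M hM
      apply scalar_of_commutes_Omega Q₀ hnd₀ h2₀ hdim M
      intro A hA
      exact hM _ ⟨A, hA, rfl⟩)
  have hτσ : τ ∈ Subgroup.zpowers σ := by
    apply mem_zpowers_of_fixes
    intro x hx
    obtain ⟨b, rfl⟩ := (hj x).mp hx
    exact hτ b
  obtain ⟨n, hn⟩ := hτσ
  have hg1 : simAut (⇑Q) g = 1 := simAut_eq_one_of_scalar (⇑Q) g c hc
  rw [hg1, one_mul]
  refine ⟨n, ?_⟩
  show oField hQ σ ^ n = oField hQ τ
  rw [← map_zpow]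
  exact congrArg _ hn

include hker in
/-- `E` is non-trivial -/
theorem EGroup_ne_bot (N₀ : Matrix ι ι F₀) (hN₀ : N₀ ≠ 0) (hNN : N₀ * N₀ = 0)
    (A : GL ι F₀) (hA : A ∈ OmegaGL (⇑Q₀)) (hAm : (A : Matrix ι ι F₀) = 1 + N₀) :
    EGroup Q₀ Q j hS h2 hdet ≠ ⊥ := by
  intro hbot
  have hAsim : A ∈ Cfsg.Geo.quadSimilarityGroup (⇑Q₀) :=
    isometryGroup_le_similarity _ (OmegaGL_le_isometryGroup _ hA)
  set A' : ↥(Cfsg.Geo.quadSimilarityGroup (⇑Q₀)) := ⟨A, hAsim⟩ with hA'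
  have hA'mem : A' ∈ omegaSim Q₀ := by
    unfold omegaSim
    rw [Subgroup.mem_subgroupOf]
    exact hA
  have he : subSim Q₀ Q j hS h2 hdet A' ∈ EGroup Q₀ Q j hS h2 hdet := ⟨A', hA'mem, rfl⟩
  rw [hbot, Subgroup.mem_bot, subSim_eq_one_iff Q₀ Q j hS h2 hdet hker] at he
  obtain ⟨c, hc⟩ := he
  have h1 : N₀ = (c - 1) • (1 : Matrix ι ι F₀) := by
    have : (A : Matrix ι ι F₀) = c • (1 : Matrix ι ι F₀) := hc
    rw [hAm] at this
    rw [sub_smul, one_smul, ← this]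
    abel
  obtain ⟨k₀⟩ := ‹Nonempty ι›
  have h3 := congrFun (congrFun hNN k₀) k₀
  rw [h1, Matrix.smul_mul, Matrix.mul_smul, Matrix.one_mul, smul_smul, Matrix.smul_apply,
    Matrix.one_apply_eq, Matrix.zero_apply, smul_eq_mul, mul_one] at h3
  have h4 : c - 1 = 0 := by
    rcases mul_eq_zero.mp h3 with h | h <;> exact h
  apply hN₀
  rw [h1, h4, zero_smul]

end Main

end Cfsg.Agent.Lib.Helper36.LocalBalance
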