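import Mathlib
import Cfsg.Agent.Lib.Helper45.PSLField.Centralizer
import Cfsg.Agent.Lib.Helper43.PSLnTwist
import Cfsg.Agent.Lib.Helper43.PSLnAutCard
import Cfsg.Agent.Lib.Helper36.LocalBalance.Abs2

set_option autoImplicit false
set_option linter.unusedSectionVars false

/-!
# The subgroup `E = image of SL_n(F₀)` in the centraliser of a standard field automorphism of
`PSL_n(F)`
-/

namespace Cfsg.Agent.Lib.Helper36.LocalBalance

open scoped MatrixGroups Matrix
open Matrix Cfsg.Agent.Lib.Helper45.PSLField Cfsg.Agent.Lib.Helper43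

variable {n : ℕ} {F : Type*} [Field F] {F₀ : Type*} [Field F₀]

/-- the image of `SL_n(F₀)` in `Aut(PSL_n(F))` -/
noncomputable def EPSL (j : F₀ →+* F) :
    Subgroup (MulAut (Matrix.ProjectiveSpecialLinearGroup (Fin n) F)) :=
  ((Matrix.GeneralLinearGroup.det : GL (Fin n) F₀ →* F₀ˣ).ker).map (subDiag j)

theorem det_glMap_coe (j : F₀ →+* F) (A : GL (Fin n) F₀) :
    ((Matrix.GeneralLinearGroup.map j A : GL (Fin n) F) : Matrix (Fin n) (Fin n) F).det =
      j ((A : Matrix (Fin n) (Fin n) F₀).det) := by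
  rw [RingHom.map_det]
  rfl

/-- a matrix of determinant one gives an inner automorphism -/
theorem pslDiag_mem_inn_of_det (g : GL (Fin n) F)
    (hg : (g : Matrix (Fin n) (Fin n) F).det = 1) :
    (pslDiag g : MulAut (Matrix.ProjectiveSpecialLinearGroup (Fin n) F)) ∈
      Cfsg.Inn (Matrix.ProjectiveSpecialLinearGroup (Fin n) F) := by
  set s : Matrix.SpecialLinearGroup (Fin n) F := ⟨(g : Matrix (Fin n) (Fin n) F), hg⟩ with hs
  have h1 : Matrix.SpecialLinearGroup.toGL s = g := by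
    apply Units.ext
    rfl
  rw [← h1, pslDiag_toGL]
  exact ⟨_, rfl⟩

theorem EPSL_le_Inn (j : F₀ →+* F) :
    EPSL (n := n) j ≤ Cfsg.Inn (Matrix.ProjectiveSpecialLinearGroup (Fin n) F) := by
  rintro _ ⟨A, hA, rfl⟩
  rw [subDiag_apply]
  apply pslDiag_mem_inn_of_det
  rw [det_glMap_coe]
  have hA' : Matrix.GeneralLinearGroup.det A = 1 := hA
  have h2 : (A : Matrix (Fin n) (Fin n) F₀).det = 1 := by
    have := congrArg Units.val hA'
    simpa using this
  rw [h2, map_one]

theorem EPSL_le_centralizer (j : F₀ →+* F) (σ : RingAut F) (hj : ∀ a, σ (j a) = j a) :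
    EPSL (n := n) j ≤ Subgroup.centralizer
      {(pslField σ : MulAut (Matrix.ProjectiveSpecialLinearGroup (Fin n) F))} := by
  rintro _ ⟨A, -, rfl⟩
  rw [Subgroup.mem_centralizer_iff]
  intro h hh
  rw [Set.mem_singleton_iff] at hh
  subst hh
  exact subDiag_comm σ j hj A

theorem Inn_le_inndiagPSL :
    Cfsg.Inn (Matrix.ProjectiveSpecialLinearGroup (Fin n) F) ≤ Cfsg.inndiagPSL n F := by
  rintro _ ⟨x, rfl⟩
  obtain ⟨s, rfl⟩ := QuotientGroup.mk_surjective x
  rw [mem_inndiagPSL_iff]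
  exact ⟨_, pslDiag_toGL s⟩

section Cent

variable [Finite F] (hn : 2 ≤ n) (σ : RingAut F) {r : ℕ} (hr : 0 < r) (hσ : orderOf σ = r)
  (j : F₀ →+* F) (hj : ∀ a : F, σ a = a ↔ ∃ b, j b = a)

include hn hr hσ hj in
theorem inn_inf_centralizer_le_range_psl :
    Cfsg.Inn (Matrix.ProjectiveSpecialLinearGroup (Fin n) F) ⊓ Subgroup.centralizer
        {(pslField σ : MulAut (Matrix.ProjectiveSpecialLinearGroup (Fin n) F))} ≤
      (subDiag j : GL (Fin n) F₀ →* MulAut (Matrix.ProjectiveSpecialLinearGroup (Fin n) F)).range := by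
  intro b hb
  have hb' : b ∈ Cfsg.inndiagPSL n F ⊓ Subgroup.centralizer {pslField σ} :=
    ⟨Inn_le_inndiagPSL hb.1, hb.2⟩
  obtain ⟨A, hA⟩ := (mem_inndiag_centralizer_iff hn σ hr hσ j hj b).mp hb'
  exact ⟨A, hA⟩

include hn hr hσ hj in
theorem EPSL_normalized :
    ∀ b ∈ Cfsg.Inn (Matrix.ProjectiveSpecialLinearGroup (Fin n) F) ⊓
        Subgroup.centralizer
          {(pslField σ : MulAut (Matrix.ProjectiveSpecialLinearGroup (Fin n) F))},
      ∀ e ∈ EPSL (n := n) j, b * e * b⁻¹ ∈ EPSL (n := n) j := by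
  intro b hb e he
  obtain ⟨B, rfl⟩ := inn_inf_centralizer_le_range_psl hn σ hr hσ j hj hb
  obtain ⟨A, hA, rfl⟩ := he
  refine ⟨B * A * B⁻¹, ?_, ?_⟩
  · exact (MonoidHom.normal_ker (Matrix.GeneralLinearGroup.det : GL (Fin n) F₀ →* F₀ˣ)).conj_mem
      A hA B
  · rw [map_mul, map_mul, map_inv]

end Cent

/-- the homomorphism `SL_n(F₀) → Aut(PSL_n(F))` -/
noncomputable def slToAut (j : F₀ →+* F) :
    Matrix.SpecialLinearGroup (Fin n) F₀ →* MulAut (Matrix.ProjectiveSpecialLinearGroup (Fin n) F) :=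
  (subDiag j).comp Matrix.SpecialLinearGroup.toGL

theorem slToAut_range (j : F₀ →+* F) :
    (slToAut (n := n) (F := F) j).range = EPSL (n := n) j := by
  ext t
  constructor
  · rintro ⟨s, rfl⟩
    refine ⟨Matrix.SpecialLinearGroup.toGL s, ?_, rfl⟩
    show Matrix.GeneralLinearGroup.det (Matrix.SpecialLinearGroup.toGL s) = 1
    apply Units.ext
    rw [Matrix.GeneralLinearGroup.val_det_apply]
    exact s.2
  · rintro ⟨A, hA, rfl⟩
    have hA' : Matrix.GeneralLinearGroup.det A = 1 := hA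
    have h2 : (A : Matrix (Fin n) (Fin n) F₀).det = 1 := by
      have := congrArg Units.val hA'
      simpa using this
    refine ⟨⟨(A : Matrix (Fin n) (Fin n) F₀), h2⟩, ?_⟩
    show subDiag j (Matrix.SpecialLinearGroup.toGL _) = subDiag j A
    congr 1
    apply Units.ext
    rfl

theorem ker_slToAut (hn : 2 ≤ n) (j : F₀ →+* F) :
    (slToAut (n := n) (F := F) j).ker =
      Subgroup.center (Matrix.SpecialLinearGroup (Fin n) F₀) := by
  ext s
  rw [MonoidHom.mem_ker]
  show subDiag j (Matrix.SpecialLinearGroup.toGL s) = 1 ↔ _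
  rw [← MonoidHom.mem_ker, ker_subDiag (F := F) hn j,
    Matrix.GeneralLinearGroup.center_eq_range_scalar, Matrix.SpecialLinearGroup.mem_center_iff]
  constructor
  · rintro ⟨c, hc⟩
    have h1 := congrArg (fun g : GL (Fin n) F₀ => (g : Matrix (Fin n) (Fin n) F₀)) hc
    simp only [Matrix.GeneralLinearGroup.coe_scalar, Matrix.SpecialLinearGroup.coe_GL_coe_matrix] at h1
    have hpow : (c : F₀) ^ Fintype.card (Fin n) = 1 := by
      have h2 := s.2
      rw [← h1] at h2
      simpa using h2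
    exact ⟨(c : F₀), hpow, h1⟩
  · rintro ⟨c, hc, hcs⟩
    have hc0 : c ≠ 0 := by
      intro h0
      have hpos : 0 < Fintype.card (Fin n) := by rw [Fintype.card_fin]; omega
      rw [h0, zero_pow hpos.ne'] at hc
      exact zero_ne_one hc
    refine ⟨Units.mk0 c hc0, ?_⟩
    apply Units.ext
    rw [Matrix.GeneralLinearGroup.coe_scalar, Units.val_mk0, hcs]
    rfl

/-- the induced map `PSL_n(F₀) → Aut(PSL_n(F))` -/
noncomputable def pslToE (hn : 2 ≤ n) (j : F₀ →+* F) :
    Matrix.ProjectiveSpecialLinearGroup (Fin n) F₀ →*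
      MulAut (Matrix.ProjectiveSpecialLinearGroup (Fin n) F) :=
  QuotientGroup.lift _ (slToAut (n := n) (F := F) j) (le_of_eq (ker_slToAut hn j).symm)

theorem pslToE_range (hn : 2 ≤ n) (j : F₀ →+* F) :
    (pslToE (n := n) (F := F) hn j).range = EPSL (n := n) j := by
  rw [← slToAut_range j]
  ext t
  constructor
  · rintro ⟨x, rfl⟩
    obtain ⟨s, rfl⟩ := QuotientGroup.mk_surjective x
    exact ⟨s, rfl⟩
  · rintro ⟨s, rfl⟩
    exact ⟨QuotientGroup.mk s, rfl⟩

theorem pslToE_injective (hn : 2 ≤ n) (j : F₀ →+* F) :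
    Function.Injective (pslToE (n := n) (F := F) hn j) := by
  rw [injective_iff_map_eq_one]
  intro x hx
  obtain ⟨s, rfl⟩ := QuotientGroup.mk_surjective x
  have h1 : slToAut (n := n) (F := F) j s = 1 := hx
  rw [QuotientGroup.eq_one_iff, ← ker_slToAut (F := F) hn j]
  exact h1

/-- `E ≃ PSL_n(F₀)` -/
theorem nonempty_EPSL_equiv (hn : 2 ≤ n) (j : F₀ →+* F) :
    Nonempty (Matrix.ProjectiveSpecialLinearGroup (Fin n) F₀ ≃* ↥(EPSL (n := n) (F := F) j)) := by
  have e := MonoidHom.ofInjective (pslToE_injective (n := n) (F := F) hn j)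
  rw [pslToE_range] at e
  exact ⟨e⟩

end Cfsg.Agent.Lib.Helper36.LocalBalance
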