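import Mathlib
import Cfsg.Agent.Lib.Helper36.LocalBalance.PSLE
import Cfsg.Agent.Lib.Helper36.LocalBalance.PSpCent
import Cfsg.Agent.Lib.Helper43.PSLnAutStd

set_option autoImplicit false
set_option linter.unusedSectionVars false

/-!
# The centraliser of `E = image of SL_n(F₀)` in `Aut(PSL_n(F))` (standard automorphisms) is
`⟨φ_σ⟩`
-/

namespace Cfsg.Agent.Lib.Helper36.LocalBalance

open scoped MatrixGroups Matrix
open Matrix Cfsg.Agent.Lib.Helper45.PSLField Cfsg.Agent.Lib.Helper43

variable {n : ℕ} {F : Type*} [Field F] {F₀ : Type*} [Field F₀]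

/-- the transvection `1 + t E_{kl}` in `SL_n(F₀)` -/
def tSL (k l : Fin n) (hkl : k ≠ l) (t : F₀) : Matrix.SpecialLinearGroup (Fin n) F₀ :=
  ⟨Matrix.transvection k l t, Matrix.det_transvection_of_ne k l hkl t⟩

theorem subDiag_toGL_mem (j : F₀ →+* F) (s : Matrix.SpecialLinearGroup (Fin n) F₀) :
    (subDiag j (Matrix.SpecialLinearGroup.toGL s) :
      MulAut (Matrix.ProjectiveSpecialLinearGroup (Fin n) F)) ∈ EPSL (n := n) j := by
  rw [← slToAut_range]
  exact ⟨s, rfl⟩

theorem map_transvection {R S : Type*} [CommRing R] [CommRing S] (f : R →+* S) (k l : Fin n)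
    (t : R) : (Matrix.transvection k l t).map f = Matrix.transvection k l (f t) := by
  unfold Matrix.transvection
  rw [Matrix.map_add _ (map_add f), Matrix.map_one _ (map_zero f) (map_one f),
    Matrix.map_single]

theorem single_mul_single_self_of_ne (k l : Fin n) (hkl : k ≠ l) (a b : F) :
    (Matrix.single k l a : Matrix (Fin n) (Fin n) F) * Matrix.single k l b = 0 := by
  rw [Matrix.single_mul_single_of_ne _ _ _ _ (Ne.symm hkl)]

/-- the relation forced by commutation with a transvection of `E`, no graph part -/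
theorem comm_transvection (hn : 2 ≤ n) (j : F₀ →+* F) (g : GL (Fin n) F) (τ : RingAut F)
    (k l : Fin n) (hkl : k ≠ l) (t : F₀)
    (h : (pslDiag g * pslField τ : MulAut (Matrix.ProjectiveSpecialLinearGroup (Fin n) F)) *
        subDiag j (Matrix.SpecialLinearGroup.toGL (tSL k l hkl t)) =
      subDiag j (Matrix.SpecialLinearGroup.toGL (tSL k l hkl t)) * (pslDiag g * pslField τ)) :
    (g : Matrix (Fin n) (Fin n) F) * Matrix.transvection k l (τ (j t)) =
      Matrix.transvection k l (j t) * (g : Matrix (Fin n) (Fin n) F) := by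
  have hne : Nonempty (Fin n) := ⟨⟨0, by omega⟩⟩
  set hh : GL (Fin n) F :=
    Matrix.GeneralLinearGroup.map j (Matrix.SpecialLinearGroup.toGL (tSL k l hkl t)) with hhh
  rw [subDiag_apply, ← hhh] at h
  have h3 : (pslDiag (g * Matrix.GeneralLinearGroup.map (τ : F →+* F) hh) :
      MulAut (Matrix.ProjectiveSpecialLinearGroup (Fin n) F)) = pslDiag (hh * g) := by
    have e1 : (pslDiag g : MulAut (Matrix.ProjectiveSpecialLinearGroup (Fin n) F)) * pslField τ *
        pslDiag hh = pslDiag (g * Matrix.GeneralLinearGroup.map (τ : F →+* F) hh) * pslField τ := by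
      rw [mul_assoc, pslField_mul_pslDiag, ← mul_assoc, ← map_mul]
    have e2 : (pslDiag hh : MulAut (Matrix.ProjectiveSpecialLinearGroup (Fin n) F)) *
        (pslDiag g * pslField τ) = pslDiag (hh * g) * pslField τ := by
      rw [← mul_assoc, ← map_mul]
    rw [e1, e2] at h
    exact mul_right_cancel h
  obtain ⟨c, hc⟩ := (pslDiag_eq_iff hn _ _).mp h3
  have h6 := congrArg (fun u : GL (Fin n) F => (u : Matrix (Fin n) (Fin n) F)) hc
  simp only [Units.val_mul] at h6
  rw [scalar_coe, Matrix.smul_mul, Matrix.one_mul] at h6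
  have hH : (hh : Matrix (Fin n) (Fin n) F) = Matrix.transvection k l (j t) := by
    rw [← map_transvection]
    rfl
  have hH' : ((Matrix.GeneralLinearGroup.map (τ : F →+* F) hh : GL (Fin n) F) :
      Matrix (Fin n) (Fin n) F) = Matrix.transvection k l (τ (j t)) := by
    have : ((Matrix.GeneralLinearGroup.map (τ : F →+* F) hh : GL (Fin n) F) :
      Matrix (Fin n) (Fin n) F) = (hh : Matrix (Fin n) (Fin n) F).map (τ : F →+* F) := rfl
    rw [this, hH, map_transvection]
    rfl
  rw [hH, hH'] at h6
  have hc1 : (c : F) = 1 := by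
    apply unip_scalar g (Matrix.single k l (j t)) (Matrix.single k l (τ (j t)))
      (single_mul_single_self_of_ne k l hkl _ _) (single_mul_single_self_of_ne k l hkl _ _)
    exact h6
  rw [hc1, one_smul] at h6
  exact h6

/-- the relation forced by commutation with a transvection of `E`, with graph part -/
theorem comm_transvection_graph (hn : 2 ≤ n) (j : F₀ →+* F) (g : GL (Fin n) F) (τ : RingAut F)
    (k l : Fin n) (hkl : k ≠ l) (t : F₀)
    (h : (pslDiag g * pslField τ * pslInvT :
          MulAut (Matrix.ProjectiveSpecialLinearGroup (Fin n) F)) *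
        subDiag j (Matrix.SpecialLinearGroup.toGL (tSL k l hkl t)) =
      subDiag j (Matrix.SpecialLinearGroup.toGL (tSL k l hkl t)) *
        (pslDiag g * pslField τ * pslInvT)) :
    (g : Matrix (Fin n) (Fin n) F) * Matrix.transvection l k (- τ (j t)) =
      Matrix.transvection k l (j t) * (g : Matrix (Fin n) (Fin n) F) := by
  have hne : Nonempty (Fin n) := ⟨⟨0, by omega⟩⟩
  set hh : GL (Fin n) F :=
    Matrix.GeneralLinearGroup.map j (Matrix.SpecialLinearGroup.toGL (tSL k l hkl t)) with hhh
  rw [subDiag_apply, ← hhh] at h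
  have h3 : (pslDiag (g * Matrix.GeneralLinearGroup.map (τ : F →+* F) (glInvT hh)) :
      MulAut (Matrix.ProjectiveSpecialLinearGroup (Fin n) F)) = pslDiag (hh * g) := by
    have e1 : (pslDiag g : MulAut (Matrix.ProjectiveSpecialLinearGroup (Fin n) F)) * pslField τ *
        pslInvT * pslDiag hh =
        pslDiag (g * Matrix.GeneralLinearGroup.map (τ : F →+* F) (glInvT hh)) *
          (pslField τ * pslInvT) := by
      rw [mul_assoc _ pslInvT, pslInvT_mul_pslDiag, ← mul_assoc, mul_assoc (pslDiag g),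
        pslField_mul_pslDiag, ← mul_assoc, ← map_mul, mul_assoc]
    have e2 : (pslDiag hh : MulAut (Matrix.ProjectiveSpecialLinearGroup (Fin n) F)) *
        (pslDiag g * pslField τ * pslInvT) = pslDiag (hh * g) * (pslField τ * pslInvT) := by
      rw [map_mul]
      simp only [mul_assoc]
    rw [e1, e2] at h
    exact mul_right_cancel h
  obtain ⟨c, hc⟩ := (pslDiag_eq_iff hn _ _).mp h3
  have h6 := congrArg (fun u : GL (Fin n) F => (u : Matrix (Fin n) (Fin n) F)) hc
  simp only [Units.val_mul] at h6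
  rw [scalar_coe, Matrix.smul_mul, Matrix.one_mul] at h6
  have hH : (hh : Matrix (Fin n) (Fin n) F) = Matrix.transvection k l (j t) := by
    rw [← map_transvection]
    rfl
  have hHinv : ((hh⁻¹ : GL (Fin n) F) : Matrix (Fin n) (Fin n) F) =
      Matrix.transvection k l (- j t) := by
    rw [Matrix.coe_units_inv, hH]
    apply Matrix.inv_eq_right_inv
    rw [Matrix.transvection_mul_transvection_same k l hkl, add_neg_cancel,
      Matrix.transvection_zero]
  have hT : (Matrix.transvection k l (- j t) : Matrix (Fin n) (Fin n) F)ᵀ =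
      Matrix.transvection l k (- j t) := by
    unfold Matrix.transvection
    rw [Matrix.transpose_add, Matrix.transpose_one, Matrix.transpose_single]
  have hH' : ((Matrix.GeneralLinearGroup.map (τ : F →+* F) (glInvT hh) : GL (Fin n) F) :
      Matrix (Fin n) (Fin n) F) = Matrix.transvection l k (- τ (j t)) := by
    have : ((Matrix.GeneralLinearGroup.map (τ : F →+* F) (glInvT hh) : GL (Fin n) F) :
      Matrix (Fin n) (Fin n) F) =
        ((glInvT hh : GL (Fin n) F) : Matrix (Fin n) (Fin n) F).map (τ : F →+* F) := rfl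
    rw [this, glInvT_coe, hHinv, hT, map_transvection, map_neg]
    rfl
  rw [hH, hH'] at h6
  have hc1 : (c : F) = 1 := by
    apply unip_scalar g (Matrix.single k l (j t)) (Matrix.single l k (- τ (j t)))
      (single_mul_single_self_of_ne k l hkl _ _) (single_mul_single_self_of_ne l k hkl.symm _ _)
    exact h6
  rw [hc1, one_smul] at h6
  exact h6

/-- for `n ≥ 3` no automorphism with a graph part commutes with all of `E` -/
theorem not_comm_EPSL_graph (hn : 3 ≤ n) (j : F₀ →+* F) (g : GL (Fin n) F) (τ : RingAut F)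
    (ha : ∀ e ∈ EPSL (n := n) j,
      (pslDiag g * pslField τ * pslInvT :
          MulAut (Matrix.ProjectiveSpecialLinearGroup (Fin n) F)) * e =
        e * (pslDiag g * pslField τ * pslInvT)) : False := by
  apply gl_coe_ne_zero (by omega : 1 ≤ n) g
  ext a b
  rw [Matrix.zero_apply]
  -- choose `k ∉ {a, b}`
  obtain ⟨k, hka, hkb⟩ : ∃ k : Fin n, k ≠ a ∧ k ≠ b := by
    by_contra hcon
    have hcon : ∀ k : Fin n, k ≠ a → k = b := by
      intro k hk
      by_contra hkb
      exact hcon ⟨k, hk, hkb⟩
    have h1 : (Finset.univ : Finset (Fin n)) ⊆ {a, b} := by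
      intro k _
      by_cases hk : k = a
      · rw [hk]; exact Finset.mem_insert_self _ _
      · rw [hcon k hk]
        exact Finset.mem_insert_of_mem (Finset.mem_singleton_self _)
    have h2 := Finset.card_le_card h1
    rw [Finset.card_univ, Fintype.card_fin] at h2
    have h3 : ({a, b} : Finset (Fin n)).card ≤ 2 := Finset.card_le_two
    omega
  have h1 := comm_transvection_graph (by omega) j g τ k a hka 1
    (ha _ (subDiag_toGL_mem j _))
  rw [map_one, map_one] at h1
  unfold Matrix.transvection at h1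
  rw [Matrix.mul_add, Matrix.add_mul, Matrix.mul_one, Matrix.one_mul] at h1
  have h2 := add_left_cancel h1
  have h3 := congrFun (congrFun h2 k) b
  have e1 : ((g : Matrix (Fin n) (Fin n) F) * Matrix.single a k (-1 : F)) k b = 0 :=
    Matrix.mul_single_apply_of_ne (-1 : F) a k k b hkb.symm (g : Matrix (Fin n) (Fin n) F)
  rw [e1, Matrix.single_mul_apply_same, one_mul] at h3
  exact h3.symm

/-- for `n = 2` the inverse transpose is inner-diagonal -/
theorem pslInvT_two : ∃ w : GL (Fin 2) F,
    (pslInvT : MulAut (Matrix.ProjectiveSpecialLinearGroup (Fin 2) F)) = pslDiag w := by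
  have hdet : (!![0, 1; -1, 0] : Matrix (Fin 2) (Fin 2) F).det = 1 := by
    rw [Matrix.det_fin_two_of]; ring
  set s : Matrix.SpecialLinearGroup (Fin 2) F := ⟨!![0, 1; -1, 0], hdet⟩ with hs
  refine ⟨Matrix.SpecialLinearGroup.toGL s, ?_⟩
  unfold pslInvT pslDiag
  rw [MonoidHom.comp_apply]
  congr 1
  apply MulEquiv.ext
  intro x
  apply Subtype.ext
  rw [slInvT_apply_coe, slConj_apply_coe, ← map_inv]
  have h1 : ((Matrix.SpecialLinearGroup.toGL s : GL (Fin 2) F) : Matrix (Fin 2) (Fin 2) F) =
      !![0, 1; -1, 0] := rfl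
  have h2 : ((Matrix.SpecialLinearGroup.toGL s⁻¹ : GL (Fin 2) F) : Matrix (Fin 2) (Fin 2) F) =
      !![0, -1; 1, 0] := by
    show ((s⁻¹ : Matrix.SpecialLinearGroup (Fin 2) F) : Matrix (Fin 2) (Fin 2) F) = _
    rw [Matrix.SpecialLinearGroup.coe_inv, hs]
    show Matrix.adjugate !![0, 1; -1, 0] = _
    rw [Matrix.adjugate_fin_two_of]
    simp
  rw [h1, h2, Matrix.SpecialLinearGroup.coe_inv, Matrix.adjugate_fin_two]
  ext a b
  fin_cases a <;> fin_cases b <;>
    simp [Matrix.mul_apply, Fin.sum_univ_two, Matrix.vecMul, dotProduct]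

/-- **the standard automorphisms without graph part commuting with `E` lie in `⟨φ_σ⟩`** -/
theorem mem_zpowers_of_comm_EPSL [Finite F] (hn : 2 ≤ n) (j : F₀ →+* F) (σ : RingAut F)
    (hj : ∀ a : F, σ a = a ↔ ∃ b, j b = a) (g : GL (Fin n) F) (τ : RingAut F)
    (ha : ∀ e ∈ EPSL (n := n) j,
      (pslDiag g * pslField τ : MulAut (Matrix.ProjectiveSpecialLinearGroup (Fin n) F)) * e =
        e * (pslDiag g * pslField τ)) :
    (pslDiag g * pslField τ : MulAut (Matrix.ProjectiveSpecialLinearGroup (Fin n) F)) ∈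
      Subgroup.zpowers (pslField σ : MulAut (Matrix.ProjectiveSpecialLinearGroup (Fin n) F)) := by
  have hn0 : 0 < n := by omega
  have hn1 : 1 < n := by omega
  set k₀ : Fin n := ⟨0, hn0⟩ with hk₀
  set l₀ : Fin n := ⟨1, hn1⟩ with hl₀
  have hkl₀ : k₀ ≠ l₀ := by
    intro h
    have := congrArg Fin.val h
    simp [hk₀, hl₀] at this
  have hcomm : ∀ (k l : Fin n) (hkl : k ≠ l) (t : F₀),
      (g : Matrix (Fin n) (Fin n) F) * (((Matrix.transvection k l t).map j).map τ) =
        (Matrix.transvection k l t).map j * (g : Matrix (Fin n) (Fin n) F) := by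
    intro k l hkl t
    have h1 := comm_transvection hn j g τ k l hkl t (ha _ (subDiag_toGL_mem j _))
    have h2 : ((Matrix.transvection k l t).map j).map τ = Matrix.transvection k l (τ (j t)) := by
      rw [map_transvection]
      exact map_transvection (τ : F →+* F) k l (j t)
    rw [h2, map_transvection]
    exact h1
  set N₀ : Matrix (Fin n) (Fin n) F₀ := Matrix.single k₀ l₀ 1 with hN₀
  have hN₀0 : N₀ ≠ 0 := by
    intro h0
    have := congrFun (congrFun h0 k₀) l₀
    rw [hN₀, Matrix.single_apply_same, Matrix.zero_apply] at this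
    exact one_ne_zero this
  obtain ⟨hτ, c, hc⟩ := cent_matrix j τ g
    {M | ∃ (k l : Fin n) (_ : k ≠ l) (t : F₀), M = Matrix.transvection k l t}
    (by
      rintro M ⟨k, l, hkl, t, rfl⟩
      exact hcomm k l hkl t)
    N₀ hN₀0 (fun t => ⟨k₀, l₀, hkl₀, t, by
      unfold Matrix.transvection
      rw [hN₀, Matrix.smul_single, smul_eq_mul, mul_one]⟩)
    (by
      intro M hM
      have h1 : M ∈ Set.range (Matrix.scalar (Fin n)) := by
        apply Matrix.mem_range_scalar_of_commute_single
        intro k l hkl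
        have h2 := hM _ ⟨k, l, hkl, 1, rfl⟩
        unfold Matrix.transvection at h2
        rw [Matrix.mul_add, Matrix.add_mul, Matrix.mul_one, Matrix.one_mul] at h2
        exact (add_left_cancel h2).symm
      obtain ⟨c, hc⟩ := h1
      refine ⟨c, ?_⟩
      rw [← hc, Matrix.smul_one_eq_diagonal]
      rfl)
  have hτσ : τ ∈ Subgroup.zpowers σ := by
    apply mem_zpowers_of_fixes
    intro x hx
    obtain ⟨b, rfl⟩ := (hj x).mp hx
    exact hτ b
  obtain ⟨i, hi⟩ := hτσ
  have hc0 : c ≠ 0 := by
    intro h0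
    apply gl_coe_ne_zero (by omega : 1 ≤ n) g
    rw [hc, h0, zero_smul]
  have hg1 : (pslDiag g : MulAut (Matrix.ProjectiveSpecialLinearGroup (Fin n) F)) = 1 := by
    rw [← map_one (pslDiag : GL (Fin n) F →* _), pslDiag_eq_iff hn]
    refine ⟨Units.mk0 c hc0, ?_⟩
    apply Units.ext
    rw [mul_one, scalar_coe, Units.val_mk0]
    exact hc
  rw [hg1, one_mul]
  refine ⟨i, ?_⟩
  show (pslField σ : MulAut (Matrix.ProjectiveSpecialLinearGroup (Fin n) F)) ^ i = pslField τ
  rw [← map_zpow]
  exact congrArg _ hi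

/-- **every standard automorphism commuting with `E` lies in `⟨φ_σ⟩`** -/
theorem mem_zpowers_of_comm_EPSL_std [Finite F] (hn : 2 ≤ n) (j : F₀ →+* F) (σ : RingAut F)
    (hj : ∀ a : F, σ a = a ↔ ∃ b, j b = a)
    (a : MulAut (Matrix.ProjectiveSpecialLinearGroup (Fin n) F))
    (hstd : ∃ p : RingAut F × Multiplicative (ZMod 2), IsStdAut a p)
    (ha : ∀ e ∈ EPSL (n := n) j, a * e = e * a) :
    a ∈ Subgroup.zpowers (pslField σ : MulAut (Matrix.ProjectiveSpecialLinearGroup (Fin n) F)) := by
  obtain ⟨⟨τ, ε⟩, g, rfl⟩ := hstd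
  rcases zmod2_mul_cases ε with hε | hε
  · subst hε
    rw [map_one, mul_one] at ha ⊢
    exact mem_zpowers_of_comm_EPSL hn j σ hj g τ ha
  · subst hε
    simp only [pslGraph_one_add] at ha ⊢
    rcases Nat.lt_or_ge 2 n with h3 | h2
    · exact (not_comm_EPSL_graph (by omega) j g τ ha).elim
    · have hn2 : n = 2 := by omega
      subst hn2
      obtain ⟨w, hw⟩ := pslInvT_two (F := F)
      have e1 : (pslDiag g * pslField τ * pslInvT :
          MulAut (Matrix.ProjectiveSpecialLinearGroup (Fin 2) F)) =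
          pslDiag (g * Matrix.GeneralLinearGroup.map (τ : F →+* F) w) * pslField τ := by
        rw [hw, mul_assoc, pslField_mul_pslDiag, ← mul_assoc, ← map_mul]
      rw [e1] at ha ⊢
      exact mem_zpowers_of_comm_EPSL hn j σ hj _ τ ha

end Cfsg.Agent.Lib.Helper36.LocalBalance
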