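import Mathlib
import Cfsg.Agent.Lib.Helper36.LocalBalance.PSLCent
import Cfsg.Agent.Lib.Helper45.PSLField.Split
import Cfsg.Agent.S0249
import Cfsg.Agent.S0250
import Cfsg.Agent.S0251

set_option autoImplicit false
set_option linter.unusedSectionVars false

/-!
# The local-balance criterion for a standard field automorphism of prime order of `PSL_n(F)`
-/

namespace Cfsg.Agent.Lib.Helper36.LocalBalance

open scoped MatrixGroups Matrix
open Matrix Cfsg.Agent.Lib.Helper45.PSLField Cfsg.Agent.Lib.Helper43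

variable {n : ℕ} {F : Type*} [Field F] {F₀ : Type*} [Field F₀]

theorem card_EPSL (hn : 2 ≤ n) (j : F₀ →+* F) :
    Nat.card ↥(EPSL (n := n) (F := F) j) =
      Nat.card (Matrix.ProjectiveSpecialLinearGroup (Fin n) F₀) := by
  obtain ⟨e⟩ := nonempty_EPSL_equiv (n := n) (F := F) hn j
  exact (Nat.card_congr e.toEquiv).symm

theorem EPSL_ne_bot (hn : 2 ≤ n) (j : F₀ →+* F) : EPSL (n := n) (F := F) j ≠ ⊥ := by
  intro h0
  obtain ⟨e⟩ := nonempty_EPSL_equiv (n := n) (F := F) hn j
  have hnt0 : Nontrivial (Fin n) := Fin.nontrivial_iff_two_le.mpr hn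
  have hnt : Nontrivial (Matrix.ProjectiveSpecialLinearGroup (Fin n) F₀) := inferInstance
  have hnt' : Nontrivial ↥(EPSL (n := n) (F := F) j) := e.toEquiv.symm.nontrivial
  exact (Subgroup.nontrivial_iff_ne_bot _).mp hnt' h0

/-- a Bezout argument in a commutative group -/
theorem exists_pow_eq_of_coprime {U : Type*} [CommGroup U] (d c f : U) (p n m : ℕ)
    (hcop : Nat.Coprime p m) (h1 : d ^ p = c ^ n) (h2 : d ^ m = f ^ n) :
    ∃ e : U, e ^ n = d := by
  refine ⟨c ^ (Nat.gcdA p m) * f ^ (Nat.gcdB p m), ?_⟩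
  have hb := Nat.gcd_eq_gcd_ab p m
  rw [hcop.gcd_eq_one] at hb
  have e1 : (c ^ (Nat.gcdA p m)) ^ n = (d ^ p) ^ (Nat.gcdA p m) := by
    rw [h1, ← zpow_natCast, ← zpow_natCast, ← _root_.zpow_mul, ← _root_.zpow_mul, mul_comm]
  have e2 : (f ^ (Nat.gcdB p m)) ^ n = (d ^ m) ^ (Nat.gcdB p m) := by
    rw [h2, ← zpow_natCast, ← zpow_natCast, ← _root_.zpow_mul, ← _root_.zpow_mul, mul_comm]
  rw [mul_pow, e1, e2, ← zpow_natCast d p, ← zpow_natCast d m, ← _root_.zpow_mul,
    ← _root_.zpow_mul, ← _root_.zpow_add, ← hb]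
  simp

theorem subDiag_scalar (hn : 2 ≤ n) (j : F₀ →+* F) (e : F₀ˣ) :
    (subDiag j (Matrix.GeneralLinearGroup.scalar (Fin n) e) :
      MulAut (Matrix.ProjectiveSpecialLinearGroup (Fin n) F)) = 1 := by
  rw [← MonoidHom.mem_ker, ker_subDiag (F := F) hn j,
    Matrix.GeneralLinearGroup.center_eq_range_scalar]
  exact ⟨e, rfl⟩

/-- matrices over `F₀` whose determinant is an `n`-th power induce elements of `E` -/
theorem mem_EPSL_of_det_pow (hn : 2 ≤ n) (j : F₀ →+* F) (A : GL (Fin n) F₀) (e : F₀ˣ)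
    (he : e ^ n = Matrix.GeneralLinearGroup.det A) :
    (subDiag j A : MulAut (Matrix.ProjectiveSpecialLinearGroup (Fin n) F)) ∈
      EPSL (n := n) (F := F) j := by
  refine ⟨(Matrix.GeneralLinearGroup.scalar (Fin n) e)⁻¹ * A, ?_, ?_⟩
  · show Matrix.GeneralLinearGroup.det ((Matrix.GeneralLinearGroup.scalar (Fin n) e)⁻¹ * A) = 1
    rw [map_mul, map_inv, det_glScalar, he, inv_mul_cancel]
  · rw [map_mul, map_inv, subDiag_scalar hn, inv_one, one_mul]

theorem dvd_card_of_mem_orderOf {X : Type*} [Group X] (E : Subgroup X) (y : X) (hy : y ∈ E) :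
    orderOf y ∣ Nat.card ↥E := by
  have h := orderOf_dvd_natCard (⟨y, hy⟩ : ↥E)
  rwa [← Subgroup.orderOf_coe] at h

/-- a non-central element of `SL_n(F₀)` with central `p`-th power gives `p ∣ |E|` -/
theorem dvd_card_EPSL_of_elt (hn : 2 ≤ n) (j : F₀ →+* F) (p : ℕ) [Fact p.Prime]
    (s : Matrix.SpecialLinearGroup (Fin n) F₀)
    (hs : s ∉ Subgroup.center (Matrix.SpecialLinearGroup (Fin n) F₀))
    (hsp : s ^ p ∈ Subgroup.center (Matrix.SpecialLinearGroup (Fin n) F₀)) :
    p ∣ Nat.card ↥(EPSL (n := n) (F := F) j) := by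
  have hp : p.Prime := Fact.out
  set y : MulAut (Matrix.ProjectiveSpecialLinearGroup (Fin n) F) := slToAut j s with hy
  have hyE : y ∈ EPSL (n := n) (F := F) j := by
    rw [← slToAut_range]
    exact ⟨s, rfl⟩
  have hy1 : y ≠ 1 := by
    intro h1
    apply hs
    rw [← ker_slToAut (F := F) hn j]
    exact h1
  have hyp : y ^ p = 1 := by
    rw [hy, ← map_pow]
    rw [← ker_slToAut (F := F) hn j] at hsp
    exact hsp
  have ho : orderOf y = p := by
    rcases (Nat.dvd_prime hp).mp (orderOf_dvd_of_pow_eq_one hyp) with h | h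
    · exact absurd (orderOf_eq_one_iff.mp h) hy1
    · exact h
  rw [← ho]
  exact dvd_card_of_mem_orderOf _ _ hyE

/-- for `n ≥ 3`: a non-central diagonal element of order `p` -/
theorem exists_diag_elt (hn : 3 ≤ n) (c : F₀ˣ) (p : ℕ) (hc : orderOf c = p) (hp1 : p ≠ 1) :
    ∃ s : Matrix.SpecialLinearGroup (Fin n) F₀,
      s ∉ Subgroup.center (Matrix.SpecialLinearGroup (Fin n) F₀) ∧ s ^ p = 1 := by
  set k₀ : Fin n := ⟨0, by omega⟩ with hk₀
  set l₀ : Fin n := ⟨1, by omega⟩ with hl₀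
  set m₀ : Fin n := ⟨2, by omega⟩ with hm₀
  have hkl : k₀ ≠ l₀ := by
    intro h; have := congrArg Fin.val h; simp [hk₀, hl₀] at this
  have hmk : m₀ ≠ k₀ := by
    intro h; have := congrArg Fin.val h; simp [hk₀, hm₀] at this
  have hml : m₀ ≠ l₀ := by
    intro h; have := congrArg Fin.val h; simp [hl₀, hm₀] at this
  set f : Fin n → F₀ := fun i =>
    (if i = k₀ then (c : F₀) else 1) * (if i = l₀ then ((c⁻¹ : F₀ˣ) : F₀) else 1) with hf
  have hdet : (Matrix.diagonal f).det = 1 := by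
    rw [Matrix.det_diagonal, hf, Finset.prod_mul_distrib, Finset.prod_ite_eq' Finset.univ k₀,
      Finset.prod_ite_eq' Finset.univ l₀, if_pos (Finset.mem_univ _), if_pos (Finset.mem_univ _),
      ← Units.val_mul, mul_inv_cancel, Units.val_one]
  have hcp : c ^ p = 1 := by rw [← hc]; exact pow_orderOf_eq_one c
  set s : Matrix.SpecialLinearGroup (Fin n) F₀ := ⟨Matrix.diagonal f, hdet⟩ with hs
  refine ⟨s, ?_, ?_⟩
  · rw [Matrix.SpecialLinearGroup.mem_center_iff]
    rintro ⟨r, -, hr⟩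
    have hr : Matrix.scalar (Fin n) r = Matrix.diagonal f := hr
    have h1 := congrFun (congrFun hr k₀) k₀
    have h2 := congrFun (congrFun hr m₀) m₀
    rw [Matrix.scalar_apply, Matrix.diagonal_apply_eq] at h1 h2
    have h3 : f k₀ = (c : F₀) := by
      simp [hf, hkl]
    have h4 : f m₀ = 1 := by
      simp [hf, hmk, hml]
    have h1' : r = f k₀ := by
      rw [h1]; exact Matrix.diagonal_apply_eq f k₀
    have h2' : r = f m₀ := by
      rw [h2]; exact Matrix.diagonal_apply_eq f m₀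
    rw [h3] at h1'
    rw [h4] at h2'
    have hc1 : c = 1 := by
      apply Units.ext
      rw [← h1', h2', Units.val_one]
    rw [hc1, orderOf_one] at hc
    exact hp1 hc.symm
  · apply Subtype.ext
    rw [Matrix.SpecialLinearGroup.coe_pow, Matrix.SpecialLinearGroup.coe_one]
    show (Matrix.diagonal f) ^ p = 1
    rw [Matrix.diagonal_pow, ← Matrix.diagonal_one]
    congr 1
    funext i
    simp only [hf, Pi.pow_apply, Pi.one_apply, mul_pow, ite_pow, one_pow]
    rw [← Units.val_pow_eq_pow_val, ← Units.val_pow_eq_pow_val, inv_pow, hcp, inv_one,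
      Units.val_one]
    simp

/-- for `n = 2`: a non-central element with central square -/
theorem exists_w_elt : ∃ s : Matrix.SpecialLinearGroup (Fin 2) F₀,
    s ∉ Subgroup.center (Matrix.SpecialLinearGroup (Fin 2) F₀) ∧
      s ^ 2 ∈ Subgroup.center (Matrix.SpecialLinearGroup (Fin 2) F₀) := by
  have hdet : (!![0, 1; -1, 0] : Matrix (Fin 2) (Fin 2) F₀).det = 1 := by
    rw [Matrix.det_fin_two_of]; ring
  set s : Matrix.SpecialLinearGroup (Fin 2) F₀ := ⟨!![0, 1; -1, 0], hdet⟩ with hs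
  refine ⟨s, ?_, ?_⟩
  · rw [Matrix.SpecialLinearGroup.mem_center_iff]
    rintro ⟨r, -, hr⟩
    have hr : Matrix.scalar (Fin 2) r = !![0, 1; -1, 0] := hr
    have h1 := congrFun (congrFun hr 0) 1
    simp [Matrix.scalar_apply] at h1
  · rw [Matrix.SpecialLinearGroup.mem_center_iff]
    refine ⟨-1, by simp, ?_⟩
    rw [Matrix.SpecialLinearGroup.coe_pow]
    show _ = (!![0, 1; -1, 0] : Matrix (Fin 2) (Fin 2) F₀) ^ 2
    rw [pow_two, Matrix.scalar_apply]
    ext a b
    fin_cases a <;> fin_cases b <;> simp [Matrix.mul_apply, Fin.sum_univ_two]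

theorem finite_psl [Finite F] : Finite (Matrix.ProjectiveSpecialLinearGroup (Fin n) F) := by
  have h1 : Finite (Matrix.SpecialLinearGroup (Fin n) F) :=
    Finite.of_injective (fun s : Matrix.SpecialLinearGroup (Fin n) F =>
      (s : Matrix (Fin n) (Fin n) F)) Subtype.val_injective
  exact Finite.of_surjective (QuotientGroup.mk : Matrix.SpecialLinearGroup (Fin n) F →
    Matrix.ProjectiveSpecialLinearGroup (Fin n) F) QuotientGroup.mk_surjective

theorem finite_mulAut_psl [Finite F] :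
    Finite (MulAut (Matrix.ProjectiveSpecialLinearGroup (Fin n) F)) := by
  have := finite_psl (n := n) (F := F)
  exact Finite.of_injective (fun e : MulAut (Matrix.ProjectiveSpecialLinearGroup (Fin n) F) =>
    (e : Matrix.ProjectiveSpecialLinearGroup (Fin n) F →
      Matrix.ProjectiveSpecialLinearGroup (Fin n) F)) DFunLike.coe_injective

section Cent

variable [Finite F] [Fintype F₀] (hn : 2 ≤ n) (σ : RingAut F) {r : ℕ} (hr : 0 < r)
  (hσ : orderOf σ = r) (j : F₀ →+* F) (hj : ∀ a : F, σ a = a ↔ ∃ b, j b = a)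

include hn hr hσ hj in
/-- a prime dividing the order of the inner centraliser divides the order of `E` -/
theorem dvd_card_EPSL (p : ℕ) [Fact p.Prime]
    (hp : p ∣ Nat.card ↥(Cfsg.Inn (Matrix.ProjectiveSpecialLinearGroup (Fin n) F) ⊓
      Subgroup.centralizer
        {(pslField σ : MulAut (Matrix.ProjectiveSpecialLinearGroup (Fin n) F))})) :
    p ∣ Nat.card ↥(EPSL (n := n) (F := F) j) := by
  have hpp : p.Prime := Fact.out
  have hfin := finite_mulAut_psl (n := n) (F := F)
  obtain ⟨y, hy⟩ := exists_prime_orderOf_dvd_card' p hp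
  obtain ⟨A₁, hA₁⟩ := inn_inf_centralizer_le_range_psl hn σ hr hσ j hj y.2
  have hyo : orderOf (y : MulAut (Matrix.ProjectiveSpecialLinearGroup (Fin n) F)) = p := by
    rw [Subgroup.orderOf_coe]; exact hy
  by_cases hcase : p ∣ n ∧ p ∣ Nat.card F₀ˣ
  · rcases Nat.lt_or_ge 2 n with h3 | h2
    · obtain ⟨c, hc⟩ := exists_prime_orderOf_dvd_card' p hcase.2
      obtain ⟨s, hs1, hs2⟩ := exists_diag_elt (F₀ := F₀) h3 c p hc hpp.one_lt.ne'
      exact dvd_card_EPSL_of_elt hn j p s hs1 (by rw [hs2]; exact one_mem _)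
    · have hn2 : n = 2 := by omega
      subst hn2
      have hp2 : p = 2 := (Nat.prime_dvd_prime_iff_eq hpp Nat.prime_two).mp hcase.1
      subst hp2
      obtain ⟨s, hs1, hs2⟩ := exists_w_elt (F₀ := F₀)
      exact dvd_card_EPSL_of_elt hn j 2 s hs1 hs2
  · have hA : (subDiag j (A₁ ^ p) : MulAut (Matrix.ProjectiveSpecialLinearGroup (Fin n) F)) = 1 := by
      rw [map_pow, hA₁, ← hyo, pow_orderOf_eq_one]
    rw [← MonoidHom.mem_ker, ker_subDiag (F := F) hn j,
      Matrix.GeneralLinearGroup.center_eq_range_scalar] at hA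
    obtain ⟨c, hc⟩ := hA
    have hdet : Matrix.GeneralLinearGroup.det A₁ ^ p = c ^ n := by
      rw [← map_pow, ← hc, det_glScalar]
    obtain ⟨e, he⟩ : ∃ e : F₀ˣ, e ^ n = Matrix.GeneralLinearGroup.det A₁ := by
      by_cases hpn : p ∣ n
      · have hpN : ¬ p ∣ Nat.card F₀ˣ := fun h => hcase ⟨hpn, h⟩
        exact exists_pow_eq_of_coprime (Matrix.GeneralLinearGroup.det A₁) c 1 p n (Nat.card F₀ˣ)
          ((Nat.Prime.coprime_iff_not_dvd hpp).mpr hpN) hdet
          (by rw [pow_card_eq_one', one_pow])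
      · exact exists_pow_eq_of_coprime (Matrix.GeneralLinearGroup.det A₁) c
          (Matrix.GeneralLinearGroup.det A₁) p n n
          ((Nat.Prime.coprime_iff_not_dvd hpp).mpr hpn) hdet rfl
    have hyE : (y : MulAut (Matrix.ProjectiveSpecialLinearGroup (Fin n) F)) ∈
        EPSL (n := n) (F := F) j := by
      rw [← hA₁]
      exact mem_EPSL_of_det_pow hn j A₁ e he
    rw [← hyo]
    exact dvd_card_of_mem_orderOf _ _ hyE

end Cent

set_option maxRecDepth 100000 in
theorem perm_three_aux : ∀ g : Equiv.Perm (Fin 3), g ≠ 1 →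
    (g ^ 3 = 1) ∨ ∃ h : Equiv.Perm (Fin 3),
      (g * (h * g * h⁻¹)) ≠ 1 ∧ (g * (h * g * h⁻¹)) ^ 3 = 1 := by
  decide

set_option maxRecDepth 100000 in
theorem alt_four_aux : ∀ g : alternatingGroup (Fin 4), g ≠ 1 →
    (g ^ 2 = 1) ∨ ∃ h : alternatingGroup (Fin 4),
      (g * (h * g⁻¹ * h⁻¹)) ≠ 1 ∧ (g * (h * g⁻¹ * h⁻¹)) ^ 2 = 1 := by
  decide

theorem eq_bot_of_exists_prime_elt {X : Type*} [Group X] [Finite X] (p : ℕ) [Fact p.Prime]
    (M : Subgroup X) (hc : (Nat.card ↥M).Coprime p)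
    (h : ∀ g ∈ M, g ≠ 1 → ∃ u ∈ M, u ≠ 1 ∧ u ^ p = 1) : M = ⊥ := by
  have hp : p.Prime := Fact.out
  rw [eq_bot_iff]
  intro g hg
  rw [Subgroup.mem_bot]
  by_contra hg1
  obtain ⟨u, hu, hu1, hup⟩ := h g hg hg1
  have ho : orderOf u = p := by
    rcases (Nat.dvd_prime hp).mp (orderOf_dvd_of_pow_eq_one hup) with h | h
    · exact absurd (orderOf_eq_one_iff.mp h) hu1
    · exact h
  have hdvd : p ∣ Nat.card ↥M := by
    rw [← ho]
    exact dvd_card_of_mem_orderOf M u hu
  have := Nat.dvd_gcd hdvd (dvd_refl p)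
  rw [Nat.Coprime.gcd_eq_one hc] at this
  exact hp.one_lt.ne' (Nat.dvd_one.mp this)

theorem noNormal_perm_three (M : Subgroup (Equiv.Perm (Fin 3))) (hM : M.Normal)
    (hc : (Nat.card ↥M).Coprime 3) : M = ⊥ := by
  have : Fact (Nat.Prime 3) := ⟨Nat.prime_three⟩
  apply eq_bot_of_exists_prime_elt 3 M hc
  intro g hg hg1
  rcases perm_three_aux g hg1 with h | ⟨h, h1, h2⟩
  · exact ⟨g, hg, hg1, h⟩
  · exact ⟨_, M.mul_mem hg (hM.conj_mem g hg h), h1, h2⟩

theorem noNormal_alt_four (M : Subgroup (alternatingGroup (Fin 4))) (hM : M.Normal)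
    (hc : (Nat.card ↥M).Coprime 2) : M = ⊥ := by
  have : Fact (Nat.Prime 2) := ⟨Nat.prime_two⟩
  apply eq_bot_of_exists_prime_elt 2 M hc
  intro g hg hg1
  rcases alt_four_aux g hg1 with h | ⟨h, h1, h2⟩
  · exact ⟨g, hg, hg1, h⟩
  · exact ⟨_, M.mul_mem hg (hM.conj_mem g⁻¹ (M.inv_mem hg) h), h1, h2⟩

set_option maxRecDepth 100000 in
theorem perm_three_center_aux : ∀ z : Equiv.Perm (Fin 3),
    (∀ g : Equiv.Perm (Fin 3), g * z = z * g) → z = 1 := by
  decide

theorem center_perm_three : Subgroup.center (Equiv.Perm (Fin 3)) = ⊥ := by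
  rw [eq_bot_iff]
  intro z hz
  rw [Subgroup.mem_bot]
  exact perm_three_center_aux z (fun g => Subgroup.mem_center_iff.mp hz g)

theorem center_eq_bot_of_equiv {G H : Type*} [Group G] [Group H] (e : G ≃* H)
    (hH : Subgroup.center H = ⊥) : Subgroup.center G = ⊥ := by
  rw [eq_bot_iff]
  intro z hz
  rw [Subgroup.mem_bot]
  have h1 : e z ∈ Subgroup.center H := by
    rw [Subgroup.mem_center_iff] at hz ⊢
    intro h
    obtain ⟨g, rfl⟩ := e.surjective h
    rw [← map_mul, ← map_mul, hz g]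
  rw [hH, Subgroup.mem_bot] at h1
  exact (map_eq_one_iff e e.injective).mp h1

/-- `E` has no non-trivial normal `p'`-subgroup, for `p` a prime dividing `|E|`, `p ≠ char` -/
theorem noNormal_EPSL [Fintype F₀] (hn : 2 ≤ n) (j : F₀ →+* F) (p : ℕ) [Fact p.Prime]
    (hpc : (p : F₀) ≠ 0)
    (hp : p ∣ Nat.card ↥(EPSL (n := n) (F := F) j))
    (M : Subgroup ↥(EPSL (n := n) (F := F) j)) (hM : M.Normal)
    (hc : (Nat.card ↥M).Coprime p) : M = ⊥ := by
  classical
  have hpp : p.Prime := Fact.out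
  obtain ⟨e⟩ := nonempty_EPSL_equiv (n := n) (F := F) hn j
  rcases Nat.lt_or_ge 2 n with h3 | h2
  · have hsimple : IsSimpleGroup (Matrix.ProjectiveSpecialLinearGroup (Fin n) F₀) :=
      Cfsg.Agent.S0249.result n h3
    have hEs : IsSimpleGroup ↥(EPSL (n := n) (F := F) j) := e.symm.isSimpleGroup
    exact noNormal_of_simple p hp M hM hc
  · have hn2 : n = 2 := by omega
    subst hn2
    by_cases h4 : 4 ≤ Fintype.card F₀
    · have hsimple : IsSimpleGroup (Matrix.ProjectiveSpecialLinearGroup (Fin 2) F₀) :=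
        Matrix.ProjectiveSpecialLinearGroup.rank_two_simple
          (by rw [Nat.card_eq_fintype_card]; exact h4)
      have hEs : IsSimpleGroup ↥(EPSL (n := 2) (F := F) j) := e.symm.isSimpleGroup
      exact noNormal_of_simple p hp M hM hc
    · have h1 : 1 < Fintype.card F₀ := Fintype.one_lt_card
      have hpq : p ≠ Fintype.card F₀ := by
        intro h
        apply hpc
        rw [h]
        exact Nat.cast_card_eq_zero F₀
      have hcardE := card_EPSL (n := 2) (F := F) hn j
      have hq : Fintype.card F₀ = 2 ∨ Fintype.card F₀ = 3 := by omega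
      rcases hq with hq | hq
      · obtain ⟨e₂⟩ := Cfsg.Agent.S0250.result (F := F₀) hq
        have hZ : Subgroup.center (Matrix.SpecialLinearGroup (Fin 2) F₀) = ⊥ :=
          center_eq_bot_of_equiv e₂ center_perm_three
        let e₁ : Matrix.ProjectiveSpecialLinearGroup (Fin 2) F₀ ≃*
            Matrix.SpecialLinearGroup (Fin 2) F₀ :=
          (QuotientGroup.quotientMulEquivOfEq hZ).trans QuotientGroup.quotientBot
        let e₃ : ↥(EPSL (n := 2) (F := F) j) ≃* Equiv.Perm (Fin 3) :=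
          (e.symm.trans e₁).trans e₂
        have hcard : Nat.card ↥(EPSL (n := 2) (F := F) j) = 6 := by
          rw [Nat.card_congr e₃.toEquiv, Nat.card_eq_fintype_card, Fintype.card_perm,
            Fintype.card_fin]
          rfl
        have hp6 : p ∣ 2 * 3 := by
          have := hp
          rwa [hcard] at this
        have hp3 : p = 3 := by
          rcases (Nat.Prime.dvd_mul hpp).mp hp6 with h | h
          · exact absurd ((Nat.prime_dvd_prime_iff_eq hpp Nat.prime_two).mp h) (by rw [hq] at hpq; exact hpq)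
          · exact (Nat.prime_dvd_prime_iff_eq hpp Nat.prime_three).mp h
        subst hp3
        exact noNormal_of_equiv e₃ 3 noNormal_perm_three M hM hc
      · obtain ⟨e₂⟩ := Cfsg.Agent.S0251.result (F := F₀) hq
        let e₃ : ↥(EPSL (n := 2) (F := F) j) ≃* alternatingGroup (Fin 4) := e.symm.trans e₂
        have hcard : Nat.card ↥(EPSL (n := 2) (F := F) j) = 12 := by
          have h2 := two_mul_nat_card_alternatingGroup (α := Fin 4)
          rw [Nat.card_eq_fintype_card (α := Equiv.Perm (Fin 4)), Fintype.card_perm,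
            Fintype.card_fin] at h2
          have h24 : Nat.factorial 4 = 24 := by decide
          rw [h24] at h2
          rw [Nat.card_congr e₃.toEquiv]
          omega
        have hp12 : p ∣ 2 * (2 * 3) := by
          have := hp
          rwa [hcard] at this
        have hp2 : p = 2 := by
          rcases (Nat.Prime.dvd_mul hpp).mp hp12 with h | h
          · exact (Nat.prime_dvd_prime_iff_eq hpp Nat.prime_two).mp h
          · rcases (Nat.Prime.dvd_mul hpp).mp h with h | h
            · exact (Nat.prime_dvd_prime_iff_eq hpp Nat.prime_two).mp h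
            · exact absurd ((Nat.prime_dvd_prime_iff_eq hpp Nat.prime_three).mp h) (by rw [hq] at hpq; exact hpq)
        subst hp2
        exact noNormal_of_equiv e₃ 2 noNormal_alt_four M hM hc

/-- **the criterion for the standard field automorphism `φ_σ`, `σ` of prime order `p`** -/
theorem psl_field_std' [Finite F] [Fintype F₀] (hn : 2 ≤ n)
    (hK : IsSimpleGroup (Matrix.ProjectiveSpecialLinearGroup (Fin n) F))
    (hstd : AllStdAut n F) (σ : RingAut F) {p : ℕ} [Fact p.Prime] (hpc : (p : F₀) ≠ 0)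
    (hσ : orderOf σ = p) (j : F₀ →+* F) (hj : ∀ a : F, σ a = a ↔ ∃ b, j b = a)
    (A : Subgroup (MulAut (Matrix.ProjectiveSpecialLinearGroup (Fin n) F)))
    (hinn : Cfsg.Inn (Matrix.ProjectiveSpecialLinearGroup (Fin n) F) ≤ A) :
    Cfsg.pPrimeCore p ↥(A ⊓ Subgroup.centralizer
        {(pslField σ : MulAut (Matrix.ProjectiveSpecialLinearGroup (Fin n) F))}) ≠ ⊥ ↔
      Nat.Coprime p (Nat.card ↥(MonoidHom.eqLocus
        (pslField σ : MulAut (Matrix.ProjectiveSpecialLinearGroup (Fin n) F)).toMonoidHom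
        (MonoidHom.id (Matrix.ProjectiveSpecialLinearGroup (Fin n) F)))) := by
  have hp : p.Prime := Fact.out
  set x : MulAut (Matrix.ProjectiveSpecialLinearGroup (Fin n) F) := pslField σ with hx
  set E : Subgroup (MulAut (Matrix.ProjectiveSpecialLinearGroup (Fin n) F)) :=
    EPSL (n := n) (F := F) j with hE
  have hfinK : Finite (Matrix.ProjectiveSpecialLinearGroup (Fin n) F) := finite_psl
  have hj' : ∀ a, σ (j a) = j a := fun a => (hj (j a)).mpr ⟨a, rfl⟩
  have hE_ne : E ≠ ⊥ := EPSL_ne_bot hn j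
  have hEI : E ≤ Cfsg.Inn (Matrix.ProjectiveSpecialLinearGroup (Fin n) F) ⊓
      Subgroup.centralizer {x} :=
    le_inf (EPSL_le_Inn j) (EPSL_le_centralizer j σ hj')
  have hInn_ne : Cfsg.Inn (Matrix.ProjectiveSpecialLinearGroup (Fin n) F) ≠ ⊥ := by
    intro h0
    apply hE_ne
    rw [eq_bot_iff, ← h0]
    exact hEI.trans inf_le_left
  have hZ : Subgroup.center (Matrix.ProjectiveSpecialLinearGroup (Fin n) F) = ⊥ :=
    center_eq_bot_of_inn_ne_bot hInn_ne
  have hcardfix := card_inn_inf_centralizer hZ x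
  constructor
  · intro hcore
    by_contra hnc
    apply hcore
    have hp_dvd : p ∣ Nat.card ↥(Cfsg.Inn (Matrix.ProjectiveSpecialLinearGroup (Fin n) F) ⊓
        Subgroup.centralizer {x}) := by
      rw [hcardfix]
      by_contra hnd
      exact hnc ((Nat.Prime.coprime_iff_not_dvd hp).mpr hnd)
    have hEp : p ∣ Nat.card ↥E := dvd_card_EPSL hn σ hp.pos hσ j hj p hp_dvd
    have hxp : x ^ p = 1 := by
      rw [hx, ← map_pow, ← hσ, pow_orderOf_eq_one, map_one]
    exact core_eq_bot_of_noNormal A x p hinn hxp E hEI (noNormal_EPSL hn j p hpc hEp)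
      (EPSL_normalized hn σ hp.pos hσ j hj)
      (fun a ha => mem_zpowers_of_comm_EPSL_std hn j σ hj a (hstd a) ha)
  · intro hcop
    apply core_ne_bot_of_coprime A x p hinn
    · rw [hcardfix]
      exact hcop.symm
    · intro h0
      apply hE_ne
      rw [eq_bot_iff, ← h0]
      exact hEI

end Cfsg.Agent.Lib.Helper36.LocalBalance
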