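import Mathlib
import Cfsg.Agent.S5908

set_option autoImplicit false
set_option linter.unusedSectionVars false

/-!
# `PSU_3(2)` has no non-trivial normal subgroup of order prime to `3`

(`O_2(PSU_3(2)) = 1`.)  A normal `2`-subgroup `M ≠ 1` meets the normal closure `H` of the
involutions (of order dividing `18`, by helper98's S5908) in a normal subgroup of order `2`, whose
generator would be a central involution; but `PSU_3(2)` has no central involution since
`|Z(SU_3(2))| = 3` is odd.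
-/

namespace Cfsg.Agent.Lib.Helper36.LocalBalance

open Cfsg

variable {F : Type*} [Field F] [Fintype F]

/-- `PSU_3(2)` has no central involution -/
theorem no_central_invol_psu32 (hF : Fintype.card F = 4) (g : Cfsg.PSU 3 F 2) (hg2 : g ^ 2 = 1)
    (hgc : ∀ t : Cfsg.PSU 3 F 2, t * g = g * t) : g = 1 := by
  have hF' : Fintype.card F = 2 ^ 2 := by rw [hF]; norm_num
  obtain ⟨s, rfl⟩ := QuotientGroup.mk_surjective g
  have hcardZ : Nat.card (Subgroup.center (SU 3 F 2)) = 3 := by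
    rw [Cfsg.Agent.Lib.Helper5.card_center_SU hF' (by norm_num)]
    rfl
  have hz3 : ∀ z ∈ Subgroup.center (SU 3 F 2), z ^ 3 = 1 := by
    intro z hz
    have := pow_card_eq_one' (G := Subgroup.center (SU 3 F 2)) (x := ⟨z, hz⟩)
    rw [hcardZ] at this
    exact congrArg Subtype.val this
  have hz : s ^ 2 ∈ Subgroup.center (SU 3 F 2) := by
    rw [← QuotientGroup.eq_one_iff, QuotientGroup.mk_pow]; exact hg2
  have hs' : (s ^ 3) * (s ^ 3) = 1 := by
    rw [← pow_add, show 3 + 3 = 2 * 3 by norm_num, pow_mul]; exact hz3 _ hz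
  have hmk : ((s ^ 3 : SU 3 F 2) : Cfsg.PSU 3 F 2) = (s : Cfsg.PSU 3 F 2) := by
    rw [pow_succ s 2, QuotientGroup.mk_mul, (QuotientGroup.eq_one_iff _).mpr hz, one_mul]
  set s' : SU 3 F 2 := s ^ 3 with hs'def
  have hcen : s' ∈ Subgroup.center (SU 3 F 2) := by
    rw [Subgroup.mem_center_iff]
    intro t
    set z : SU 3 F 2 := t * s' * t⁻¹ * s'⁻¹ with hzdef
    have hzc : z ∈ Subgroup.center (SU 3 F 2) := by
      rw [← QuotientGroup.eq_one_iff]
      show ((t * s' * t⁻¹ * s'⁻¹ : SU 3 F 2) : Cfsg.PSU 3 F 2) = 1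
      rw [QuotientGroup.mk_mul, QuotientGroup.mk_mul, QuotientGroup.mk_mul, QuotientGroup.mk_inv,
        QuotientGroup.mk_inv, hmk, hgc (t : Cfsg.PSU 3 F 2)]
      group
    have h1 : t * s' * t⁻¹ = z * s' := by rw [hzdef]; group
    have hzcomm : z * s' = s' * z := (Subgroup.mem_center_iff.mp hzc s').symm
    have h2 : z ^ 2 = 1 := by
      have e1 : (t * s' * t⁻¹) * (t * s' * t⁻¹) = 1 := by
        calc (t * s' * t⁻¹) * (t * s' * t⁻¹) = t * (s' * s') * t⁻¹ := by group
          _ = 1 := by rw [hs']; group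
      rw [h1] at e1
      have e2 : (z * s') * (z * s') = z ^ 2 * (s' * s') := by
        calc (z * s') * (z * s') = z * (s' * z) * s' := by group
          _ = z * (z * s') * s' := by rw [hzcomm]
          _ = z ^ 2 * (s' * s') := by rw [pow_two]; group
      rw [e2, hs', mul_one] at e1
      exact e1
    have h3 : z = 1 := by
      have := hz3 z hzc
      calc z = z ^ 3 * (z ^ 2)⁻¹ := by group
        _ = 1 := by rw [this, h2]; group
    rw [h3, one_mul] at h1
    calc t * s' = (t * s' * t⁻¹) * t := by group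
      _ = s' * t := by rw [h1]
  rw [← hmk]
  exact (QuotientGroup.eq_one_iff _).mpr hcen

/-- the normal closure of the involutions of `PSU_3(2)` has order dividing `18` -/
theorem card_invol_closure_psu32 (hF : Fintype.card F = 4) :
    Nat.card (Subgroup.normalClosure {g : Cfsg.PSU 3 F 2 | g ^ 2 = 1}) ∣ 18 := by
  have hcard := Cfsg.Agent.S5908.card_PSU hF
  have hfin : Finite (Cfsg.PSU 3 F 2) := Nat.finite_of_card_ne_zero (by rw [hcard]; norm_num)
  have hH2 : Subgroup.normalClosure {g : Cfsg.PSU 3 F 2 | g ^ 2 = 1} ≤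
      (Cfsg.Agent.S5908.Mon F).map (QuotientGroup.mk' (Subgroup.center (SU 3 F 2))) := by
    rw [Subgroup.normalClosure]
    apply (Subgroup.closure_le _).mpr
    intro a ha
    obtain ⟨b, hb, hab⟩ := Group.mem_conjugatesOfSet_iff.mp ha
    obtain ⟨c, rfl⟩ := isConj_iff.mp hab
    apply Cfsg.Agent.S5908.invol_mem hF
    have hb2 : b ^ 2 = 1 := hb
    rw [conj_pow, hb2, mul_one, mul_inv_cancel]
  obtain ⟨n, m, hnm, hm⟩ := Cfsg.Agent.S5908.card_Mon hF
  have hdvd : Nat.card (Subgroup.normalClosure {g : Cfsg.PSU 3 F 2 | g ^ 2 = 1}) ∣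
      Nat.card (Cfsg.Agent.S5908.Mon F) :=
    dvd_trans (Subgroup.card_dvd_of_le hH2) (Subgroup.card_map_dvd (Cfsg.Agent.S5908.Mon F) _)
  rw [hnm] at hdvd
  have h72 : Nat.card (Subgroup.normalClosure {g : Cfsg.PSU 3 F 2 | g ^ 2 = 1}) ∣ 72 :=
    hcard ▸ Subgroup.card_subgroup_dvd_card _
  have h4 : ¬ 4 ∣ Nat.card (Subgroup.normalClosure {g : Cfsg.PSU 3 F 2 | g ^ 2 = 1}) := by
    intro h4
    have h4' : 4 ∣ 3 ^ n * m := dvd_trans h4 hdvd
    have hc : Nat.Coprime 4 (3 ^ n) := by apply Nat.Coprime.pow_right; decide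
    have h5 := hc.dvd_of_dvd_mul_left h4'
    have : 4 ∣ 6 := dvd_trans h5 hm
    omega
  have key : ∀ d, d ≤ 72 → d ∣ 72 → ¬ 4 ∣ d → d ∣ 18 := by decide
  exact key _ (Nat.le_of_dvd (by norm_num) h72) h72 h4

/-- **`O_{3'}(PSU_3(2)) = 1`** -/
theorem noNormal_psu32 (hF : Fintype.card F = 4) (M : Subgroup (Cfsg.PSU 3 F 2)) (hM : M.Normal)
    (hc : (Nat.card ↥M).Coprime 3) : M = ⊥ := by
  classical
  have hcard := Cfsg.Agent.S5908.card_PSU hF
  have hfin : Finite (Cfsg.PSU 3 F 2) := Nat.finite_of_card_ne_zero (by rw [hcard]; norm_num)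
  by_contra hne
  have hM72 : Nat.card ↥M ∣ 8 * 9 := by
    have := Subgroup.card_subgroup_dvd_card M
    rw [hcard] at this
    exact this
  have hM8 : Nat.card ↥M ∣ 8 := by
    have h9 : Nat.Coprime (Nat.card ↥M) 9 := by
      have := hc.pow_right 2
      simpa using this
    exact h9.dvd_of_dvd_mul_right hM72
  have hM1 : Nat.card ↥M ≠ 1 := by
    intro h1
    exact hne (Subgroup.card_eq_one.mp h1)
  have h2 : 2 ∣ Nat.card ↥M := by
    have key : ∀ d, d ≤ 8 → d ∣ 8 → d ≠ 1 → 2 ∣ d := by decide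
    exact key _ (Nat.le_of_dvd (by norm_num) hM8) hM8 hM1
  have : Fact (Nat.Prime 2) := ⟨Nat.prime_two⟩
  obtain ⟨g, hg⟩ := exists_prime_orderOf_dvd_card' 2 h2
  have hg2 : (g : Cfsg.PSU 3 F 2) ^ 2 = 1 := by
    have := pow_orderOf_eq_one g
    rw [hg] at this
    exact_mod_cast congrArg Subtype.val this
  have hg1 : (g : Cfsg.PSU 3 F 2) ≠ 1 := by
    intro h1
    have : g = 1 := Subtype.ext h1
    rw [this, orderOf_one] at hg
    omega
  set H : Subgroup (Cfsg.PSU 3 F 2) :=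
    Subgroup.normalClosure {g : Cfsg.PSU 3 F 2 | g ^ 2 = 1} with hH
  have hHn : H.Normal := Subgroup.normalClosure_normal
  have hH18 : Nat.card ↥H ∣ 18 := card_invol_closure_psu32 hF
  set L : Subgroup (Cfsg.PSU 3 F 2) := M ⊓ H with hL
  have hLn : L.Normal := Subgroup.normal_inf_normal M H
  have hL2 : Nat.card ↥L ∣ 2 := by
    have h1 : Nat.card ↥L ∣ 8 := (Subgroup.card_dvd_of_le inf_le_left).trans hM8
    have h2 : Nat.card ↥L ∣ 18 := (Subgroup.card_dvd_of_le inf_le_right).trans hH18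
    exact Nat.dvd_gcd h1 h2
  have hgL : (g : Cfsg.PSU 3 F 2) ∈ L := ⟨g.2, Subgroup.subset_normalClosure hg2⟩
  -- `g` is central
  have hcen : ∀ t : Cfsg.PSU 3 F 2, t * (g : Cfsg.PSU 3 F 2) = (g : Cfsg.PSU 3 F 2) * t := by
    intro t
    have hx : t * (g : Cfsg.PSU 3 F 2) * t⁻¹ ∈ L := hLn.conj_mem _ hgL t
    have hx1 : t * (g : Cfsg.PSU 3 F 2) * t⁻¹ ≠ 1 := by
      intro h1
      apply hg1
      calc (g : Cfsg.PSU 3 F 2) = t⁻¹ * (t * (g : Cfsg.PSU 3 F 2) * t⁻¹) * t := by group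
        _ = 1 := by rw [h1]; group
    have hxg : t * (g : Cfsg.PSU 3 F 2) * t⁻¹ = (g : Cfsg.PSU 3 F 2) := by
      by_contra hxne
      have hfL : Fintype ↥L := Fintype.ofFinite _
      have h3 : 2 < Fintype.card ↥L := by
        rw [Fintype.two_lt_card_iff]
        refine ⟨1, ⟨(g : Cfsg.PSU 3 F 2), hgL⟩, ⟨_, hx⟩, ?_, ?_, ?_⟩
        · intro h; exact hg1 (congrArg Subtype.val h).symm
        · intro h; exact hx1 (congrArg Subtype.val h).symm
        · intro h; exact hxne (congrArg Subtype.val h).symm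
      have h4 : Nat.card ↥L ≤ 2 := Nat.le_of_dvd (by norm_num) hL2
      rw [Nat.card_eq_fintype_card] at h4
      omega
    calc t * (g : Cfsg.PSU 3 F 2) = (t * (g : Cfsg.PSU 3 F 2) * t⁻¹) * t := by group
      _ = (g : Cfsg.PSU 3 F 2) * t := by rw [hxg]
  exact hg1 (no_central_invol_psu32 hF _ hg2 hcen)

end Cfsg.Agent.Lib.Helper36.LocalBalance
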