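import Mathlib
import Cfsg.Agent.Lib.Helper43.PSUCentralizer
import Cfsg.Agent.Lib.Helper43.PSUSplit
import Cfsg.Agent.Lib.Helper36.LocalBalance.Abs2

set_option autoImplicit false
set_option linter.unusedSectionVars false

/-!
# The subgroup `E = image of SU_n(F₀)` in the centraliser of a standard field automorphism
(of odd order) of `PSU_n(F)`
-/

namespace Cfsg.Agent.Lib.Helper36.LocalBalance

open scoped MatrixGroups Matrix
open Matrix Cfsg.Agent.Lib.Helper5 Cfsg.Agent.Lib.Helper45.PSLField Cfsg.Agent.Lib.Helper43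
  Cfsg.Agent.Lib.Helper13

variable {n : ℕ} {F : Type*} [Field F] [Fintype F] {q : ℕ}
  {F₀ : Type*} [Field F₀] [Fintype F₀] {q₀ : ℕ}

/-- the homomorphism `SU_n(F₀) → Aut(PSU_n(F))` -/
noncomputable def suToAut (hF : Fintype.card F = q ^ 2) (hF₀ : Fintype.card F₀ = q₀ ^ 2)
    (j : F₀ →+* F) (hjq : ∀ a : F₀, j a ^ q = j (a ^ q₀)) :
    ↥(Cfsg.SU n F₀ q₀) →* MulAut (Cfsg.PSU n F q) :=
  (subDiagPSU hF hF₀ j hjq).comp toGU

/-- the image of `SU_n(F₀)` in `Aut(PSU_n(F))` -/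
noncomputable def EPSU (hF : Fintype.card F = q ^ 2) (hF₀ : Fintype.card F₀ = q₀ ^ 2)
    (j : F₀ →+* F) (hjq : ∀ a : F₀, j a ^ q = j (a ^ q₀)) :
    Subgroup (MulAut (Cfsg.PSU n F q)) :=
  (suToAut (n := n) hF hF₀ j hjq).range

section

variable (hF : Fintype.card F = q ^ 2) (hF₀ : Fintype.card F₀ = q₀ ^ 2)
  (j : F₀ →+* F) (hjq : ∀ a : F₀, j a ^ q = j (a ^ q₀))

theorem suToAut_apply (s : ↥(Cfsg.SU n F₀ q₀)) :
    suToAut (n := n) hF hF₀ j hjq s = subDiagPSU hF hF₀ j hjq (toGU s) := rfl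

theorem EPSU_le_Inn (hn : 3 ≤ n) :
    EPSU (n := n) hF hF₀ j hjq ≤ Cfsg.Inn (Cfsg.PSU n F q) := by
  rintro _ ⟨s, rfl⟩
  rw [suToAut_apply, subDiagPSU_apply, psuDiag_mem_inn_iff hF hn, guDet_guSub, guDet_toGU, map_one]
  exact ⟨1, by rw [powMonoidHom_apply, one_pow]⟩

theorem EPSU_le_centralizer (σ : RingAut F) (hj : ∀ a, σ (j a) = j a) :
    EPSU (n := n) hF hF₀ j hjq ≤
      Subgroup.centralizer {(psuField σ : MulAut (Cfsg.PSU n F q))} := by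
  rintro _ ⟨s, rfl⟩
  rw [Subgroup.mem_centralizer_iff]
  intro h hh
  rw [Set.mem_singleton_iff] at hh
  subst hh
  exact subDiagPSU_comm hF hF₀ j hjq σ hj (toGU s)

theorem Inn_le_inndiagPSU :
    Cfsg.Inn (Cfsg.PSU n F q) ≤ Cfsg.inndiagPSU n F q := by
  intro t ht
  obtain ⟨s, rfl⟩ := (mem_inn_psu_iff t).mp ht
  exact psuDiag_mem_inndiagPSU _

/-- conjugating an element of `SU` inside `GU` -/
theorem toGU_suConj (g : ↥(Cfsg.GU n F₀ q₀)) (s : ↥(Cfsg.SU n F₀ q₀)) :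
    toGU (suConj g s) = g * toGU s * g⁻¹ := by
  apply Subtype.ext
  apply Units.ext
  rfl

section Cent

variable (hn : 3 ≤ n) (σ : RingAut F) {r : ℕ} (hr : Odd r) (hσ : orderOf σ = r)
  (hq : q = q₀ ^ r) (hj : ∀ a : F, σ a = a ↔ ∃ b, j b = a)

include hn hr hσ hq hj in
theorem inn_inf_centralizer_le_range_psu :
    Cfsg.Inn (Cfsg.PSU n F q) ⊓ Subgroup.centralizer
        {(psuField σ : MulAut (Cfsg.PSU n F q))} ≤
      (subDiagPSU hF hF₀ j hjq : ↥(Cfsg.GU n F₀ q₀) →* MulAut (Cfsg.PSU n F q)).range := by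
  intro b hb
  have hb' : b ∈ Cfsg.inndiagPSU n F q ⊓ Subgroup.centralizer {psuField σ} :=
    ⟨Inn_le_inndiagPSU hb.1, hb.2⟩
  obtain ⟨A, hA⟩ := (mem_inndiag_centralizer_iff_psu hF hF₀ hn σ hr hσ hq j hj hjq b).mp hb'
  exact ⟨A, hA⟩

include hn hr hσ hq hj in
theorem EPSU_normalized :
    ∀ b ∈ Cfsg.Inn (Cfsg.PSU n F q) ⊓
        Subgroup.centralizer {(psuField σ : MulAut (Cfsg.PSU n F q))},
      ∀ e ∈ EPSU (n := n) hF hF₀ j hjq, b * e * b⁻¹ ∈ EPSU (n := n) hF hF₀ j hjq := by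
  intro b hb e he
  obtain ⟨B, rfl⟩ := inn_inf_centralizer_le_range_psu hF hF₀ j hjq hn σ hr hσ hq hj hb
  obtain ⟨s, rfl⟩ := he
  refine ⟨suConj B s, ?_⟩
  rw [suToAut_apply, suToAut_apply, toGU_suConj, map_mul, map_mul, map_inv]

end Cent

include hF₀ in
/-- a central element of `SU_n(F₀)` is scalar -/
theorem center_su_scalar (hn : 1 ≤ n) (z : ↥(Cfsg.SU n F₀ q₀))
    (hz : z ∈ Subgroup.center ↥(Cfsg.SU n F₀ q₀)) :
    ∃ c : F₀, (z.1.1 : Matrix (Fin n) (Fin n) F₀) = c • 1 := by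
  obtain ⟨k, rfl⟩ : ∃ k, n = k + 1 := ⟨n - 1, by omega⟩
  exact ⟨_, center_eq_smul_one hF₀ z hz⟩

theorem ker_suToAut (hn : 3 ≤ n) :
    (suToAut (n := n) hF hF₀ j hjq).ker = Subgroup.center ↥(Cfsg.SU n F₀ q₀) := by
  ext s
  rw [MonoidHom.mem_ker, suToAut_apply, ← MonoidHom.mem_ker, ker_subDiagPSU hF hF₀ hn j hjq,
    Subgroup.mem_subgroupOf, Cfsg.Geo.mem_scalars_iff]
  constructor
  · rintro ⟨c, hc⟩
    have hc' : (s.1.1 : Matrix (Fin n) (Fin n) F₀) = (c : F₀) • 1 := hc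
    rw [Subgroup.mem_center_iff]
    intro g
    apply su_ext
    show (g.1.1 : Matrix (Fin n) (Fin n) F₀) * s.1.1 = s.1.1 * g.1.1
    rw [hc', Matrix.mul_smul, Matrix.smul_mul, Matrix.mul_one, Matrix.one_mul]
  · intro hs
    obtain ⟨c, hc⟩ := center_su_scalar hF₀ (by omega) s hs
    have hc0 : c ≠ 0 := by
      intro h0
      apply gu_coe_ne_zero (by omega : 1 ≤ n) ((toGU s : ↥(Cfsg.GU n F₀ q₀)) : GL (Fin n) F₀)
      rw [toGU_coe, hc, h0, zero_smul]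
    refine ⟨Units.mk0 c hc0, ?_⟩
    rw [Units.val_mk0]
    exact hc

/-- the induced map `PSU_n(F₀) → Aut(PSU_n(F))` -/
noncomputable def psuToE (hn : 3 ≤ n) : Cfsg.PSU n F₀ q₀ →* MulAut (Cfsg.PSU n F q) :=
  QuotientGroup.lift _ (suToAut (n := n) hF hF₀ j hjq)
    (le_of_eq (ker_suToAut hF hF₀ j hjq hn).symm)

theorem psuToE_range (hn : 3 ≤ n) :
    (psuToE (n := n) hF hF₀ j hjq hn).range = EPSU (n := n) hF hF₀ j hjq := by
  ext t
  constructor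
  · rintro ⟨x, rfl⟩
    obtain ⟨s, rfl⟩ := QuotientGroup.mk_surjective x
    exact ⟨s, rfl⟩
  · rintro ⟨s, rfl⟩
    exact ⟨QuotientGroup.mk s, rfl⟩

theorem psuToE_injective (hn : 3 ≤ n) :
    Function.Injective (psuToE (n := n) hF hF₀ j hjq hn) := by
  rw [injective_iff_map_eq_one]
  intro x hx
  obtain ⟨s, rfl⟩ := QuotientGroup.mk_surjective x
  have h1 : suToAut (n := n) hF hF₀ j hjq s = 1 := hx
  rw [QuotientGroup.eq_one_iff, ← ker_suToAut hF hF₀ j hjq hn]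
  exact h1

/-- `E ≃ PSU_n(F₀)` -/
theorem nonempty_EPSU_equiv (hn : 3 ≤ n) :
    Nonempty (Cfsg.PSU n F₀ q₀ ≃* ↥(EPSU (n := n) hF hF₀ j hjq)) := by
  have e := MonoidHom.ofInjective (psuToE_injective (n := n) hF hF₀ j hjq hn)
  rw [psuToE_range] at e
  exact ⟨e⟩

end

end Cfsg.Agent.Lib.Helper36.LocalBalance
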