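import Mathlib
import Cfsg.Agent.Lib.Helper36.LocalBalance.PSUE
import Cfsg.Agent.Lib.Helper36.LocalBalance.PSpCent
import Cfsg.Agent.Lib.Helper36.LocalBalance.Galois

set_option autoImplicit false
set_option linter.unusedSectionVars false

/-!
# The centraliser of `E = image of SU_n(F₀)` among the standard automorphisms of `PSU_n(F)` is
`⟨φ_σ⟩`
-/

namespace Cfsg.Agent.Lib.Helper36.LocalBalance

open scoped MatrixGroups Matrix
open Matrix Cfsg.Agent.Lib.Helper5 Cfsg.Agent.Lib.Helper45.PSLField Cfsg.Agent.Lib.Helper43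

variable {n : ℕ} {F : Type*} [Field F] {q : ℕ} {F₀ : Type*} [Field F₀] {q₀ : ℕ}

/-- the quasi-reflection over `F₀` mapped into `F` -/
theorem qrefl_map_hom (j : F₀ →+* F) (hjq : ∀ a : F₀, j a ^ q = j (a ^ q₀)) (w : Fin n → F₀)
    (a : F₀) : (qrefl q₀ w a).map j = qrefl q (fun i => j (w i)) (j a) := by
  unfold qrefl
  ext k l
  simp only [Matrix.map_apply, Matrix.add_apply, Matrix.smul_apply, Matrix.vecMulVec_apply,
    smul_eq_mul, map_add, map_mul, Matrix.one_apply, hjq]
  congr 1
  split_ifs <;> simp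

theorem hermForm_map_hom (j : F₀ →+* F) (hjq : ∀ a : F₀, j a ^ q = j (a ^ q₀))
    (u v : Fin n → F₀) :
    Cfsg.hermForm n F q (fun i => j (u i)) (fun i => j (v i)) = j (Cfsg.hermForm n F₀ q₀ u v) := by
  unfold Cfsg.hermForm
  rw [map_sum]
  apply Finset.sum_congr rfl
  intro i _
  rw [map_mul, hjq]

/-- the nilpotent part of a quasi-reflection along an isotropic vector squares to zero -/
theorem qrefl_nil_sq (w : Fin n → F) (hw : Cfsg.hermForm n F q w w = 0) (a : F) :
    (a • Matrix.vecMulVec w (fun k => w k ^ q)) * (a • Matrix.vecMulVec w (fun k => w k ^ q)) =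
      0 := by
  have h1 : qrefl q w a * qrefl q w a = qrefl q w (a + a) := qrefl_mul_qrefl w hw a a
  unfold qrefl at h1
  set A : Matrix (Fin n) (Fin n) F := a • Matrix.vecMulVec w (fun k => w k ^ q) with hA
  have h2 : A * A = (1 + A) * (1 + A) - (1 + (A + A)) := by noncomm_ring
  rw [h2, h1, add_smul, sub_self]

/-- a semilinear map `v ↦ G τ(v)` fixing all isotropic points of the `F₀`-structure: `τ` fixes
`F₀` pointwise and `G` is scalar -/
theorem scalar_of_fix_isotropic [Fintype F₀] (hF₀ : Fintype.card F₀ = q₀ ^ 2) (hn : 3 ≤ n)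
    (j : F₀ →+* F) (τ : RingAut F) (g : GL (Fin n) F)
    (hfix : ∀ w : Fin n → F₀, Cfsg.hermForm n F₀ q₀ w w = 0 → w ≠ 0 →
      ∃ μ : F, ((g : Matrix (Fin n) (Fin n) F) *ᵥ fun i => τ (j (w i))) = μ • fun i => j (w i)) :
    (∀ c : F₀, τ (j c) = j c) ∧
      ∃ c : F, (g : Matrix (Fin n) (Fin n) F) = c • (1 : Matrix (Fin n) (Fin n) F) := by
  set G : Matrix (Fin n) (Fin n) F := (g : Matrix (Fin n) (Fin n) F) with hG
  have hτj : ∀ (v : Fin n → F₀), (fun m => τ (j (v m))) =
      fun m => (τ : F →+* F).comp j (v m) := fun v => rfl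
  -- `G` is diagonal
  have hdiag : ∀ k l : Fin n, k ≠ l → G k l = 0 := by
    intro k l hkl
    obtain ⟨i, hik, hil⟩ := exists_ne_ne hn k l
    obtain ⟨x, y, -, hxy, -, -, hx, hy, -⟩ := exists_three_norm_neg_one hF₀
    have key2 : ∀ c : F₀, c * c ^ q₀ = -1 → G k i + τ (j c) * G k l = 0 := by
      intro c hc
      have hw : Cfsg.hermForm n F₀ q₀ (Pi.single i 1 + c • Pi.single l 1)
          (Pi.single i 1 + c • Pi.single l 1) = 0 := by
        rw [hermForm_add_left, hermForm_smul_left, hermForm_single_left, hermForm_single_left]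
        simp [hil, Ne.symm hil, hc]
      have hw0 : (Pi.single i 1 + c • Pi.single l 1 : Fin n → F₀) ≠ 0 := by
        intro h0
        have := congrFun h0 i
        simp [hil] at this
      obtain ⟨μ, hμ⟩ := hfix _ hw hw0
      have hσw : (fun m => τ (j ((Pi.single i 1 + c • Pi.single l 1 : Fin n → F₀) m))) =
          Pi.single i 1 + τ (j c) • Pi.single l 1 := by
        funext m
        by_cases hmi : m = i
        · subst hmi; simp [hil]
        · by_cases hml : m = l
          · subst hml; simp [hmi]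
          · simp [hmi, hml]
      have hjw : (fun m => j ((Pi.single i 1 + c • Pi.single l 1 : Fin n → F₀) m)) =
          Pi.single i 1 + j c • Pi.single l 1 := by
        funext m
        by_cases hmi : m = i
        · subst hmi; simp [hil]
        · by_cases hml : m = l
          · subst hml; simp [hmi]
          · simp [hmi, hml]
      rw [hσw, hjw, mulVec_add, mulVec_smul, mulVec_single_one, mulVec_single_one] at hμ
      have hk := congrFun hμ k
      simpa [hik, Ne.symm hik, hkl, Ne.symm hkl] using hk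
    have h1 := key2 x hx
    have h2 := key2 y hy
    have h3 : (τ (j x) - τ (j y)) * G k l = 0 := by linear_combination h1 - h2
    rcases mul_eq_zero.mp h3 with h4 | h4
    · exact absurd (j.injective (τ.injective (sub_eq_zero.mp h4))) hxy
    · exact h4
  have hmul : ∀ (v : Fin n → F) (m : Fin n), (G *ᵥ v) m = G m m * v m := by
    intro v m
    rw [mulVec, dotProduct]
    apply Finset.sum_eq_single m
    · intro b _ hb
      rw [hdiag m b (Ne.symm hb), zero_mul]
    · intro hm
      exact absurd (Finset.mem_univ m) hm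
  -- diagonal entries
  have hent : ∀ i l : Fin n, i ≠ l → ∀ c : F₀, G l l * τ (j c) = G i i * j c := by
    intro i l hil c
    obtain ⟨k, hki, hkl⟩ := exists_ne_ne hn i l
    have hd : (-1 - c * c ^ q₀) ^ q₀ = -1 - c * c ^ q₀ := by
      rw [sub_pow_q hF₀, neg_pow_q hF₀, one_pow, norm_pow_q hF₀]
    obtain ⟨d, hd⟩ := exists_norm_eq hF₀ hd
    have hw : Cfsg.hermForm n F₀ q₀ (Pi.single i 1 + c • Pi.single l 1 + d • Pi.single k 1)
        (Pi.single i 1 + c • Pi.single l 1 + d • Pi.single k 1) = 0 := by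
      rw [hermForm_add_left, hermForm_add_left, hermForm_smul_left, hermForm_smul_left,
        hermForm_single_left, hermForm_single_left, hermForm_single_left]
      simp [hil, Ne.symm hil, hki, Ne.symm hki, hkl, Ne.symm hkl, hd]
    have hw0 : (Pi.single i 1 + c • Pi.single l 1 + d • Pi.single k 1 : Fin n → F₀) ≠ 0 := by
      intro h0
      have := congrFun h0 i
      simp [hil, Ne.symm hki] at this
    obtain ⟨μ, hμ⟩ := hfix _ hw hw0
    have hi := congrFun hμ i
    have hl := congrFun hμ l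
    rw [hmul] at hi hl
    simp [hil, Ne.symm hil, hki, Ne.symm hki, hkl, Ne.symm hkl] at hi hl
    rw [hl, ← hi]
  have h0n : 0 < n := by omega
  have h1n : 1 < n := by omega
  set i₀ : Fin n := ⟨0, h0n⟩ with hi₀
  set i₁ : Fin n := ⟨1, h1n⟩ with hi₁
  have h01 : i₀ ≠ i₁ := by
    intro h0
    have := congrArg Fin.val h0
    simp [hi₀, hi₁] at this
  have heq : ∀ i l : Fin n, G l l = G i i := by
    intro i l
    by_cases hil : i = l
    · rw [hil]
    · have := hent i l hil 1
      rwa [map_one, map_one, mul_one, mul_one] at this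
  have hne : G i₀ i₀ ≠ 0 := by
    intro h0
    have h1 : G *ᵥ (Pi.single i₀ 1) = 0 := by
      funext m
      rw [hmul]
      by_cases hm : m = i₀
      · rw [hm, h0, zero_mul]; rfl
      · simp [hm]
    have h2 := congrArg (fun w => (((g⁻¹ : GL (Fin n) F)) :
      Matrix (Fin n) (Fin n) F) *ᵥ w) h1
    simp only [Matrix.mulVec_mulVec, Matrix.mulVec_zero] at h2
    rw [hG, gl_inv_mul_coe, Matrix.one_mulVec] at h2
    have h3 := congrFun h2 i₀
    simp at h3
  refine ⟨?_, G i₀ i₀, ?_⟩
  · intro c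
    have h1 := hent i₀ i₁ h01 c
    rw [heq i₀ i₁] at h1
    exact mul_left_cancel₀ hne h1
  · ext k l
    rw [Matrix.smul_apply, Matrix.one_apply, smul_eq_mul]
    by_cases hkl : k = l
    · subst hkl
      rw [if_pos rfl, mul_one]
      exact heq i₀ k
    · rw [if_neg hkl, mul_zero]
      exact hdiag k l hkl

variable [Fintype F] [Fintype F₀]

/-- **the standard automorphisms commuting with `E` lie in `⟨φ_σ⟩`** -/
theorem mem_zpowers_of_comm_EPSU (hF : Fintype.card F = q ^ 2) (hF₀ : Fintype.card F₀ = q₀ ^ 2)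
    (hn : 3 ≤ n) (j : F₀ →+* F) (hjq : ∀ a : F₀, j a ^ q = j (a ^ q₀)) (σ : RingAut F)
    (hj : ∀ a : F, σ a = a ↔ ∃ b, j b = a) (g : ↥(Cfsg.GU n F q)) (τ : RingAut F)
    (ha : ∀ e ∈ EPSU (n := n) hF hF₀ j hjq,
      (psuDiag g * psuField τ : MulAut (Cfsg.PSU n F q)) * e = e * (psuDiag g * psuField τ)) :
    (psuDiag g * psuField τ : MulAut (Cfsg.PSU n F q)) ∈
      Subgroup.zpowers (psuField σ : MulAut (Cfsg.PSU n F q)) := by
  have hne : Nonempty (Fin n) := ⟨⟨0, by omega⟩⟩
  set G : Matrix (Fin n) (Fin n) F := ((g : GL (Fin n) F) : Matrix (Fin n) (Fin n) F) with hG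
  -- commutation with the unitary transvections of `E`
  have hcomm : ∀ (w : Fin n → F₀) (hw : Cfsg.hermForm n F₀ q₀ w w = 0) (a : F₀)
      (haa : a + a ^ q₀ = 0),
      G * qrefl q (fun i => τ (j (w i))) (τ (j a)) = qrefl q (fun i => j (w i)) (j a) * G := by
    intro w hw a haa
    set T : ↥(Cfsg.SU n F₀ q₀) := suTv hF₀ w hw a haa with hT
    set h : ↥(Cfsg.GU n F q) := guSub hF hF₀ j hjq (toGU T) with hh
    have he : suToAut (n := n) hF hF₀ j hjq T ∈ EPSU (n := n) hF hF₀ j hjq := ⟨T, rfl⟩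
    have h1 := ha _ he
    rw [suToAut_apply, subDiagPSU_apply, ← hh] at h1
    have h3 : (psuDiag (g * guMap τ h) : MulAut (Cfsg.PSU n F q)) = psuDiag (h * g) := by
      have e1 : (psuDiag g : MulAut (Cfsg.PSU n F q)) * psuField τ * psuDiag h =
          psuDiag (g * guMap τ h) * psuField τ := by
        rw [mul_assoc, psuField_mul_psuDiag, ← mul_assoc, ← map_mul]
      have e2 : (psuDiag h : MulAut (Cfsg.PSU n F q)) * (psuDiag g * psuField τ) =
          psuDiag (h * g) * psuField τ := by
        rw [← mul_assoc, ← map_mul]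
      rw [e1, e2] at h1
      exact mul_right_cancel h1
    obtain ⟨c, hc⟩ := (psuDiag_eq_iff hF hn _ _).mp h3
    simp only [Subgroup.coe_mul, Units.val_mul] at hc
    rw [guMap_coe] at hc
    have hH : ((h : GL (Fin n) F) : Matrix (Fin n) (Fin n) F) =
        qrefl q (fun i => j (w i)) (j a) := by
      rw [hh, guSub_coe, toGU_coe, hT, suTv_coe, qrefl_map_hom j hjq]
    have hHτ : (qrefl q (fun i => j (w i)) (j a)).map τ =
        qrefl q (fun i => τ (j (w i))) (τ (j a)) := by
      have := qrefl_map (q := q) ((τ : F ≃+* F) : F →+* F) (fun i => j (w i)) (j a)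
      simpa only [RingEquiv.coe_toRingHom] using this
    rw [hH, hHτ] at hc
    -- the scalar is one
    have hw' : Cfsg.hermForm n F q (fun i => j (w i)) (fun i => j (w i)) = 0 := by
      rw [hermForm_map_hom j hjq, hw, map_zero]
    have hw'' : Cfsg.hermForm n F q (fun i => τ (j (w i))) (fun i => τ (j (w i))) = 0 := by
      have := hermForm_map (q := q) ((τ : F ≃+* F) : F →+* F) (fun i => j (w i))
        (fun i => j (w i))
      simp only [RingEquiv.coe_toRingHom] at this
      rw [this, hw', map_zero]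
    have hc1 : c = 1 := by
      apply unip_scalar (g : GL (Fin n) F)
        (j a • Matrix.vecMulVec (fun i => j (w i)) (fun k => j (w k) ^ q))
        (τ (j a) • Matrix.vecMulVec (fun i => τ (j (w i))) (fun k => τ (j (w k)) ^ q))
        (qrefl_nil_sq _ hw' _) (qrefl_nil_sq _ hw'' _) c
      exact hc
    rw [hc1, one_smul] at hc
    exact hc
  -- every isotropic point of the `F₀`-structure is fixed
  have hfix : ∀ w : Fin n → F₀, Cfsg.hermForm n F₀ q₀ w w = 0 → w ≠ 0 →
      ∃ μ : F, (G *ᵥ fun i => τ (j (w i))) = μ • fun i => j (w i) := by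
    intro w hw hw0
    obtain ⟨a, ha0, haa⟩ := exists_trace_zero hF₀
    obtain ⟨i, hi⟩ : ∃ i, w i ≠ 0 := by
      by_contra hh
      push Not at hh
      exact hw0 (funext hh)
    have h3 := hcomm w hw a haa
    have h5 := congrArg (fun M : Matrix (Fin n) (Fin n) F => M *ᵥ (Pi.single i 1)) h3
    beta_reduce at h5
    rw [← Matrix.mulVec_mulVec, ← Matrix.mulVec_mulVec, qrefl_mulVec, qrefl_mulVec,
      Matrix.mulVec_add, Matrix.mulVec_smul] at h5
    have h6 := add_left_cancel h5
    have hne' : τ (j a) * Cfsg.hermForm n F q (Pi.single i 1) (fun i => τ (j (w i))) ≠ 0 := by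
      rw [hermForm_single_left, one_mul]
      refine mul_ne_zero ?_ (pow_ne_zero _ ?_)
      · exact fun h0 => ha0 ((map_eq_zero j).mp ((map_eq_zero τ).mp h0))
      · exact fun h0 => hi ((map_eq_zero j).mp ((map_eq_zero τ).mp h0))
    refine ⟨(τ (j a) * Cfsg.hermForm n F q (Pi.single i 1) (fun i => τ (j (w i))))⁻¹ *
      (j a * Cfsg.hermForm n F q (G *ᵥ Pi.single i 1) (fun i => j (w i))), ?_⟩
    rw [mul_smul, ← h6, smul_smul, inv_mul_cancel₀ hne', one_smul]
  obtain ⟨hτ, c, hc⟩ := scalar_of_fix_isotropic hF₀ hn j τ (g : GL (Fin n) F) hfix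
  have hτσ : τ ∈ Subgroup.zpowers σ := by
    apply mem_zpowers_of_fixes
    intro x hx
    obtain ⟨b, rfl⟩ := (hj x).mp hx
    exact hτ b
  obtain ⟨i, hi⟩ := hτσ
  have hg1 : (psuDiag g : MulAut (Cfsg.PSU n F q)) = 1 := by
    rw [psuDiag_eq_one_iff hF hn]
    exact ⟨c, hc⟩
  rw [hg1, one_mul]
  refine ⟨i, ?_⟩
  show (psuField σ : MulAut (Cfsg.PSU n F q)) ^ i = psuField τ
  rw [← map_zpow]
  exact congrArg _ hi

end Cfsg.Agent.Lib.Helper36.LocalBalance
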