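import Mathlib
import Cfsg.Agent.Lib.Helper36.LocalBalance.PSUCent
import Cfsg.Agent.Lib.Helper36.LocalBalance.PSU32
import Cfsg.Agent.Lib.Helper36.LocalBalance.PSLStd
import Cfsg.Agent.S0283
import Cfsg.Agent.Lib.Helper43.PSUOut

set_option autoImplicit false
set_option linter.unusedSectionVars false

/-!
# The local-balance criterion for a standard field automorphism of odd prime order of `PSU_n(F)`
-/

namespace Cfsg.Agent.Lib.Helper36.LocalBalance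

open scoped MatrixGroups Matrix
open Matrix Cfsg.Agent.Lib.Helper5 Cfsg.Agent.Lib.Helper45.PSLField Cfsg.Agent.Lib.Helper43

variable {n : ℕ} {F : Type*} [Field F] [Fintype F] {q : ℕ}
  {F₀ : Type*} [Field F₀] [Fintype F₀] {q₀ : ℕ}

section

variable (hF : Fintype.card F = q ^ 2) (hF₀ : Fintype.card F₀ = q₀ ^ 2)
  (j : F₀ →+* F) (hjq : ∀ a : F₀, j a ^ q = j (a ^ q₀))

theorem card_EPSU (hn : 3 ≤ n) :
    Nat.card ↥(EPSU (n := n) hF hF₀ j hjq) = Nat.card (Cfsg.PSU n F₀ q₀) := by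
  obtain ⟨e⟩ := nonempty_EPSU_equiv (n := n) hF hF₀ j hjq hn
  exact (Nat.card_congr e.toEquiv).symm

include hF₀ in
theorem nontrivial_psu (hn : 3 ≤ n) : Nontrivial (Cfsg.PSU n F₀ q₀) := by
  by_cases h32 : n = 3 ∧ q₀ = 2
  · obtain ⟨rfl, rfl⟩ := h32
    have hF4 : Fintype.card F₀ = 4 := by rw [hF₀]; norm_num
    have hcard := Cfsg.Agent.S5908.card_PSU hF4
    have hfin : Finite (Cfsg.PSU 3 F₀ 2) := Nat.finite_of_card_ne_zero (by rw [hcard]; norm_num)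
    rw [← Finite.one_lt_card_iff_nontrivial, hcard]
    norm_num
  · have := Cfsg.Agent.S0283.result hF₀ n hn h32
    exact inferInstance

theorem EPSU_ne_bot (hn : 3 ≤ n) : EPSU (n := n) hF hF₀ j hjq ≠ ⊥ := by
  intro h0
  obtain ⟨e⟩ := nonempty_EPSU_equiv (n := n) hF hF₀ j hjq hn
  have hnt : Nontrivial (Cfsg.PSU n F₀ q₀) := nontrivial_psu hF₀ hn
  have hnt' : Nontrivial ↥(EPSU (n := n) hF hF₀ j hjq) := e.toEquiv.symm.nontrivial
  exact (Subgroup.nontrivial_iff_ne_bot _).mp hnt' h0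

/-- the scalar matrix of a norm-one element, in `GU` -/
noncomputable def scalarGU (e : ↥(Cfsg.Agent.Lib.Helper13.U1 F₀ q₀)) : ↥(Cfsg.GU n F₀ q₀) :=
  ⟨Cfsg.Agent.Lib.Helper13.diagGL n F₀ (fun _ => (e : F₀ˣ)),
    Cfsg.Agent.Lib.Helper13.diagGL_mem_GU _
      (fun _ => (Cfsg.Agent.Lib.Helper13.mem_U1_iff (e : F₀ˣ)).mp e.2)⟩

theorem scalarGU_coe (e : ↥(Cfsg.Agent.Lib.Helper13.U1 F₀ q₀)) :
    (((scalarGU (n := n) e : ↥(Cfsg.GU n F₀ q₀)) : GL (Fin n) F₀) : Matrix (Fin n) (Fin n) F₀) =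
      ((e : F₀ˣ) : F₀) • (1 : Matrix (Fin n) (Fin n) F₀) := by
  show ((Cfsg.Agent.Lib.Helper13.diagGL n F₀ (fun _ => (e : F₀ˣ)) : GL (Fin n) F₀) :
    Matrix (Fin n) (Fin n) F₀) = _
  rw [Cfsg.Agent.Lib.Helper13.diagGL_coe, Matrix.smul_one_eq_diagonal]

theorem guDet_scalarGU (e : ↥(Cfsg.Agent.Lib.Helper13.U1 F₀ q₀)) :
    guDet hF₀ (scalarGU (n := n) e) = e ^ n := by
  apply Subtype.ext
  apply Units.ext
  rw [guDet_coe]
  show ((Cfsg.Agent.Lib.Helper13.diagGL n F₀ (fun _ => (e : F₀ˣ)) : GL (Fin n) F₀) :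
    Matrix (Fin n) (Fin n) F₀).det = _
  rw [Cfsg.Agent.Lib.Helper13.det_diagGL_const]
  simp

theorem subDiagPSU_scalarGU (hn : 3 ≤ n) (e : ↥(Cfsg.Agent.Lib.Helper13.U1 F₀ q₀)) :
    (subDiagPSU hF hF₀ j hjq (scalarGU (n := n) e) : MulAut (Cfsg.PSU n F q)) = 1 := by
  rw [← MonoidHom.mem_ker, ker_subDiagPSU hF hF₀ hn j hjq, Subgroup.mem_subgroupOf,
    Cfsg.Geo.mem_scalars_iff]
  exact ⟨(e : F₀ˣ), scalarGU_coe e⟩

/-- elements of `GU_n(F₀)` of determinant one come from `SU_n(F₀)` -/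
theorem exists_toGU_eq (A : ↥(Cfsg.GU n F₀ q₀)) (hA : guDet hF₀ A = 1) :
    ∃ s : ↥(Cfsg.SU n F₀ q₀), toGU s = A := by
  have hdet : ((A : GL (Fin n) F₀) : Matrix (Fin n) (Fin n) F₀).det = 1 := by
    have := congrArg (fun x : ↥(Cfsg.Agent.Lib.Helper13.U1 F₀ q₀) => ((x : F₀ˣ) : F₀)) hA
    simpa [guDet_coe] using this
  refine ⟨⟨⟨((A : GL (Fin n) F₀) : Matrix (Fin n) (Fin n) F₀), hdet⟩, A.2⟩, ?_⟩
  apply Subtype.ext
  apply Units.ext
  rfl

/-- matrices of `GU_n(F₀)` whose determinant is an `n`-th power in `U₁` induce elements of `E` -/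
theorem mem_EPSU_of_det_pow (hn : 3 ≤ n) (A : ↥(Cfsg.GU n F₀ q₀))
    (e : ↥(Cfsg.Agent.Lib.Helper13.U1 F₀ q₀)) (he : e ^ n = guDet hF₀ A) :
    (subDiagPSU hF hF₀ j hjq A : MulAut (Cfsg.PSU n F q)) ∈ EPSU (n := n) hF hF₀ j hjq := by
  obtain ⟨s, hs⟩ := exists_toGU_eq hF₀ ((scalarGU (n := n) e)⁻¹ * A)
    (by rw [map_mul, map_inv, guDet_scalarGU, he, inv_mul_cancel])
  refine ⟨s, ?_⟩
  rw [suToAut_apply, hs, map_mul, map_inv, subDiagPSU_scalarGU hF hF₀ j hjq hn, inv_one, one_mul]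

/-- a non-central element of `SU_n(F₀)` with central `p`-th power gives `p ∣ |E|` -/
theorem dvd_card_EPSU_of_elt (hn : 3 ≤ n) (p : ℕ) [Fact p.Prime]
    (s : ↥(Cfsg.SU n F₀ q₀)) (hs : s ∉ Subgroup.center ↥(Cfsg.SU n F₀ q₀))
    (hsp : s ^ p ∈ Subgroup.center ↥(Cfsg.SU n F₀ q₀)) :
    p ∣ Nat.card ↥(EPSU (n := n) hF hF₀ j hjq) := by
  have hp : p.Prime := Fact.out
  set y : MulAut (Cfsg.PSU n F q) := suToAut (n := n) hF hF₀ j hjq s with hy
  have hyE : y ∈ EPSU (n := n) hF hF₀ j hjq := ⟨s, rfl⟩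
  have hy1 : y ≠ 1 := by
    intro h1
    apply hs
    rw [← ker_suToAut hF hF₀ j hjq hn]
    exact h1
  have hyp : y ^ p = 1 := by
    rw [hy, ← map_pow]
    rw [← ker_suToAut hF hF₀ j hjq hn] at hsp
    exact hsp
  have ho : orderOf y = p := by
    rcases (Nat.dvd_prime hp).mp (orderOf_dvd_of_pow_eq_one hyp) with h | h
    · exact absurd (orderOf_eq_one_iff.mp h) hy1
    · exact h
  rw [← ho]
  exact dvd_card_of_mem_orderOf _ _ hyE

include hF₀ in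
/-- a non-central diagonal element of order `p` of `SU_n(F₀)` -/
theorem exists_diag_elt_su (hn : 3 ≤ n) (c : ↥(Cfsg.Agent.Lib.Helper13.U1 F₀ q₀)) (p : ℕ)
    (hc : orderOf c = p) (hp1 : p ≠ 1) :
    ∃ s : ↥(Cfsg.SU n F₀ q₀), s ∉ Subgroup.center ↥(Cfsg.SU n F₀ q₀) ∧ s ^ p = 1 := by
  set k₀ : Fin n := ⟨0, by omega⟩ with hk₀
  set l₀ : Fin n := ⟨1, by omega⟩ with hl₀
  set m₀ : Fin n := ⟨2, by omega⟩ with hm₀
  have hkl : k₀ ≠ l₀ := by
    intro h; have := congrArg Fin.val h; simp [hk₀, hl₀] at this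
  have hmk : m₀ ≠ k₀ := by
    intro h; have := congrArg Fin.val h; simp [hk₀, hm₀] at this
  have hml : m₀ ≠ l₀ := by
    intro h; have := congrArg Fin.val h; simp [hl₀, hm₀] at this
  set d : Fin n → F₀ˣ := fun i =>
    (if i = k₀ then (c : F₀ˣ) else 1) * (if i = l₀ then ((c⁻¹ : ↥(Cfsg.Agent.Lib.Helper13.U1 F₀ q₀)) : F₀ˣ) else 1)
    with hd
  have hcU : ((c : F₀ˣ) : F₀) ^ (q₀ + 1) = 1 := (Cfsg.Agent.Lib.Helper13.mem_U1_iff (c : F₀ˣ)).mp c.2
  have hcU' : (((c⁻¹ : ↥(Cfsg.Agent.Lib.Helper13.U1 F₀ q₀)) : F₀ˣ) : F₀) ^ (q₀ + 1) = 1 :=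
    (Cfsg.Agent.Lib.Helper13.mem_U1_iff _).mp (c⁻¹).2
  have hdU : ∀ i, ((d i : F₀ˣ) : F₀) ^ (q₀ + 1) = 1 := by
    intro i
    simp only [hd]
    rw [Units.val_mul, mul_pow]
    split_ifs <;> simp [hcU]
  have hmem : Cfsg.Agent.Lib.Helper13.diagGL n F₀ d ∈ Cfsg.GU n F₀ q₀ :=
    Cfsg.Agent.Lib.Helper13.diagGL_mem_GU d hdU
  have hprod : ∏ i, d i = 1 := by
    simp only [hd]
    rw [Finset.prod_mul_distrib, Finset.prod_ite_eq' Finset.univ k₀,
      Finset.prod_ite_eq' Finset.univ l₀, if_pos (Finset.mem_univ _), if_pos (Finset.mem_univ _),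
      Subgroup.coe_inv, mul_inv_cancel]
  have hdet : ((Cfsg.Agent.Lib.Helper13.diagGL n F₀ d : GL (Fin n) F₀) :
      Matrix (Fin n) (Fin n) F₀).det = 1 := by
    rw [Cfsg.Agent.Lib.Helper13.det_diagGL, ← Units.coe_prod, hprod, Units.val_one]
  set s : ↥(Cfsg.SU n F₀ q₀) :=
    ⟨⟨((Cfsg.Agent.Lib.Helper13.diagGL n F₀ d : GL (Fin n) F₀) : Matrix (Fin n) (Fin n) F₀),
      hdet⟩, hmem⟩ with hs
  have hscoe : (s.1.1 : Matrix (Fin n) (Fin n) F₀) = Matrix.diagonal (fun i => ((d i : F₀ˣ) : F₀)) :=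
    Cfsg.Agent.Lib.Helper13.diagGL_coe d
  have hcp : c ^ p = 1 := by rw [← hc]; exact pow_orderOf_eq_one c
  refine ⟨s, ?_, ?_⟩
  · intro hcen
    obtain ⟨r, hr⟩ := center_su_scalar hF₀ (by omega) s hcen
    rw [hscoe] at hr
    have h1 := congrFun (congrFun hr k₀) k₀
    have h2 := congrFun (congrFun hr m₀) m₀
    rw [Matrix.diagonal_apply_eq, Matrix.smul_apply, Matrix.one_apply_eq, smul_eq_mul, mul_one]
      at h1 h2
    have h3 : d k₀ = (c : F₀ˣ) := by simp [hd, hkl]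
    have h4 : d m₀ = 1 := by simp [hd, hmk, hml]
    rw [h3] at h1
    rw [h4, Units.val_one] at h2
    have hc1 : c = 1 := by
      apply Subtype.ext
      apply Units.ext
      rw [h1, ← h2]
      rfl
    rw [hc1, orderOf_one] at hc
    exact hp1 hc.symm
  · apply su_ext
    rw [SubgroupClass.coe_pow, Matrix.SpecialLinearGroup.coe_pow, hscoe, Matrix.diagonal_pow]
    show _ = (1 : Matrix (Fin n) (Fin n) F₀)
    rw [← Matrix.diagonal_one]
    congr 1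
    funext i
    show ((d i : F₀ˣ) : F₀) ^ p = 1
    rw [← Units.val_pow_eq_pow_val]
    have : d i ^ p = 1 := by
      simp only [hd]
      rw [mul_pow]
      have e1 : ((c : F₀ˣ)) ^ p = 1 := by
        have := congrArg (fun x : ↥(Cfsg.Agent.Lib.Helper13.U1 F₀ q₀) => (x : F₀ˣ)) hcp
        simpa using this
      have e2 : (((c⁻¹ : ↥(Cfsg.Agent.Lib.Helper13.U1 F₀ q₀)) : F₀ˣ)) ^ p = 1 := by
        rw [Subgroup.coe_inv, inv_pow, e1, inv_one]
      split_ifs <;> simp [e1, e2]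
    rw [this, Units.val_one]

section Cent

variable (hn : 3 ≤ n) (σ : RingAut F) {r : ℕ} (hr : Odd r) (hσ : orderOf σ = r)
  (hq : q = q₀ ^ r) (hj : ∀ a : F, σ a = a ↔ ∃ b, j b = a)

include hn hr hσ hq hj in
/-- a prime dividing the order of the inner centraliser divides the order of `E` -/
theorem dvd_card_EPSU (p : ℕ) [Fact p.Prime]
    (hp : p ∣ Nat.card ↥(Cfsg.Inn (Cfsg.PSU n F q) ⊓
      Subgroup.centralizer {(psuField σ : MulAut (Cfsg.PSU n F q))})) :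
    p ∣ Nat.card ↥(EPSU (n := n) hF hF₀ j hjq) := by
  have hpp : p.Prime := Fact.out
  have hfinGL : Finite (GL (Fin n) F) :=
    Finite.of_injective (fun g : GL (Fin n) F => (g : Matrix (Fin n) (Fin n) F))
      Units.val_injective
  have hfinSL : Finite (Matrix.SpecialLinearGroup (Fin n) F) :=
    Finite.of_injective (fun s : Matrix.SpecialLinearGroup (Fin n) F =>
      (s : Matrix (Fin n) (Fin n) F)) Subtype.val_injective
  have hfinK : Finite (Cfsg.PSU n F q) := inferInstance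
  have hfin : Finite (MulAut (Cfsg.PSU n F q)) :=
    Finite.of_injective (fun e : MulAut (Cfsg.PSU n F q) => (e : Cfsg.PSU n F q → Cfsg.PSU n F q))
      DFunLike.coe_injective
  obtain ⟨y, hy⟩ := exists_prime_orderOf_dvd_card' p hp
  obtain ⟨A₁, hA₁⟩ := inn_inf_centralizer_le_range_psu hF hF₀ j hjq hn σ hr hσ hq hj y.2
  have hyo : orderOf (y : MulAut (Cfsg.PSU n F q)) = p := by
    rw [Subgroup.orderOf_coe]; exact hy
  by_cases hcase : p ∣ n ∧ p ∣ Nat.card ↥(Cfsg.Agent.Lib.Helper13.U1 F₀ q₀)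
  · obtain ⟨c, hc⟩ := exists_prime_orderOf_dvd_card' p hcase.2
    obtain ⟨s, hs1, hs2⟩ := exists_diag_elt_su hF₀ hn c p hc hpp.one_lt.ne'
    exact dvd_card_EPSU_of_elt hF hF₀ j hjq hn p s hs1 (by rw [hs2]; exact one_mem _)
  · have hA : (subDiagPSU hF hF₀ j hjq (A₁ ^ p) : MulAut (Cfsg.PSU n F q)) = 1 := by
      rw [map_pow, hA₁, ← hyo, pow_orderOf_eq_one]
    rw [← MonoidHom.mem_ker, ker_subDiagPSU hF hF₀ hn j hjq, Subgroup.mem_subgroupOf,
      Cfsg.Geo.mem_scalars_iff] at hA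
    obtain ⟨c, hc⟩ := hA
    have hc' : (((A₁ ^ p : ↥(Cfsg.GU n F₀ q₀)) : GL (Fin n) F₀) : Matrix (Fin n) (Fin n) F₀) =
        (c : F₀) • (((1 : ↥(Cfsg.GU n F₀ q₀)) : GL (Fin n) F₀) : Matrix (Fin n) (Fin n) F₀) := by
      rw [hc]; rfl
    obtain ⟨u, -, hu⟩ := guDet_of_smul hF₀ (by omega) (A₁ ^ p) 1 (c : F₀) hc'
    have hdet : guDet hF₀ A₁ ^ p = u ^ n := by
      rw [← map_pow, hu, map_one, mul_one]
    obtain ⟨e, he⟩ : ∃ e : ↥(Cfsg.Agent.Lib.Helper13.U1 F₀ q₀), e ^ n = guDet hF₀ A₁ := by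
      by_cases hpn : p ∣ n
      · have hpN : ¬ p ∣ Nat.card ↥(Cfsg.Agent.Lib.Helper13.U1 F₀ q₀) := fun h => hcase ⟨hpn, h⟩
        exact exists_pow_eq_of_coprime (guDet hF₀ A₁) u 1 p n
          (Nat.card ↥(Cfsg.Agent.Lib.Helper13.U1 F₀ q₀))
          ((Nat.Prime.coprime_iff_not_dvd hpp).mpr hpN) hdet
          (by rw [pow_card_eq_one', one_pow])
      · exact exists_pow_eq_of_coprime (guDet hF₀ A₁) u (guDet hF₀ A₁) p n n
          ((Nat.Prime.coprime_iff_not_dvd hpp).mpr hpn) hdet rfl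
    have hyE : (y : MulAut (Cfsg.PSU n F q)) ∈ EPSU (n := n) hF hF₀ j hjq := by
      rw [← hA₁]
      exact mem_EPSU_of_det_pow hF hF₀ j hjq hn A₁ e he
    rw [← hyo]
    exact dvd_card_of_mem_orderOf _ _ hyE

end Cent

/-- `E` has no non-trivial normal `p'`-subgroup, for `p ≠ 2` a prime dividing `|E|` -/
theorem noNormal_EPSU (hn : 3 ≤ n) (p : ℕ) [Fact p.Prime] (hp2 : p ≠ 2)
    (hp : p ∣ Nat.card ↥(EPSU (n := n) hF hF₀ j hjq))
    (M : Subgroup ↥(EPSU (n := n) hF hF₀ j hjq)) (hM : M.Normal)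
    (hc : (Nat.card ↥M).Coprime p) : M = ⊥ := by
  classical
  have hpp : p.Prime := Fact.out
  obtain ⟨e⟩ := nonempty_EPSU_equiv (n := n) hF hF₀ j hjq hn
  by_cases h32 : n = 3 ∧ q₀ = 2
  · obtain ⟨rfl, rfl⟩ := h32
    have hF4 : Fintype.card F₀ = 4 := by rw [hF₀]; norm_num
    have hcard : Nat.card ↥(EPSU (n := 3) hF hF₀ j hjq) = 72 := by
      rw [card_EPSU hF hF₀ j hjq hn]
      exact Cfsg.Agent.S5908.card_PSU hF4
    have hp72 : p ∣ 2 * (2 * (2 * (3 * 3))) := by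
      have := hp
      rwa [hcard] at this
    have h2 : ¬ p ∣ 2 := fun h => hp2 ((Nat.prime_dvd_prime_iff_eq hpp Nat.prime_two).mp h)
    have hp3 : p = 3 := by
      rcases (Nat.Prime.dvd_mul hpp).mp hp72 with h | h
      · exact absurd h h2
      · rcases (Nat.Prime.dvd_mul hpp).mp h with h | h
        · exact absurd h h2
        · rcases (Nat.Prime.dvd_mul hpp).mp h with h | h
          · exact absurd h h2
          · rcases (Nat.Prime.dvd_mul hpp).mp h with h | h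
            · exact (Nat.prime_dvd_prime_iff_eq hpp Nat.prime_three).mp h
            · exact (Nat.prime_dvd_prime_iff_eq hpp Nat.prime_three).mp h
    subst hp3
    exact noNormal_of_equiv e.symm 3 (noNormal_psu32 hF4) M hM hc
  · have hsimple : IsSimpleGroup (Cfsg.PSU n F₀ q₀) := Cfsg.Agent.S0283.result hF₀ n hn h32
    have hEs : IsSimpleGroup ↥(EPSU (n := n) hF hF₀ j hjq) := e.symm.isSimpleGroup
    exact noNormal_of_simple p hp M hM hc

include hF hF₀ hjq in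
/-- **the criterion for the standard field automorphism `φ_σ`, `σ` of odd prime order `p`** -/
theorem psu_field_std' (hn : 3 ≤ n) (hK : IsSimpleGroup (Cfsg.PSU n F q))
    (hstd : AllStdAutPSU n F q) (σ : RingAut F) {p : ℕ} [Fact p.Prime] (hp2 : p ≠ 2)
    (hσ : orderOf σ = p) (hq : q = q₀ ^ p) (hj : ∀ a : F, σ a = a ↔ ∃ b, j b = a)
    (A : Subgroup (MulAut (Cfsg.PSU n F q))) (hinn : Cfsg.Inn (Cfsg.PSU n F q) ≤ A) :
    Cfsg.pPrimeCore p ↥(A ⊓ Subgroup.centralizer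
        {(psuField σ : MulAut (Cfsg.PSU n F q))}) ≠ ⊥ ↔
      Nat.Coprime p (Nat.card ↥(MonoidHom.eqLocus
        (psuField σ : MulAut (Cfsg.PSU n F q)).toMonoidHom
        (MonoidHom.id (Cfsg.PSU n F q)))) := by
  have hp : p.Prime := Fact.out
  have hodd : Odd p := hp.odd_of_ne_two hp2
  set x : MulAut (Cfsg.PSU n F q) := psuField σ with hx
  set E : Subgroup (MulAut (Cfsg.PSU n F q)) := EPSU (n := n) hF hF₀ j hjq with hE
  have hfinGL : Finite (GL (Fin n) F) :=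
    Finite.of_injective (fun g : GL (Fin n) F => (g : Matrix (Fin n) (Fin n) F))
      Units.val_injective
  have hfinSL : Finite (Matrix.SpecialLinearGroup (Fin n) F) :=
    Finite.of_injective (fun s : Matrix.SpecialLinearGroup (Fin n) F =>
      (s : Matrix (Fin n) (Fin n) F)) Subtype.val_injective
  have hfinK : Finite (Cfsg.PSU n F q) := inferInstance
  have hj' : ∀ a, σ (j a) = j a := fun a => (hj (j a)).mpr ⟨a, rfl⟩
  have hE_ne : E ≠ ⊥ := EPSU_ne_bot hF hF₀ j hjq hn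
  have hEI : E ≤ Cfsg.Inn (Cfsg.PSU n F q) ⊓ Subgroup.centralizer {x} :=
    le_inf (EPSU_le_Inn hF hF₀ j hjq hn) (EPSU_le_centralizer hF hF₀ j hjq σ hj')
  have hInn_ne : Cfsg.Inn (Cfsg.PSU n F q) ≠ ⊥ := by
    intro h0
    apply hE_ne
    rw [eq_bot_iff, ← h0]
    exact hEI.trans inf_le_left
  have hZ : Subgroup.center (Cfsg.PSU n F q) = ⊥ := center_eq_bot_of_inn_ne_bot hInn_ne
  have hcardfix := card_inn_inf_centralizer hZ x
  constructor
  · intro hcore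
    by_contra hnc
    apply hcore
    have hp_dvd : p ∣ Nat.card ↥(Cfsg.Inn (Cfsg.PSU n F q) ⊓ Subgroup.centralizer {x}) := by
      rw [hcardfix]
      by_contra hnd
      exact hnc ((Nat.Prime.coprime_iff_not_dvd hp).mpr hnd)
    have hEp : p ∣ Nat.card ↥E := dvd_card_EPSU hF hF₀ j hjq hn σ hodd hσ hq hj p hp_dvd
    have hxp : x ^ p = 1 := by
      rw [hx, ← map_pow, ← hσ, pow_orderOf_eq_one, map_one]
    refine core_eq_bot_of_noNormal A x p hinn hxp E hEI (noNormal_EPSU hF hF₀ j hjq hn p hp2 hEp)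
      (EPSU_normalized hF hF₀ j hjq hn σ hodd hσ hq hj) ?_
    intro a ha
    obtain ⟨τ, g, rfl⟩ := hstd a
    exact mem_zpowers_of_comm_EPSU hF hF₀ hn j hjq σ hj g τ ha
  · intro hcop
    apply core_ne_bot_of_coprime A x p hinn
    · rw [hcardfix]
      exact hcop.symm
    · intro h0
      apply hE_ne
      rw [eq_bot_iff, ← h0]
      exact hEI

end

end Cfsg.Agent.Lib.Helper36.LocalBalance
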