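import Mathlib
import Cfsg.Agent.Lib.Helper36.LocalBalance.PSLStd
import Cfsg.Agent.Lib.Helper36.LocalBalance.PSUStd
import Cfsg.Agent.S0270
import Cfsg.Agent.S0298
import Cfsg.Agent.S0299
import Cfsg.Agent.S0300
import Cfsg.Agent.S0301
import Cfsg.Agent.S0302
import Cfsg.Agent.S0303

set_option autoImplicit false
set_option linter.unusedSectionVars false

/-!
# No non-trivial normal subgroups of odd order in the small orthogonal groups `PΩ_3, PΩ_4^±, PΩ_5,
PΩ_6^±` over a finite field of odd order (standard forms), and the general facts for `PSL_n`, `PSU_n`,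
products
-/

namespace Cfsg.Agent.Lib.Helper36.LocalBalance

open scoped MatrixGroups Matrix
open Matrix

/-- products: no normal `p'`-subgroups in the factors ⇒ none in the product -/
theorem noNormal_prod {G₁ G₂ : Type*} [Group G₁] [Group G₂] (p : ℕ)
    (h₁ : ∀ M : Subgroup G₁, M.Normal → (Nat.card ↥M).Coprime p → M = ⊥)
    (h₂ : ∀ M : Subgroup G₂, M.Normal → (Nat.card ↥M).Coprime p → M = ⊥)
    (M : Subgroup (G₁ × G₂)) (hM : M.Normal) (hc : (Nat.card ↥M).Coprime p) : M = ⊥ := by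
  have e1 : M.map (MonoidHom.fst G₁ G₂) = ⊥ :=
    h₁ _ (hM.map _ Prod.fst_surjective)
      (Nat.Coprime.coprime_dvd_left (Subgroup.card_map_dvd M _) hc)
  have e2 : M.map (MonoidHom.snd G₁ G₂) = ⊥ :=
    h₂ _ (hM.map _ Prod.snd_surjective)
      (Nat.Coprime.coprime_dvd_left (Subgroup.card_map_dvd M _) hc)
  rw [eq_bot_iff]
  intro x hx
  rw [Subgroup.mem_bot]
  have hx1 : x.1 ∈ M.map (MonoidHom.fst G₁ G₂) := ⟨x, hx, rfl⟩
  have hx2 : x.2 ∈ M.map (MonoidHom.snd G₁ G₂) := ⟨x, hx, rfl⟩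
  rw [e1, Subgroup.mem_bot] at hx1
  rw [e2, Subgroup.mem_bot] at hx2
  exact Prod.ext hx1 hx2

/-- **`PSL_n(F)`, `n ≥ 2`, has no non-trivial normal `p'`-subgroup**, for a prime `p ≠ char F`
dividing its order (includes the non-simple `PSL_2(2)`, `PSL_2(3)`) -/
theorem noNormal_psl {n : ℕ} {F : Type*} [Field F] [Fintype F] (hn : 2 ≤ n) (p : ℕ)
    [Fact p.Prime] (hpc : ((p : ℕ) : F) ≠ 0)
    (hp : p ∣ Nat.card (Matrix.ProjectiveSpecialLinearGroup (Fin n) F))
    (M : Subgroup (Matrix.ProjectiveSpecialLinearGroup (Fin n) F)) (hM : M.Normal)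
    (hc : (Nat.card ↥M).Coprime p) : M = ⊥ := by
  obtain ⟨e⟩ := nonempty_EPSL_equiv (n := n) (F := F) hn (RingHom.id F)
  exact noNormal_of_equiv e p
    (noNormal_EPSL hn (RingHom.id F) p hpc (by rw [card_EPSL hn]; exact hp)) M hM hc

/-- **`PSU_n(q)`, `n ≥ 3`, has no non-trivial normal `p'`-subgroup**, for an odd prime `p`
dividing its order (includes the non-simple `PSU_3(2)`) -/
theorem noNormal_psu {n : ℕ} {F : Type*} [Field F] [Fintype F] {q : ℕ}
    (hF : Fintype.card F = q ^ 2) (hn : 3 ≤ n) (p : ℕ) [Fact p.Prime] (hp2 : p ≠ 2)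
    (hp : p ∣ Nat.card (Cfsg.PSU n F q))
    (M : Subgroup (Cfsg.PSU n F q)) (hM : M.Normal) (hc : (Nat.card ↥M).Coprime p) : M = ⊥ := by
  have hjq : ∀ a : F, (RingHom.id F) a ^ q = (RingHom.id F) (a ^ q) := fun a => rfl
  obtain ⟨e⟩ := nonempty_EPSU_equiv (n := n) hF hF (RingHom.id F) hjq hn
  exact noNormal_of_equiv e p
    (noNormal_EPSU hF hF (RingHom.id F) hjq hn p hp2
      (by rw [card_EPSU hF hF (RingHom.id F) hjq hn]; exact hp)) M hM hc

section small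

variable {F : Type*} [Field F] [Fintype F]

theorem two_ne_zero_of_odd (hodd : Odd (Fintype.card F)) : ((2 : ℕ) : F) ≠ 0 := by
  intro h
  have hchar : ringChar F = 2 := by
    have hdvd : ringChar F ∣ 2 := (ringChar.spec F 2).mp h
    rcases (Nat.dvd_prime Nat.prime_two).mp hdvd with h1 | h1
    · exact absurd h1 (CharP.ringChar_ne_one)
    · exact h1
  have := FiniteField.even_card_of_char_two hchar
  have h2 := Nat.odd_iff.mp hodd
  omega

theorem three_le_of_odd (hodd : Odd (Fintype.card F)) : 3 ≤ Fintype.card F := by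
  have h1 : 1 < Fintype.card F := Fintype.one_lt_card
  obtain ⟨k, hk⟩ := hodd
  omega

/-- transfer of divisibility along an isomorphism -/
theorem dvd_card_of_equiv {G H : Type*} [Group G] [Group H] (e : G ≃* H) {p : ℕ}
    (h : p ∣ Nat.card G) : p ∣ Nat.card H := by
  rwa [← Nat.card_congr e.toEquiv]

/-- `PΩ_3(q)`, `q` odd -/
theorem noNormal_std_odd_one (hodd : Odd (Fintype.card F))
    (h2 : 2 ∣ Nat.card (Cfsg.POmega F (Cfsg.quadFormOdd 1 F)))
    (M : Subgroup (Cfsg.POmega F (Cfsg.quadFormOdd 1 F))) (hM : M.Normal)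
    (hc : (Nat.card ↥M).Coprime 2) : M = ⊥ := by
  have : Fact (Nat.Prime 2) := ⟨Nat.prime_two⟩
  obtain ⟨e⟩ := Cfsg.Agent.S0298.result (F := F) hodd
  exact noNormal_of_equiv e 2
    (noNormal_psl (le_refl 2) 2 (two_ne_zero_of_odd hodd) (dvd_card_of_equiv e h2)) M hM hc

/-- `PΩ_4^+(q)`, `q` odd -/
theorem noNormal_std_plus_two (hodd : Odd (Fintype.card F))
    (h2 : 2 ∣ Nat.card (Cfsg.POmega F (Cfsg.quadFormPlus 2 F)))
    (M : Subgroup (Cfsg.POmega F (Cfsg.quadFormPlus 2 F))) (hM : M.Normal)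
    (hc : (Nat.card ↥M).Coprime 2) : M = ⊥ := by
  have : Fact (Nat.Prime 2) := ⟨Nat.prime_two⟩
  obtain ⟨e⟩ := Cfsg.Agent.S0299.result (F := F) (three_le_of_odd hodd)
  have h2' : 2 ∣ Nat.card (Matrix.ProjectiveSpecialLinearGroup (Fin 2) F) := by
    have h3 := dvd_card_of_equiv e h2
    rw [Nat.card_prod] at h3
    rcases (Nat.Prime.dvd_mul Nat.prime_two).mp h3 with h | h <;> exact h
  have hpsl := noNormal_psl (F := F) (le_refl 2) 2 (two_ne_zero_of_odd hodd) h2'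
  exact noNormal_of_equiv e 2 (noNormal_prod 2 hpsl hpsl) M hM hc

/-- `PΩ_4^-(q)`, `q` odd -/
theorem noNormal_std_minus_one (hodd : Odd (Fintype.card F)) (a b : F)
    (hab : ∀ z₁ z₂ : F, z₁ ^ 2 + a * z₁ * z₂ + b * z₂ ^ 2 = 0 → z₁ = 0 ∧ z₂ = 0)
    (h2 : 2 ∣ Nat.card (Cfsg.POmega F (Cfsg.quadFormMinus 1 F a b)))
    (M : Subgroup (Cfsg.POmega F (Cfsg.quadFormMinus 1 F a b))) (hM : M.Normal)
    (hc : (Nat.card ↥M).Coprime 2) : M = ⊥ := by
  have : Fact (Nat.Prime 2) := ⟨Nat.prime_two⟩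
  obtain ⟨r, hr⟩ := CharP.exists F
  have hrp : r.Prime := CharP.char_is_prime F r
  have : Fact r.Prime := ⟨hrp⟩
  obtain ⟨k, -, hk⟩ := FiniteField.card F r
  have hk0 : 2 * (k : ℕ) ≠ 0 := by
    have := k.pos
    omega
  have hfinK : Fintype (GaloisField r (2 * k)) := Fintype.ofFinite _
  have hK : Fintype.card (GaloisField r (2 * k)) = Fintype.card F ^ 2 := by
    rw [← Nat.card_eq_fintype_card, GaloisField.card r (2 * k) hk0, hk, ← pow_mul, mul_comm]
  obtain ⟨e⟩ := Cfsg.Agent.S0300.result (F := F) (K := GaloisField r (2 * k)) rfl hK a b hab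
  have hoddK : Odd (Fintype.card (GaloisField r (2 * k))) := by
    rw [hK]; exact hodd.pow
  exact noNormal_of_equiv e 2
    (noNormal_psl (le_refl 2) 2 (two_ne_zero_of_odd hoddK) (dvd_card_of_equiv e h2)) M hM hc

/-- `PΩ_5(q)`, `q` odd -/
theorem noNormal_std_odd_two (hodd : Odd (Fintype.card F))
    (h2 : 2 ∣ Nat.card (Cfsg.POmega F (Cfsg.quadFormOdd 2 F)))
    (M : Subgroup (Cfsg.POmega F (Cfsg.quadFormOdd 2 F))) (hM : M.Normal)
    (hc : (Nat.card ↥M).Coprime 2) : M = ⊥ := by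
  have : Fact (Nat.Prime 2) := ⟨Nat.prime_two⟩
  obtain ⟨e⟩ := Cfsg.Agent.S0301.result (F := F) hodd
  have hs : IsSimpleGroup (Cfsg.PSp 2 F) :=
    Cfsg.Agent.S0270.result 2 (le_refl 2) (fun _ => three_le_of_odd hodd)
  exact noNormal_of_equiv e 2 (noNormal_of_simple 2 (dvd_card_of_equiv e h2)) M hM hc

/-- `PΩ_6^+(q)` -/
theorem noNormal_std_plus_three
    (h2 : 2 ∣ Nat.card (Cfsg.POmega F (Cfsg.quadFormPlus 3 F)))
    (M : Subgroup (Cfsg.POmega F (Cfsg.quadFormPlus 3 F))) (hM : M.Normal)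
    (hc : (Nat.card ↥M).Coprime 2) : M = ⊥ := by
  have : Fact (Nat.Prime 2) := ⟨Nat.prime_two⟩
  obtain ⟨e⟩ := Cfsg.Agent.S0302.result (F := F)
  have hs : IsSimpleGroup (Matrix.ProjectiveSpecialLinearGroup (Fin 4) F) :=
    Cfsg.Agent.S0249.result 4 (by norm_num)
  exact noNormal_of_equiv e 2 (noNormal_of_simple 2 (dvd_card_of_equiv e h2)) M hM hc

/-- `PΩ_6^-(q)` -/
theorem noNormal_std_minus_two (a b : F)
    (hab : ∀ z₁ z₂ : F, z₁ ^ 2 + a * z₁ * z₂ + b * z₂ ^ 2 = 0 → z₁ = 0 ∧ z₂ = 0)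
    (h2 : 2 ∣ Nat.card (Cfsg.POmega F (Cfsg.quadFormMinus 2 F a b)))
    (M : Subgroup (Cfsg.POmega F (Cfsg.quadFormMinus 2 F a b))) (hM : M.Normal)
    (hc : (Nat.card ↥M).Coprime 2) : M = ⊥ := by
  have : Fact (Nat.Prime 2) := ⟨Nat.prime_two⟩
  obtain ⟨r, hr⟩ := CharP.exists F
  have hrp : r.Prime := CharP.char_is_prime F r
  have : Fact r.Prime := ⟨hrp⟩
  obtain ⟨k, -, hk⟩ := FiniteField.card F r
  have hk0 : 2 * (k : ℕ) ≠ 0 := by
    have := k.pos
    omega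
  have hfinK : Fintype (GaloisField r (2 * k)) := Fintype.ofFinite _
  have hK : Fintype.card (GaloisField r (2 * k)) = Fintype.card F ^ 2 := by
    rw [← Nat.card_eq_fintype_card, GaloisField.card r (2 * k) hk0, hk, ← pow_mul, mul_comm]
  obtain ⟨e⟩ := Cfsg.Agent.S0303.result (F := F) (K := GaloisField r (2 * k)) rfl hK a b hab
  have hs : IsSimpleGroup (Cfsg.PSU 4 (GaloisField r (2 * k)) (Fintype.card F)) :=
    Cfsg.Agent.S0283.result hK 4 (by norm_num) (by omega)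
  exact noNormal_of_equiv e 2 (noNormal_of_simple 2 (dvd_card_of_equiv e h2)) M hM hc

end small

end Cfsg.Agent.Lib.Helper36.LocalBalance
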