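import Mathlib
import Cfsg.Agent.S2618
import Cfsg.Agent.S0298
import Cfsg.Agent.Lib.Helper37.OrthIso
import Cfsg.Agent.Lib.Helper37.OrthOdd
import Cfsg.Agent.Lib.Helper44.Transport
import Cfsg.Agent.Lib.Helper44.POmegaSimple
import Cfsg.Agent.Lib.Helper13.POmegaTransport
import Cfsg.Agent.Lib.Helper14.OddTransport
import Cfsg.Agent.Lib.Helper43.OmegaEven
import Cfsg.Agent.Lib.Helper36.POmegaAut
import Cfsg.Agent.Lib.Helper36.LocalBalance.SmallOmega

/-!
# `(L)` in odd dimension (module [L-ODD] of S2733, for helper37)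

For a nondegenerate quadratic form `Q` on `ι → F`, `F` finite of odd characteristic, `|ι|` odd:
`PΩ(Q)` has no non-trivial normal subgroup of odd order, and `Z(Ω(Q)) = 1`.

Route: `Q` is similar to the standard form `x₀² + Σ x_i y_i` (S2618), hence
`O(Q) ≃* O(quadFormOdd m F)`; then `m = 0` (trivial group), `m = 1, 2` (`SmallOmega`),
`m ≥ 3` (`POmega_simple` + even order).
-/

set_option autoImplicit false
set_option linter.unusedSectionVars false

namespace Cfsg.Agent.Lib.Helper36.LocalBalance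

open Matrix

section equiv
variable {F : Type*} [Field F]

open Cfsg.Agent.Lib.Helper37.OrthOdd in
/-- every nondegenerate quadratic form in odd dimension `2m+1` over a finite field is, up to a
scalar, equivalent to the standard form `x₀² + Σ x_i y_i` -/
theorem exists_equiv_of_quadForm [Finite F] (m : ℕ) {κ : Type*} [Fintype κ]
    [DecidableEq κ] (hκ : Fintype.card κ = 2 * m + 1) (QB : QuadraticForm F (κ → F))
    (hnd : (QuadraticMap.polarBilin QB).Nondegenerate) :
    ∃ (c : F) (T : (κ → F) ≃ₗ[F] (Unit ⊕ (Fin m ⊕ Fin m) → F)), c ≠ 0 ∧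
      ∀ v, oddQ m F (T v) = c⁻¹ * QB v := by
  classical
  have hfin : Module.finrank F (κ → F) = 2 * m + 1 := by
    rw [Module.finrank_fintype_fun_eq_card, hκ]
  obtain ⟨b, hc, hxe, hQef, hef, hee⟩ := Cfsg.Agent.S2618.result hfin QB hnd
  obtain ⟨c, hcdef⟩ : ∃ c, c = QB (b (Sum.inl ())) := ⟨_, rfl⟩
  have hc0 : c ≠ 0 := by rw [hcdef]; exact hc
  let w : Unit ⊕ (Fin m ⊕ Fin m) → Fˣ := fun k =>
    match k with
    | Sum.inr (Sum.inl _) => Units.mk0 c hc0
    | _ => 1
  let b₁ : Module.Basis (Unit ⊕ (Fin m ⊕ Fin m)) F (κ → F) := b.unitsSMul w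
  have hb₁ : ∀ k, b₁ k = (w k : F) • b k := fun k => by
    show (b.unitsSMul w) k = _
    rw [Module.Basis.unitsSMul_apply]
    rfl
  let Q₁ : QuadraticForm F (κ → F) := c⁻¹ • QB
  have hQ₁ : ∀ v, Q₁ v = c⁻¹ * QB v := fun v => rfl
  have hpolQ₁ : ∀ u v, QuadraticMap.polar Q₁ u v = c⁻¹ * QuadraticMap.polar QB u v := by
    intro u v
    unfold QuadraticMap.polar
    rw [hQ₁, hQ₁, hQ₁]
    ring
  let b₀ : Module.Basis (Unit ⊕ (Fin m ⊕ Fin m)) F (Unit ⊕ (Fin m ⊕ Fin m) → F) :=
    Pi.basisFun F (Unit ⊕ (Fin m ⊕ Fin m))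
  have hb₀ : ∀ k, b₀ k = Pi.single k 1 := fun k => Pi.basisFun_apply F _ k
  have hQ1 : ∀ k, Q₁ (b₁ k) = oddQ m F (b₀ k) := by
    intro k
    rw [hb₀, oddQ_single, hb₁, hQ₁, QuadraticMap.map_smul, smul_eq_mul]
    rcases k with ⟨⟩ | k | k
    · show c⁻¹ * ((1 : F) * 1 * QB (b (Sum.inl ()))) = _
      rw [← hcdef, if_pos rfl, one_mul, one_mul, inv_mul_cancel₀ hc0]
    · rw [(hQef k).1, mul_zero, mul_zero, if_neg (by simp)]
    · rw [(hQef k).2, mul_zero, mul_zero, if_neg (by simp)]
  have hpolself : QuadraticMap.polar QB (b (Sum.inl ())) (b (Sum.inl ())) = 2 * c := by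
    rw [QuadraticMap.polar_self, hcdef, two_smul, two_mul]
  have hpol1 : ∀ k l, QuadraticMap.polar Q₁ (b₁ k) (b₁ l) =
      QuadraticMap.polar (oddQ m F) (b₀ k) (b₀ l) := by
    intro k l
    rw [hb₀, hb₀, oddQ_polar_single, hpolQ₁, hb₁, hb₁, QuadraticMap.polar_smul_left,
      QuadraticMap.polar_smul_right, smul_eq_mul, smul_eq_mul]
    rcases k with ⟨⟩ | k | k <;> rcases l with ⟨⟩ | l | l
    · show c⁻¹ * ((1 : F) * ((1 : F) * _)) = 2
      rw [hpolself, one_mul, one_mul, mul_comm 2 c, ← mul_assoc, inv_mul_cancel₀ hc0, one_mul]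
    · rw [(hxe l).1]; simp [gramP]
    · rw [(hxe l).2]; simp [gramP]
    · rw [QuadraticMap.polar_comm, (hxe k).1]; simp [gramP]
    · rw [(hee k l).1]; simp [gramP]
    · show c⁻¹ * (c * ((1 : F) * _)) = _
      rw [hef k l, one_mul, ← mul_assoc, inv_mul_cancel₀ hc0, one_mul]
      simp [gramP]
    · rw [QuadraticMap.polar_comm, (hxe k).2]; simp [gramP]
    · show c⁻¹ * ((1 : F) * (c * _)) = _
      rw [QuadraticMap.polar_comm, hef l k, one_mul, ← mul_assoc, inv_mul_cancel₀ hc0, one_mul]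
      simp [gramP, eq_comm]
    · rw [(hee k l).2]; simp [gramP]
  let T : (κ → F) ≃ₗ[F] (Unit ⊕ (Fin m ⊕ Fin m) → F) := b₁.equiv b₀ (Equiv.refl _)
  have hT : ∀ v, oddQ m F (T v) = Q₁ v :=
    Cfsg.Agent.Lib.Helper37.OrthIso.isometry_of_bases Q₁ (oddQ m F) b₁ b₀ hQ1 hpol1
  exact ⟨c, T, hc0, fun v => by rw [hT, hQ₁]⟩

end equiv

section transport
variable {ι : Type} [Fintype ι] [DecidableEq ι] {F : Type*} [Field F]

/-- scaling the form does not change the isometry group -/
theorem isometryGroup_smul_eq (Q : (ι → F) → F) (c : F) (hc : c ≠ 0) :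
    Cfsg.isometryGroup F (fun v => c * Q v) = Cfsg.isometryGroup F Q := by
  ext g
  rw [Cfsg.Agent.Lib.Helper36.mem_isometryGroup_iff', Cfsg.Agent.Lib.Helper36.mem_isometryGroup_iff']
  constructor
  · intro h v
    exact mul_left_cancel₀ hc (h v)
  · intro h v
    show c * Q _ = c * Q v
    rw [h v]

/-- in odd dimension `2m+1` the isometry group of a nondegenerate form is isomorphic to the one
of the standard form -/
theorem nonempty_isometryGroup_equiv_odd [Finite F] (m : ℕ) (hι : Fintype.card ι = 2 * m + 1)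
    (Q : QuadraticForm F (ι → F)) (hQ : (QuadraticMap.polarBilin Q).Nondegenerate) :
    Nonempty (↥(Cfsg.isometryGroup F (⇑Q)) ≃* ↥(Cfsg.isometryGroup F (Cfsg.quadFormOdd m F))) := by
  obtain ⟨c, T, hc0, hT⟩ := exists_equiv_of_quadForm (F := F) m hι Q hQ
  have hc1 : c⁻¹ ≠ 0 := inv_ne_zero hc0
  have hT' : ∀ v, Cfsg.quadFormOdd m F (T v) = (fun v => c⁻¹ * Q v) v := by
    intro v
    rw [← Cfsg.Agent.Lib.Helper37.OrthOdd.oddQ_coe]
    exact hT v
  exact ⟨(MulEquiv.subgroupCongr (isometryGroup_smul_eq (⇑Q) c⁻¹ hc1).symm).trans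
    (Cfsg.Agent.Lib.Helper44.conjIso T (fun v => c⁻¹ * Q v) (Cfsg.quadFormOdd m F) hT')⟩

end transport

section main
variable {ι : Type} [Fintype ι] [DecidableEq ι] {F : Type*} [Field F] [Fintype F]

theorem odd_card_of_two_ne_zero (h2 : (2 : F) ≠ 0) : Odd (Fintype.card F) := by
  rw [Nat.odd_iff]
  apply FiniteField.odd_card_of_char_ne_two
  intro h
  have : CharP F 2 := ringChar.of_eq h
  exact h2 (CharTwo.two_eq_zero)

/-- the commutator subgroup of a commutative group is trivial -/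
theorem subsingleton_commutator_of_comm {G : Type*} [Group G]
    (h : ∀ a b : G, a * b = b * a) : Subsingleton ↥(commutator G) := by
  have h1 : commutator G = ⊥ := by
    rw [commutator_def, Subgroup.commutator_eq_bot_iff_le_centralizer]
    intro a _
    rw [Subgroup.mem_centralizer_iff]
    intro b _
    exact h b a
  rw [h1]
  infer_instance

/-- `GL_1` is commutative -/
theorem gl_comm_of_card_one (hι : Fintype.card ι = 1) (a b : GL ι F) : a * b = b * a := by
  obtain ⟨i, hi⟩ := Fintype.card_eq_one_iff.mp hι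
  apply Units.ext
  rw [Units.val_mul, Units.val_mul]
  ext j k
  rw [hi j, hi k, Matrix.mul_apply, Matrix.mul_apply]
  have huniv : (Finset.univ : Finset ι) = {i} := by
    ext x
    simp [hi x]
  rw [huniv, Finset.sum_singleton, Finset.sum_singleton, mul_comm]

theorem subsingleton_Omega_of_card_one (hι : Fintype.card ι = 1) (Q : (ι → F) → F) :
    Subsingleton ↥(Cfsg.Omega F Q) := by
  apply subsingleton_commutator_of_comm
  intro a b
  apply Subtype.ext
  exact gl_comm_of_card_one hι a.1 b.1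

/-- **[L-ODD], first part** -/
theorem noNormal_POmega_odd_dim (h2 : (2 : F) ≠ 0) (Q : QuadraticForm F (ι → F))
    (hQ : (QuadraticMap.polarBilin Q).Nondegenerate) (hodd : Odd (Fintype.card ι))
    (M : Subgroup (Cfsg.POmega F (⇑Q))) (hM : M.Normal) (hc : (Nat.card ↥M).Coprime 2) :
    M = ⊥ := by
  classical
  have : Fact (Nat.Prime 2) := ⟨Nat.prime_two⟩
  obtain ⟨m, hm⟩ := hodd
  have hFodd : Odd (Fintype.card F) := odd_card_of_two_ne_zero h2
  by_cases h7 : 7 ≤ Fintype.card ι
  · have hs : IsSimpleGroup (Cfsg.POmega F (⇑Q)) := Cfsg.Agent.Lib.Helper44.POmega_simple Q hQ h7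
    exact noNormal_of_simple 2
      (Cfsg.Agent.Lib.Helper43.two_dvd_card_POmega h2 (by omega) Q hQ) M hM hc
  · by_cases h1 : Fintype.card ι = 1
    · have hss : Subsingleton ↥(Cfsg.Omega F (⇑Q)) := subsingleton_Omega_of_card_one h1 (⇑Q)
      have hss' : Subsingleton (Cfsg.POmega F (⇑Q)) := by
        constructor
        intro a b
        induction a using QuotientGroup.induction_on with
        | H a =>
          induction b using QuotientGroup.induction_on with
          | H b => rw [Subsingleton.elim a b]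
      exact Subsingleton.elim _ _
    · obtain ⟨e₀⟩ := nonempty_isometryGroup_equiv_odd (F := F) m hm Q hQ
      let e : Cfsg.POmega F (⇑Q) ≃* Cfsg.POmega F (Cfsg.quadFormOdd m F) :=
        Cfsg.Agent.Lib.Helper13.commCenterCongr e₀
      have heven : 2 ∣ Nat.card (Cfsg.POmega F (Cfsg.quadFormOdd m F)) := by
        rw [← Nat.card_congr e.toEquiv]
        exact Cfsg.Agent.Lib.Helper43.two_dvd_card_POmega h2 (by omega) Q hQ
      have hm12 : m = 1 ∨ m = 2 := by omega
      rcases hm12 with rfl | rfl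
      · exact noNormal_of_equiv e 2 (noNormal_std_odd_one hFodd heven) M hM hc
      · exact noNormal_of_equiv e 2 (noNormal_std_odd_two hFodd heven) M hM hc

open Cfsg.Agent.S0298 Cfsg.Agent.Lib.Helper5 in
open scoped MatrixGroups in
/-- `Z(Ω_3(q)) = 1` for the standard form (from the proof of S0298) -/
theorem center_Omega_std_odd_one (h2 : (2 : F) ≠ 0) :
    Subgroup.center ↥(Cfsg.Omega F (Cfsg.quadFormOdd 1 F)) = ⊥ := by
  have hodd : Odd (Fintype.card F) := odd_card_of_two_ne_zero h2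
  have hΩ : Cfsg.Omega F (Cfsg.quadFormOdd 1 F) = (psiO F).range := by
    change commutator _ = _
    rw [commutator_eq_map_of_index_two (adjO F) (negO F) negO_mem_center (negO_not_mem_range h2)
      (adjO_range_index hodd)]
    rw [Cfsg.Agent.S0264.result 2
        (fun _ => ⟨-1, by simp, fun h => h2 (by linear_combination (-1 : F) * h)⟩),
      det_ker_eq_range, MonoidHom.map_range]
    rfl
  have e1 : Cfsg.Omega F (Cfsg.quadFormOdd 1 F) ≃*
      Matrix.ProjectiveSpecialLinearGroup (Fin 2) F :=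
    (MulEquiv.subgroupCongr hΩ).trans
      ((QuotientGroup.quotientKerEquivRange (psiO F)).symm.trans
        (QuotientGroup.quotientMulEquivOfEq psiO_ker))
  exact center_eq_bot_of_mulEquiv e1 (center_PSL2_eq_bot h2)

/-- the centre is transported by isomorphisms -/
theorem center_eq_bot_of_equiv' {G H : Type*} [Group G] [Group H] (e : G ≃* H)
    (h : Subgroup.center H = ⊥) : Subgroup.center G = ⊥ := by
  rw [Subgroup.eq_bot_iff_forall]
  intro z hz
  have h1 : e z ∈ Subgroup.center H := by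
    rw [Subgroup.mem_center_iff] at hz ⊢
    intro g
    have := hz (e.symm g)
    have h2 := congrArg e this
    rwa [map_mul, map_mul, e.apply_symm_apply] at h2
  rw [h, Subgroup.mem_bot] at h1
  exact e.injective (h1.trans (map_one e).symm)

/-- **[L-ODD], second part** -/
theorem center_Omega_odd_dim (h2 : (2 : F) ≠ 0) (Q : QuadraticForm F (ι → F))
    (hQ : (QuadraticMap.polarBilin Q).Nondegenerate) (hodd : Odd (Fintype.card ι)) :
    Subgroup.center ↥(Cfsg.Omega F (⇑Q)) = ⊥ := by
  classical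
  obtain ⟨m, hm⟩ := hodd
  by_cases h1 : Fintype.card ι = 1
  · have hss : Subsingleton ↥(Cfsg.Omega F (⇑Q)) := subsingleton_Omega_of_card_one h1 (⇑Q)
    exact Subsingleton.elim _ _
  · obtain ⟨e₀⟩ := nonempty_isometryGroup_equiv_odd (F := F) m hm Q hQ
    let e : ↥(Cfsg.Omega F (⇑Q)) ≃* ↥(Cfsg.Omega F (Cfsg.quadFormOdd m F)) :=
      Cfsg.Agent.Lib.Helper13.commCongr e₀
    apply center_eq_bot_of_equiv' e
    by_cases hm1 : m = 1
    · subst hm1
      exact center_Omega_std_odd_one h2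
    · exact Cfsg.Agent.Lib.Helper14.center_Omega_quadFormOdd m F h2 (by omega)

end main

end Cfsg.Agent.Lib.Helper36.LocalBalance
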