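import Mathlib
import Cfsg.Agent.Lib.Helper36.LocalBalance.FieldCent

set_option autoImplicit false
set_option linter.unusedSectionVars false

/-!
# The local-balance criterion for a standard field automorphism of prime order (odd dimension)
-/

namespace Cfsg.Agent.Lib.Helper36.LocalBalance

open scoped MatrixGroups Matrix
open Matrix Cfsg.Agent.Lib.Helper45.PSLField Cfsg.Agent.Lib.Helper36 Cfsg.Agent.Lib.Helper44
  Cfsg.Agent.Lib.Helper43

variable {ι : Type} [Fintype ι] [DecidableEq ι] {F : Type*} [Field F] {F₀ : Type*} [Field F₀]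

theorem local_balance_std (Q₀ : QuadraticForm F₀ (ι → F₀)) (Q : QuadraticForm F (ι → F))
    (j : F₀ →+* F) (hS : GramCompat j (⇑Q₀) (⇑Q)) (h2 : (2 : F) ≠ 0)
    (hdet : (gramStd (⇑Q)).det ≠ 0) [Finite F] [Nonempty ι] (hQ : FieldCompat (⇑Q))
    (hker : OKernelProp hQ) (hstd : OAllStd hQ)
    {hQ₀ : FieldCompat (⇑Q₀)} (hker₀ : OKernelProp hQ₀)
    [Fintype F₀] [DecidableEq F₀]
    (σ : RingAut F) {p : ℕ} [Fact p.Prime] (hσ : orderOf σ = p)
    (hj : ∀ a : F, σ a = a ↔ ∃ b, j b = a)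
    (hnd₀ : (QuadraticMap.polarBilin Q₀).Nondegenerate) (h2₀ : (2 : F₀) ≠ 0)
    (hdim : 5 ≤ Fintype.card ι) (k : ℕ) (hcard : Fintype.card ι = 2 * k + 1)
    (hv : ∃ v : ι → F, Q v ≠ 0)
    (N₀ : Matrix ι ι F₀) (hN₀ : N₀ ≠ 0) (hNN : N₀ * N₀ = 0)
    (hu : ∀ t : F₀, ∃ A : GL ι F₀, A ∈ OmegaGL (⇑Q₀) ∧ (A : Matrix ι ι F₀) = 1 + t • N₀)
    (hK : IsSimpleGroup (Cfsg.POmega F (⇑Q))) (hK₀ : IsSimpleGroup (Cfsg.POmega F₀ (⇑Q₀)))
    (heven : 2 ∣ Nat.card (Cfsg.POmega F₀ (⇑Q₀)))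
    (A : Subgroup (MulAut (Cfsg.POmega F (⇑Q))))
    (hinn : Cfsg.Inn (Cfsg.POmega F (⇑Q)) ≤ A) :
    Cfsg.pPrimeCore p ↥(A ⊓ Subgroup.centralizer {oField hQ σ}) ≠ ⊥ ↔
      Nat.Coprime p (Nat.card ↥(MonoidHom.eqLocus (oField hQ σ).toMonoidHom
        (MonoidHom.id (Cfsg.POmega F (⇑Q))))) := by
  have hp : p.Prime := Fact.out
  set x : MulAut (Cfsg.POmega F (⇑Q)) := oField hQ σ with hx
  set E : Subgroup (MulAut (Cfsg.POmega F (⇑Q))) := EGroup Q₀ Q j hS h2 hdet with hE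
  have hfinK : Finite (Cfsg.POmega F (⇑Q)) := by
    have : Finite (GL ι F) := Finite.of_injective (fun g : GL ι F => (g : Matrix ι ι F))
      Units.val_injective
    exact inferInstance
  have hj' : ∀ a, σ (j a) = j a := fun a => (hj (j a)).mpr ⟨a, rfl⟩
  have hE_ne : E ≠ ⊥ := by
    obtain ⟨A₁, hA₁, hA₁m⟩ := hu 1
    rw [one_smul] at hA₁m
    exact EGroup_ne_bot Q₀ Q j hS h2 hdet hQ hker N₀ hN₀ hNN A₁ hA₁ hA₁m
  have hEI : E ≤ Cfsg.Inn (Cfsg.POmega F (⇑Q)) ⊓ Subgroup.centralizer {x} :=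
    le_inf (EGroup_le_Inn Q₀ Q j hS h2 hdet) (EGroup_le_centralizer Q₀ Q j hS h2 hdet hQ σ hj')
  have hInn_ne : Cfsg.Inn (Cfsg.POmega F (⇑Q)) ≠ ⊥ := by
    intro h0
    apply hE_ne
    rw [eq_bot_iff, ← h0]
    exact hEI.trans inf_le_left
  have hZ : Subgroup.center (Cfsg.POmega F (⇑Q)) = ⊥ := center_eq_bot_of_inn_ne_bot hInn_ne
  have hcardfix := card_inn_inf_centralizer hZ x
  constructor
  · intro hcore
    by_contra hnc
    apply hcore
    have hp_dvd : p ∣ Nat.card ↥(Cfsg.Inn (Cfsg.POmega F (⇑Q)) ⊓ Subgroup.centralizer {x}) := by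
      rw [hcardfix]
      by_contra hnd
      exact hnc ((Nat.Prime.coprime_iff_not_dvd hp).mpr hnd)
    have hdvd2 : p ∣ 2 * Nat.card ↥E :=
      hp_dvd.trans (card_inn_inf_centralizer_dvd Q₀ Q j hS h2 hdet hQ hker σ hp.pos hσ hj hker₀
        hnd₀ h2₀ hdim k hcard)
    obtain ⟨e⟩ := nonempty_EGroup_equiv Q₀ Q j hS h2 hdet hQ hker hker₀
    have hInn₀_ne : Cfsg.Inn (Cfsg.POmega F₀ (⇑Q₀)) ≠ ⊥ := by
      intro h0
      apply hE_ne
      rw [eq_bot_iff]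
      intro y hy
      have h1 : e ⟨y, hy⟩ = 1 := by
        have hle : Cfsg.Inn (Cfsg.POmega F₀ (⇑Q₀)) ≤ ⊥ := le_of_eq h0
        have := hle (e ⟨y, hy⟩).2
        rw [Subgroup.mem_bot] at this
        exact Subtype.ext this
      have h3 : (⟨y, hy⟩ : ↥E) = 1 := by
        apply e.injective
        rw [h1, map_one]
      rw [Subgroup.mem_bot]
      exact congrArg Subtype.val h3
    have hZ₀ : Subgroup.center (Cfsg.POmega F₀ (⇑Q₀)) = ⊥ := center_eq_bot_of_inn_ne_bot hInn₀_ne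
    have hcardE : Nat.card ↥E = Nat.card (Cfsg.POmega F₀ (⇑Q₀)) := by
      rw [Nat.card_congr e.toEquiv, card_inn_of_center_eq_bot hZ₀]
    have hEp : p ∣ Nat.card ↥E := by
      by_cases hp2 : p = 2
      · rw [hp2, hcardE]
        exact heven
      · rcases (Nat.Prime.dvd_mul hp).mp hdvd2 with h | h
        · exfalso
          exact hp2 ((Nat.prime_dvd_prime_iff_eq hp Nat.prime_two).mp h)
        · exact h
    have hEs : IsSimpleGroup ↥E := by
      have := isSimpleGroup_inn hInn₀_ne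
      exact e.isSimpleGroup
    have hxp : x ^ p = 1 := by
      rw [hx, ← map_pow, ← hσ, pow_orderOf_eq_one, map_one]
    exact core_eq_bot_of_simple A x p hinn hxp E hEI hEs hEp
      (EGroup_normalized Q₀ Q j hS h2 hdet hQ hker σ hp.pos hσ hj)
      (mem_zpowers_of_comm_EGroup Q₀ Q j hS h2 hdet hQ hker hstd σ hj hnd₀ h2₀ hdim k hcard hv
        N₀ hN₀ hu)
  · intro hcop
    apply core_ne_bot_of_coprime A x p hinn
    · rw [hcardfix]
      exact hcop.symm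
    · intro h0
      apply hE_ne
      rw [eq_bot_iff, ← h0]
      exact hEI

end Cfsg.Agent.Lib.Helper36.LocalBalance
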