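import Mathlib
import Cfsg.Agent.Lib.Helper36.LocalBalance.Std
import Cfsg.Agent.Lib.Helper43.OddFieldCent
import Cfsg.Agent.Lib.Helper44.POmegaSimple
import Cfsg.Agent.S0292

set_option autoImplicit false
set_option linter.unusedSectionVars false

/-!
# The local-balance criterion for `Ω_{2m+1}(F)`
-/

namespace Cfsg.Agent.Lib.Helper36.LocalBalance

open scoped MatrixGroups Matrix
open Matrix Cfsg.Agent.Lib.Helper45.PSLField Cfsg.Agent.Lib.Helper36 Cfsg.Agent.Lib.Helper44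
  Cfsg.Agent.Lib.Helper43

variable {m : ℕ} {F : Type*} [Field F]

/-- a unipotent family in `Ω_{2m+1}` -/
theorem exists_unipotent_oddQF [Fintype F] (h2 : (2 : F) ≠ 0) (hm : 3 ≤ m) :
    ∃ N₀ : Matrix (Unit ⊕ (Fin m ⊕ Fin m)) (Unit ⊕ (Fin m ⊕ Fin m)) F, N₀ ≠ 0 ∧ N₀ * N₀ = 0 ∧
      ∀ t : F, ∃ A : GL (Unit ⊕ (Fin m ⊕ Fin m)) F, A ∈ OmegaGL (⇑(oddQF m F)) ∧
        (A : Matrix (Unit ⊕ (Fin m ⊕ Fin m)) (Unit ⊕ (Fin m ⊕ Fin m)) F) = 1 + t • N₀ := by
  classical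
  set i₁ : Fin m := ⟨0, by omega⟩ with hi₁
  set i₂ : Fin m := ⟨1, by omega⟩ with hi₂
  have hi : i₁ ≠ i₂ := by
    intro h'
    have := congrArg Fin.val h'
    simp [hi₁, hi₂] at this
  set p : Unit ⊕ (Fin m ⊕ Fin m) → F := Pi.single (Sum.inr (Sum.inl i₁)) 1 with hp
  set w : Unit ⊕ (Fin m ⊕ Fin m) → F := Pi.single (Sum.inr (Sum.inl i₂)) 1 with hw
  have hpw : QuadraticMap.polar (⇑(oddQF m F)) p w = 0 := by
    rw [oddQF_polar, hp, hw]
    simp
  have hN0 : eichN (⇑(oddQF m F)) p w ≠ 0 := by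
    intro h0
    have h1 := eichN_mulVec (oddQF m F) p w (Pi.single (Sum.inr (Sum.inr i₂)) 1)
    rw [h0, Matrix.zero_mulVec, oddQF_polar, oddQF_polar] at h1
    have h3 := congrFun h1 (Sum.inr (Sum.inl i₁))
    have hi' : ¬ i₂ = i₁ := fun h => hi h.symm
    simp [hp, hw, Pi.single_apply, hi'] at h3
  have hp0 : oddQF m F p = 0 := oddQF_single_inl i₁
  have hw0 : oddQF m F w = 0 := oddQF_single_inl i₂
  have h7 : 7 ≤ Fintype.card (Unit ⊕ (Fin m ⊕ Fin m)) := by rw [card_odd_index]; omega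
  refine ⟨eichN (⇑(oddQF m F)) p w, hN0, eichN_mul_self (oddQF m F) p w hp0 hw0 hpw, ?_⟩
  intro t
  obtain ⟨s, hs⟩ := exists_Omega_unipotent (oddQF m F) (oddQF_nondeg m F h2) h7 p w hp0 hw0 hpw t
  exact ⟨((s : ↥(Cfsg.isometryGroup F (⇑(oddQF m F)))) : GL _ F), ⟨s.1, s.2, rfl⟩, hs⟩

theorem even_card_POmega_odd [Fintype F] (h2 : (2 : F) ≠ 0) (hm : 3 ≤ m) :
    2 ∣ Nat.card (Cfsg.POmega F (⇑(oddQF m F))) := by
  rw [oddQF_coe]
  have hodd : Odd (Fintype.card F) := by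
    rw [Nat.odd_iff]
    have := (two_eq_zero_iff_even_card (F := F)).not.mp h2
    omega
  have h1 := Cfsg.Agent.S0292.result (F := F) rfl hodd m hm
  obtain ⟨t, ht⟩ := hodd
  have h4 : 4 ∣ Fintype.card F ^ (2 * (0 + 1)) - 1 := by
    rw [ht]
    refine ⟨t * t + t, ?_⟩
    have : (2 * t + 1) ^ (2 * (0 + 1)) = 4 * (t * t + t) + 1 := by ring
    rw [this]
    omega
  have h5 : Fintype.card F ^ (2 * (0 + 1)) - 1 ∣
      ∏ i ∈ Finset.range m, (Fintype.card F ^ (2 * (i + 1)) - 1) :=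
    Finset.dvd_prod_of_mem _ (Finset.mem_range.mpr (by omega))
  have h6 : 4 ∣ 2 * Nat.card (Cfsg.POmega F (Cfsg.quadFormOdd m F)) := by
    rw [h1]
    exact Dvd.dvd.mul_left (h4.trans h5) _
  omega

section Std

variable [Fintype F]

/-- the criterion for the standard field automorphism `φ_σ`, `σ` of prime order `p` -/
theorem odd_std (hodd : Odd (Fintype.card F)) (hm : 3 ≤ m) (σ : RingAut F) {p : ℕ}
    [Fact p.Prime] (hσ : orderOf σ = p)
    (A : Subgroup (MulAut (Cfsg.POmega F (⇑(oddQF m F)))))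
    (hinn : Cfsg.Inn (Cfsg.POmega F (⇑(oddQF m F))) ≤ A) :
    Cfsg.pPrimeCore p ↥(A ⊓ Subgroup.centralizer {oField (fieldCompat_oddQF (m := m) (F := F)) σ})
        ≠ ⊥ ↔
      Nat.Coprime p (Nat.card ↥(MonoidHom.eqLocus
        (oField (fieldCompat_oddQF (m := m) (F := F)) σ).toMonoidHom
        (MonoidHom.id (Cfsg.POmega F (⇑(oddQF m F)))))) := by
  classical
  have h2 : (2 : F) ≠ 0 := two_ne_zero_of_odd_card' hodd
  have hfin₀ : Fintype (fixF σ) := Fintype.ofFinite _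
  set j : fixF σ →+* F := (fixF σ).subtype with hjdef
  have h2₀ : (2 : fixF σ) ≠ 0 := two_ne_zero_of_hom j h2
  have hne : Nonempty (Unit ⊕ (Fin m ⊕ Fin m)) := ⟨Sum.inl ()⟩
  have hcard : Fintype.card (Unit ⊕ (Fin m ⊕ Fin m)) = 2 * m + 1 := card_odd_index
  obtain ⟨N₀, hN₀, hNN, hu⟩ := exists_unipotent_oddQF (m := m) (F := fixF σ) h2₀ hm
  have hj : ∀ a : F, σ a = a ↔ ∃ b, j b = a := by
    intro a
    constructor
    · intro ha
      exact ⟨⟨a, (mem_fixF σ a).mpr ha⟩, rfl⟩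
    · rintro ⟨b, rfl⟩
      exact (mem_fixF σ _).mp b.2
  exact local_balance_std (oddQF m (fixF σ)) (oddQF m F) j (gramCompat_oddQF j) h2
    (gramStd_oddQF_det h2) fieldCompat_oddQF (oKernelProp_oddQF h2 hm) (oAllStd_oddQF hodd hm)
    (hQ₀ := fieldCompat_oddQF) (oKernelProp_oddQF h2₀ hm) σ hσ hj (oddQF_nondeg m (fixF σ) h2₀) h2₀
    (by rw [hcard]; omega) m hcard ⟨Pi.single (Sum.inl ()) 1, by rw [oddQF_e0]; exact one_ne_zero⟩
    N₀ hN₀ hNN hu
    (POmega_simple (oddQF m F) (oddQF_nondeg m F h2) (by rw [hcard]; omega))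
    (POmega_simple (oddQF m (fixF σ)) (oddQF_nondeg m (fixF σ) h2₀) (by rw [hcard]; omega))
    (even_card_POmega_odd h2₀ hm) A hinn

set_option maxHeartbeats 1600000 in
/-- the criterion for an arbitrary non-inner-diagonal automorphism of prime order -/
theorem odd_main_aux (hodd : Odd (Fintype.card F)) (hm : 3 ≤ m)
    (A : Subgroup (MulAut (Cfsg.POmega F (⇑(oddQF m F)))))
    (hinn : ∀ k : Cfsg.POmega F (⇑(oddQF m F)), MulAut.conj k ∈ A) {p : ℕ} [Fact p.Prime]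
    (x : MulAut (Cfsg.POmega F (⇑(oddQF m F)))) (hord : orderOf x = p)
    (hnot : ¬ Cfsg.IsSimilarityInducedAutPOmega (⇑(oddQF m F)) x) :
    Cfsg.pPrimeCore p ↥(A ⊓ Subgroup.centralizer {x}) ≠ ⊥ ↔
      (Cfsg.IsFieldAutClassPOmega (⇑(oddQF m F)) x ∧
        Nat.Coprime p (Nat.card ↥(MonoidHom.eqLocus x.toMonoidHom
          (MonoidHom.id (Cfsg.POmega F (⇑(oddQF m F))))))) := by
  classical
  have hp : p.Prime := Fact.out
  have h2 : (2 : F) ≠ 0 := two_ne_zero_of_odd_card' hodd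
  have hQ : FieldCompat (⇑(oddQF m F)) := fieldCompat_oddQF
  have hker : OKernelProp hQ := oKernelProp_oddQF h2 hm
  have hstd : OAllStd hQ := oAllStd_oddQF hodd hm
  have hne : Nonempty (Unit ⊕ (Fin m ⊕ Fin m)) := ⟨Sum.inl ()⟩
  have hinn' : Cfsg.Inn (Cfsg.POmega F (⇑(oddQF m F))) ≤ A := by
    rintro _ ⟨k, rfl⟩
    exact hinn k
  obtain ⟨g, σ, hxeq⟩ := hstd x
  have hσne : σ ≠ 1 := by
    intro h1
    apply hnot
    rw [h1, map_one, mul_one] at hxeq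
    have hi := (isInduced_iff (⇑(oddQF m F)) g x).mpr hxeq
    unfold Cfsg.IsSimilarityInducedAutPOmega
    exact ⟨(g : GL (Unit ⊕ (Fin m ⊕ Fin m)) F), g.2, hi⟩
  have hxp : x ^ p = 1 := by rw [← hord]; exact pow_orderOf_eq_one x
  obtain ⟨gp, -, hpow⟩ := pow_simAut_oField hQ g σ p
  have hσp : σ ^ p = 1 := by
    rw [hxeq, hpow] at hxp
    exact (hker gp (σ ^ p) hxp).1
  have hσ : orderOf σ = p := by
    have h1 : orderOf σ ∣ p := orderOf_dvd_of_pow_eq_one hσp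
    rcases (Nat.dvd_prime hp).mp h1 with h | h
    · exact absurd (orderOf_eq_one_iff.mp h) hσne
    · exact h
  have hpow' : (simAut (⇑(oddQF m F)) g * oField hQ σ) ^ p = 1 := by rw [← hxeq]; exact hxp
  obtain ⟨B, hB⟩ := field_coset_conj_o (oddQF m F) hQ h2 (gramStd_oddQF_det h2) hker σ hp.pos hσ
    (gramClassOver_oddQF h2 σ) g hpow'
  set β : MulAut (Cfsg.POmega F (⇑(oddQF m F))) := simAut (⇑(oddQF m F)) B with hβ
  set x₀ : MulAut (Cfsg.POmega F (⇑(oddQF m F))) := oField hQ σ with hx₀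
  have hx : x = β * x₀ * β⁻¹ := hxeq.trans hB
  have hx' : β⁻¹ * x * β⁻¹⁻¹ = x₀ := by rw [hx]; group
  have hclass : Cfsg.IsFieldAutClassPOmega (⇑(oddQF m F)) x :=
    ⟨β⁻¹, x₀, σ, hσne, (isFieldAutPOmegaOf_iff hQ σ x₀).mpr rfl, hx'⟩
  have hcardfix : Nat.card ↥(MonoidHom.eqLocus x.toMonoidHom
      (MonoidHom.id (Cfsg.POmega F (⇑(oddQF m F))))) =
      Nat.card ↥(MonoidHom.eqLocus x₀.toMonoidHom
        (MonoidHom.id (Cfsg.POmega F (⇑(oddQF m F))))) := by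
    rw [hx]
    exact card_eqLocus_conj x₀ β
  have hstd' := odd_std hodd hm σ hσ (A.map (MulAut.conj β⁻¹).toMonoidHom)
    (inn_le_map_conj A β⁻¹ hinn')
  rw [core_conj_iff A x β⁻¹ p, hx', hcardfix]
  constructor
  · intro h
    exact ⟨hclass, hstd'.mp h⟩
  · rintro ⟨-, h⟩
    exact hstd'.mpr h

/-- transport along an equality of the underlying function -/
theorem odd_main_transport (hodd : Odd (Fintype.card F)) (hm : 3 ≤ m)
    (f : (Unit ⊕ (Fin m ⊕ Fin m) → F) → F) (hf : ⇑(oddQF m F) = f)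
    (A : Subgroup (MulAut (Cfsg.POmega F f)))
    (hinn : ∀ k : Cfsg.POmega F f, MulAut.conj k ∈ A) {p : ℕ} [Fact p.Prime]
    (x : MulAut (Cfsg.POmega F f)) (hord : orderOf x = p)
    (hnot : ¬ Cfsg.IsSimilarityInducedAutPOmega f x) :
    Cfsg.pPrimeCore p ↥(A ⊓ Subgroup.centralizer {x}) ≠ ⊥ ↔
      (Cfsg.IsFieldAutClassPOmega f x ∧
        Nat.Coprime p (Nat.card ↥(MonoidHom.eqLocus x.toMonoidHom
          (MonoidHom.id (Cfsg.POmega F f))))) := by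
  subst hf
  exact odd_main_aux hodd hm A hinn x hord hnot

/-- **S2731** -/
theorem odd_main (hodd : Odd (Fintype.card F)) (hm : 3 ≤ m)
    (A : Subgroup (MulAut (Cfsg.POmega F (Cfsg.quadFormOdd m F))))
    (hinn : ∀ k : Cfsg.POmega F (Cfsg.quadFormOdd m F), MulAut.conj k ∈ A) {p : ℕ}
    [Fact p.Prime] (x : MulAut (Cfsg.POmega F (Cfsg.quadFormOdd m F))) (hord : orderOf x = p)
    (hnot : ¬ Cfsg.IsInnerDiagonalAutPOmegaOdd m x) :
    Cfsg.pPrimeCore p ↥(A ⊓ Subgroup.centralizer {x}) ≠ ⊥ ↔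
      (Cfsg.IsFieldAutClassPOmega (Cfsg.quadFormOdd m F) x ∧
        Nat.Coprime p (Nat.card ↥(MonoidHom.eqLocus x.toMonoidHom
          (MonoidHom.id (Cfsg.POmega F (Cfsg.quadFormOdd m F)))))) :=
  odd_main_transport hodd hm _ (oddQF_coe m F) A hinn x hord hnot

end Std

end Cfsg.Agent.Lib.Helper36.LocalBalance
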