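import Mathlib
import Cfsg.Agent.Lib.Helper36.LocalBalance.PSLStd
import Cfsg.Agent.Lib.Helper45.PSLField.Coset
import Cfsg.Agent.Lib.Helper45.PSLField.Fixed

set_option autoImplicit false
set_option linter.unusedSectionVars false

/-!
# The local-balance criterion for the automorphisms of field type of `PSL_n(F)`

`psl_field_main`: for `x = pslDiag g * pslField σ` (`σ ≠ 1`) of prime order `p ≠ char F`, and any
group `A` of automorphisms of the simple group `PSL_n(F)` containing the inner automorphisms,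
`O_{p'}(C_A(x)) ≠ 1` iff `p ∤ |C_K(x)|`.
-/

namespace Cfsg.Agent.Lib.Helper36.LocalBalance

open scoped MatrixGroups Matrix
open Matrix Cfsg.Agent.Lib.Helper45.PSLField Cfsg.Agent.Lib.Helper43

variable {n : ℕ} {F : Type*} [Field F]

/-- the criterion for `φ_σ` with the fixed field of `σ` as `F₀` -/
theorem psl_field_std [Fintype F] (hn : 2 ≤ n)
    (hK : IsSimpleGroup (Matrix.ProjectiveSpecialLinearGroup (Fin n) F))
    (hstd : AllStdAut n F) (σ : RingAut F) {p : ℕ} [Fact p.Prime] (hpF : (p : F) ≠ 0)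
    (hσ : orderOf σ = p)
    (A : Subgroup (MulAut (Matrix.ProjectiveSpecialLinearGroup (Fin n) F)))
    (hinn : Cfsg.Inn (Matrix.ProjectiveSpecialLinearGroup (Fin n) F) ≤ A) :
    Cfsg.pPrimeCore p ↥(A ⊓ Subgroup.centralizer
        {(pslField σ : MulAut (Matrix.ProjectiveSpecialLinearGroup (Fin n) F))}) ≠ ⊥ ↔
      Nat.Coprime p (Nat.card ↥(MonoidHom.eqLocus
        (pslField σ : MulAut (Matrix.ProjectiveSpecialLinearGroup (Fin n) F)).toMonoidHom
        (MonoidHom.id (Matrix.ProjectiveSpecialLinearGroup (Fin n) F)))) := by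
  classical
  have hfin₀ : Fintype (fixF σ) := Fintype.ofFinite _
  set j : fixF σ →+* F := (fixF σ).subtype with hjdef
  have hj : ∀ a : F, σ a = a ↔ ∃ b, j b = a := by
    intro a
    constructor
    · intro ha
      exact ⟨⟨a, (mem_fixF σ a).mpr ha⟩, rfl⟩
    · rintro ⟨b, rfl⟩
      exact (mem_fixF σ _).mp b.2
  have hpc : ((p : ℕ) : fixF σ) ≠ 0 := by
    intro h0
    apply hpF
    have := congrArg j h0
    rwa [map_natCast, map_zero] at this
  exact psl_field_std' hn hK hstd σ hpc hσ j hj A hinn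

/-- **field type**: the criterion for `x = pslDiag g * pslField σ`, `σ ≠ 1`, of prime order `p` -/
theorem psl_field_main' [Fintype F] (hn : 2 ≤ n)
    (hK : IsSimpleGroup (Matrix.ProjectiveSpecialLinearGroup (Fin n) F))
    (hstd : AllStdAut n F) {p : ℕ} [Fact p.Prime] (hpF : (p : F) ≠ 0)
    (A : Subgroup (MulAut (Matrix.ProjectiveSpecialLinearGroup (Fin n) F)))
    (hinn : Cfsg.Inn (Matrix.ProjectiveSpecialLinearGroup (Fin n) F) ≤ A)
    (g : GL (Fin n) F) (σ : RingAut F) (hσne : σ ≠ 1)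
    (hord : orderOf ((pslDiag g : MulAut (Matrix.ProjectiveSpecialLinearGroup (Fin n) F)) *
      pslField σ) = p) :
    Cfsg.pPrimeCore p ↥(A ⊓ Subgroup.centralizer
        {((pslDiag g : MulAut (Matrix.ProjectiveSpecialLinearGroup (Fin n) F)) *
          pslField σ)}) ≠ ⊥ ↔
      Nat.Coprime p (Nat.card ↥(MonoidHom.eqLocus
        ((pslDiag g : MulAut (Matrix.ProjectiveSpecialLinearGroup (Fin n) F)) *
          pslField σ).toMonoidHom
        (MonoidHom.id (Matrix.ProjectiveSpecialLinearGroup (Fin n) F)))) := by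
  classical
  have hp : p.Prime := Fact.out
  set x : MulAut (Matrix.ProjectiveSpecialLinearGroup (Fin n) F) :=
    pslDiag g * pslField σ with hxeq
  have hxp : x ^ p = 1 := by rw [← hord]; exact pow_orderOf_eq_one x
  obtain ⟨gp, -, hpow⟩ := pow_diag_field g σ p
  have hσp : σ ^ p = 1 := by
    have h1 := hxp
    rw [hxeq, hpow] at h1
    exact (eq_one_of_pslDiag_mul_pslField_eq_one hn gp (σ ^ p) h1).1
  have hσ : orderOf σ = p := by
    have h1 : orderOf σ ∣ p := orderOf_dvd_of_pow_eq_one hσp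
    rcases (Nat.dvd_prime hp).mp h1 with h | h
    · exact absurd (orderOf_eq_one_iff.mp h) hσne
    · exact h
  obtain ⟨B, hB⟩ := field_coset_conj hn σ hp.pos hσ g hxp
  set β : MulAut (Matrix.ProjectiveSpecialLinearGroup (Fin n) F) := pslDiag B with hβ
  set x₀ : MulAut (Matrix.ProjectiveSpecialLinearGroup (Fin n) F) := pslField σ with hx₀
  have hx : x = β * x₀ * β⁻¹ := hB
  have hx' : β⁻¹ * x * β⁻¹⁻¹ = x₀ := by rw [hx]; group
  have hcardfix : Nat.card ↥(MonoidHom.eqLocus x.toMonoidHom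
      (MonoidHom.id (Matrix.ProjectiveSpecialLinearGroup (Fin n) F))) =
      Nat.card ↥(MonoidHom.eqLocus x₀.toMonoidHom
        (MonoidHom.id (Matrix.ProjectiveSpecialLinearGroup (Fin n) F))) := by
    rw [hx]
    exact card_eqLocus_conj x₀ β
  have hstd' := psl_field_std hn hK hstd σ hpF hσ (A.map (MulAut.conj β⁻¹).toMonoidHom)
    (inn_le_map_conj A β⁻¹ hinn)
  rw [core_conj_iff A x β⁻¹ p, hx', hcardfix]
  exact hstd'

/-- **field type**, with the hypotheses in the form of the frozen statement S2686 -/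
theorem psl_field_main [Fintype F] {r : ℕ} [Fact r.Prime] [CharP F r] (hn : 2 ≤ n)
    (hK : IsSimpleGroup (Matrix.ProjectiveSpecialLinearGroup (Fin n) F))
    (hstd : AllStdAut n F) {p : ℕ} [Fact p.Prime] (hpr : p ≠ r)
    (A : Subgroup (MulAut (Matrix.ProjectiveSpecialLinearGroup (Fin n) F)))
    (hinn : ∀ k : Matrix.ProjectiveSpecialLinearGroup (Fin n) F, MulAut.conj k ∈ A)
    (g : GL (Fin n) F) (σ : RingAut F) (hσne : σ ≠ 1)
    (hord : orderOf ((pslDiag g : MulAut (Matrix.ProjectiveSpecialLinearGroup (Fin n) F)) *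
      pslField σ) = p) :
    Cfsg.pPrimeCore p ↥(A ⊓ Subgroup.centralizer
        {((pslDiag g : MulAut (Matrix.ProjectiveSpecialLinearGroup (Fin n) F)) *
          pslField σ)}) ≠ ⊥ ↔
      Nat.Coprime p (Nat.card ↥(MonoidHom.eqLocus
        ((pslDiag g : MulAut (Matrix.ProjectiveSpecialLinearGroup (Fin n) F)) *
          pslField σ).toMonoidHom
        (MonoidHom.id (Matrix.ProjectiveSpecialLinearGroup (Fin n) F)))) := by
  have hp : p.Prime := Fact.out
  have hr : r.Prime := Fact.out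
  have hpF : ((p : ℕ) : F) ≠ 0 := by
    intro h0
    have h1 : r ∣ p := (CharP.cast_eq_zero_iff F r p).mp h0
    exact hpr ((Nat.prime_dvd_prime_iff_eq hr hp).mp h1).symm
  have hinn' : Cfsg.Inn (Matrix.ProjectiveSpecialLinearGroup (Fin n) F) ≤ A := by
    rintro _ ⟨k, rfl⟩
    exact hinn k
  exact psl_field_main' hn hK hstd hpF A hinn' g σ hσne hord

end Cfsg.Agent.Lib.Helper36.LocalBalance
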