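import Mathlib
import Cfsg.Agent.Lib.Helper36.LocalBalance.PSUStd
import Cfsg.Agent.Lib.Helper45.PSLField.Fixed

set_option autoImplicit false
set_option linter.unusedSectionVars false

/-!
# The local-balance criterion for the automorphisms of field type (odd order) of `PSU_n(F)`

`psu_field_main`: for `x = psuDiag g * psuField σ` (`σ ≠ 1`) of odd prime order `p`, and any
group `A` of automorphisms of the simple group `PSU_n(F)` containing the inner automorphisms,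
`O_{p'}(C_A(x)) ≠ 1` iff `p ∤ |C_K(x)|`.
-/

namespace Cfsg.Agent.Lib.Helper36.LocalBalance

open scoped MatrixGroups Matrix
open Matrix Cfsg.Agent.Lib.Helper5 Cfsg.Agent.Lib.Helper45.PSLField Cfsg.Agent.Lib.Helper43

variable {n : ℕ} {F : Type*} [Field F] [Fintype F] {q : ℕ}

/-- the criterion for `φ_σ`, `σ` of odd prime order `p`, with the fixed field of `σ` as `F₀` -/
theorem psu_field_std (hF : Fintype.card F = q ^ 2) (hn : 3 ≤ n)
    (hK : IsSimpleGroup (Cfsg.PSU n F q)) (hstd : AllStdAutPSU n F q) (σ : RingAut F) {p : ℕ}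
    [Fact p.Prime] (hp2 : p ≠ 2) (hσ : orderOf σ = p)
    (A : Subgroup (MulAut (Cfsg.PSU n F q))) (hinn : Cfsg.Inn (Cfsg.PSU n F q) ≤ A) :
    Cfsg.pPrimeCore p ↥(A ⊓ Subgroup.centralizer
        {(psuField σ : MulAut (Cfsg.PSU n F q))}) ≠ ⊥ ↔
      Nat.Coprime p (Nat.card ↥(MonoidHom.eqLocus
        (psuField σ : MulAut (Cfsg.PSU n F q)).toMonoidHom
        (MonoidHom.id (Cfsg.PSU n F q)))) := by
  classical
  have hp : p.Prime := Fact.out
  have hodd : Odd p := hp.odd_of_ne_two hp2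
  obtain ⟨r', f, hr', -, hqf⟩ := exists_prime_pow_eq hF
  have : Fact r'.Prime := ⟨hr'⟩
  have hFp : Fintype.card F = r' ^ (2 * f) := by rw [hF, hqf, ← pow_mul, mul_comm]
  obtain ⟨hdvd, hcard₀⟩ := card_fixF hFp σ hp.pos hσ
  have hpf : p ∣ f := by
    rcases (Nat.Prime.dvd_mul hp).mp hdvd with h | h
    · exact absurd ((Nat.prime_dvd_prime_iff_eq hp Nat.prime_two).mp h) hp2
    · exact h
  set q₀ : ℕ := r' ^ (f / p) with hq₀
  have hq' : q = q₀ ^ p := by rw [hq₀, ← pow_mul, Nat.div_mul_cancel hpf, hqf]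
  have hfin₀ : Fintype (fixF σ) := Fintype.ofFinite _
  have hF₀ : Fintype.card (fixF σ) = q₀ ^ 2 := by
    rw [← Nat.card_eq_fintype_card, hcard₀, hq₀, ← pow_mul, Nat.mul_div_assoc 2 hpf, mul_comm]
  set j : fixF σ →+* F := (fixF σ).subtype with hjdef
  have hj : ∀ a : F, σ a = a ↔ ∃ b, j b = a := by
    intro a
    constructor
    · intro ha
      exact ⟨⟨a, (mem_fixF σ a).mpr ha⟩, rfl⟩
    · rintro ⟨b, rfl⟩
      exact (mem_fixF σ _).mp b.2
  have hj' : ∀ a, σ (j a) = j a := fun a => (hj (j a)).mpr ⟨a, rfl⟩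
  have hjq : ∀ a : fixF σ, j a ^ q = j (a ^ q₀) := pow_q_of_embedding hF σ hodd hσ hq' j hj'
  exact psu_field_std' hF hF₀ j hjq hn hK hstd σ hp2 hσ hq' hj A hinn

/-- **field type**: the criterion for `x = psuDiag g * psuField σ`, `σ ≠ 1`, of odd prime
order `p` -/
theorem psu_field_main' (hF : Fintype.card F = q ^ 2) (hn : 3 ≤ n)
    (hK : IsSimpleGroup (Cfsg.PSU n F q)) (hstd : AllStdAutPSU n F q) {p : ℕ}
    [Fact p.Prime] (hp2 : p ≠ 2)
    (A : Subgroup (MulAut (Cfsg.PSU n F q))) (hinn : Cfsg.Inn (Cfsg.PSU n F q) ≤ A)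
    (g : ↥(Cfsg.GU n F q)) (σ : RingAut F) (hσne : σ ≠ 1)
    (hord : orderOf ((psuDiag g : MulAut (Cfsg.PSU n F q)) * psuField σ) = p) :
    Cfsg.pPrimeCore p ↥(A ⊓ Subgroup.centralizer
        {((psuDiag g : MulAut (Cfsg.PSU n F q)) * psuField σ)}) ≠ ⊥ ↔
      Nat.Coprime p (Nat.card ↥(MonoidHom.eqLocus
        ((psuDiag g : MulAut (Cfsg.PSU n F q)) * psuField σ).toMonoidHom
        (MonoidHom.id (Cfsg.PSU n F q)))) := by
  classical
  have hp : p.Prime := Fact.out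
  have hodd : Odd p := hp.odd_of_ne_two hp2
  set x : MulAut (Cfsg.PSU n F q) := psuDiag g * psuField σ with hxeq
  have hxp : x ^ p = 1 := by rw [← hord]; exact pow_orderOf_eq_one x
  obtain ⟨gp, -, hpow⟩ := pow_psuDiag_psuField g σ p
  have hσp : σ ^ p = 1 := by
    have h1 := hxp
    rw [hxeq, hpow] at h1
    exact (eq_one_of_psuDiag_mul_psuField_eq_one hF hn gp (σ ^ p) h1).1
  have hσ : orderOf σ = p := by
    have h1 : orderOf σ ∣ p := orderOf_dvd_of_pow_eq_one hσp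
    rcases (Nat.dvd_prime hp).mp h1 with h | h
    · exact absurd (orderOf_eq_one_iff.mp h) hσne
    · exact h
  -- `q` is a `p`-th power
  obtain ⟨r', f, hr', -, hqf⟩ := exists_prime_pow_eq hF
  have : Fact r'.Prime := ⟨hr'⟩
  have hFp : Fintype.card F = r' ^ (2 * f) := by rw [hF, hqf, ← pow_mul, mul_comm]
  obtain ⟨hdvd, -⟩ := card_fixF hFp σ hp.pos hσ
  have hpf : p ∣ f := by
    rcases (Nat.Prime.dvd_mul hp).mp hdvd with h | h
    · exact absurd ((Nat.prime_dvd_prime_iff_eq hp Nat.prime_two).mp h) hp2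
    · exact h
  have hq' : q = (r' ^ (f / p)) ^ p := by rw [← pow_mul, Nat.div_mul_cancel hpf, hqf]
  obtain ⟨B, hB⟩ := field_coset_conj_psu hF hn σ hodd hσ hq' g hxp
  set β : MulAut (Cfsg.PSU n F q) := psuDiag B with hβ
  set x₀ : MulAut (Cfsg.PSU n F q) := psuField σ with hx₀
  have hx : x = β * x₀ * β⁻¹ := hB
  have hx' : β⁻¹ * x * β⁻¹⁻¹ = x₀ := by rw [hx]; group
  have hcardfix : Nat.card ↥(MonoidHom.eqLocus x.toMonoidHom
      (MonoidHom.id (Cfsg.PSU n F q))) =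
      Nat.card ↥(MonoidHom.eqLocus x₀.toMonoidHom (MonoidHom.id (Cfsg.PSU n F q))) := by
    rw [hx]
    exact card_eqLocus_conj x₀ β
  have hstd' := psu_field_std hF hn hK hstd σ hp2 hσ (A.map (MulAut.conj β⁻¹).toMonoidHom)
    (inn_le_map_conj A β⁻¹ hinn)
  rw [core_conj_iff A x β⁻¹ p, hx', hcardfix]
  exact hstd'

/-- **field type**, with `hinn` in the form of the frozen statement S2687 -/
theorem psu_field_main (hF : Fintype.card F = q ^ 2) (hn : 3 ≤ n)
    (hK : IsSimpleGroup (Cfsg.PSU n F q)) (hstd : AllStdAutPSU n F q) {p : ℕ}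
    [Fact p.Prime] (hp2 : p ≠ 2)
    (A : Subgroup (MulAut (Cfsg.PSU n F q)))
    (hinn : ∀ k : Cfsg.PSU n F q, MulAut.conj k ∈ A)
    (g : ↥(Cfsg.GU n F q)) (σ : RingAut F) (hσne : σ ≠ 1)
    (hord : orderOf ((psuDiag g : MulAut (Cfsg.PSU n F q)) * psuField σ) = p) :
    Cfsg.pPrimeCore p ↥(A ⊓ Subgroup.centralizer
        {((psuDiag g : MulAut (Cfsg.PSU n F q)) * psuField σ)}) ≠ ⊥ ↔
      Nat.Coprime p (Nat.card ↥(MonoidHom.eqLocus
        ((psuDiag g : MulAut (Cfsg.PSU n F q)) * psuField σ).toMonoidHom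
        (MonoidHom.id (Cfsg.PSU n F q)))) := by
  have hinn' : Cfsg.Inn (Cfsg.PSU n F q) ≤ A := by
    rintro _ ⟨k, rfl⟩
    exact hinn k
  exact psu_field_main' hF hn hK hstd hp2 A hinn' g σ hσne hord

end Cfsg.Agent.Lib.Helper36.LocalBalance
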