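import Mathlib
import Cfsg.Agent.Lib.Helper36.LocalBalance.PSpCent
import Cfsg.Agent.S0245
import Cfsg.Agent.S0246
import Cfsg.Agent.S0247
import Cfsg.Agent.S0270

set_option autoImplicit false
set_option linter.unusedSectionVars false

/-!
# The local-balance criterion for a standard field automorphism of prime order of `PSp_{2m}(F)`
-/

namespace Cfsg.Agent.Lib.Helper36.LocalBalance

open scoped MatrixGroups Matrix
open Matrix Cfsg.Agent.Lib.Helper45.PSLField Cfsg.Agent.Lib.Helper43 Cfsg.Agent.Lib.Helper13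

variable {m : ℕ} {F : Type*} [Field F] {F₀ : Type*} [Field F₀]

/-- the kernel of `Sp_{2m}(F₀) → Aut(PSp_{2m}(F))` is the centre -/
theorem ker_spToAut_le_center (hm : 1 ≤ m) (j : F₀ →+* F) :
    (spToAut (m := m) (F := F) j).ker ≤ Subgroup.center ↥(Matrix.symplecticGroup (Fin m) F₀) := by
  intro s hs
  rw [MonoidHom.mem_ker] at hs
  have hmem : toGSp s ∈ (subDiagPSp j : ↥(Cfsg.GSp m F₀) →* MulAut (Cfsg.PSp m F)).ker := hs
  rw [ker_subDiagPSp (F := F) hm j, mem_scalars_subgroupOf_iff] at hmem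
  obtain ⟨c, hc⟩ := hmem
  have hcoe : (s : Matrix (Fin m ⊕ Fin m) (Fin m ⊕ Fin m) F₀) =
      (c : F₀) • (1 : Matrix (Fin m ⊕ Fin m) (Fin m ⊕ Fin m) F₀) := by
    have := congrArg (fun g : ↥(Cfsg.GSp m F₀) =>
      ((g : GL (Fin m ⊕ Fin m) F₀) : Matrix (Fin m ⊕ Fin m) (Fin m ⊕ Fin m) F₀)) hc
    simp only [toGSp_coe, scalarGSp_coe] at this
    exact this
  rw [Subgroup.mem_center_iff]
  intro g
  apply Subtype.ext
  show (g : Matrix (Fin m ⊕ Fin m) (Fin m ⊕ Fin m) F₀) * s = s * g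
  rw [hcoe, Matrix.mul_smul, Matrix.smul_mul, Matrix.mul_one, Matrix.one_mul]

theorem pspToE_injective (hm : 1 ≤ m) (j : F₀ →+* F) :
    Function.Injective (pspToE (m := m) (F := F) hm j) := by
  rw [injective_iff_map_eq_one]
  intro x hx
  obtain ⟨s, rfl⟩ := QuotientGroup.mk_surjective x
  have h1 : spToAut (m := m) (F := F) j s = 1 := hx
  rw [QuotientGroup.eq_one_iff]
  exact ker_spToAut_le_center hm j h1

/-- `E ≃ PSp_{2m}(F₀)` -/
theorem nonempty_EPSp_equiv (hm : 1 ≤ m) (j : F₀ →+* F) :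
    Nonempty (Cfsg.PSp m F₀ ≃* ↥(EPSp (m := m) (F := F) hm j)) := by
  have e := MonoidHom.ofInjective (pspToE_injective (m := m) (F := F) hm j)
  rw [pspToE_range] at e
  exact ⟨e⟩

theorem card_PSp_mul [Fintype F₀] (hm : 1 ≤ m) :
    Nat.card (Cfsg.PSp m F₀) * Nat.gcd 2 (Fintype.card F₀ - 1) =
      Fintype.card F₀ ^ (m ^ 2) *
        ∏ i ∈ Finset.range m, (Fintype.card F₀ ^ (2 * (i + 1)) - 1) := by
  rw [← Cfsg.Agent.S0245.result (F := F₀) rfl m, ← Cfsg.Agent.S0246.result (F := F₀) rfl m hm]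
  exact (Subgroup.card_eq_card_quotient_mul_card_subgroup _).symm

theorem even_card_PSp [Fintype F₀] (hm : 1 ≤ m) : 2 ∣ Nat.card (Cfsg.PSp m F₀) := by
  have h := card_PSp_mul (m := m) (F₀ := F₀) hm
  set q := Fintype.card F₀ with hq
  have hq1 : 1 < q := Fintype.one_lt_card
  rcases Nat.even_or_odd q with he | ho
  · -- gcd = 1
    have hg : Nat.gcd 2 (q - 1) = 1 := by
      have : Odd (q - 1) := by
        obtain ⟨t, ht⟩ := he
        exact ⟨t - 1, by omega⟩
      exact (Nat.coprime_two_left.mpr this)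
    rw [hg, mul_one] at h
    rw [h]
    have h2q : 2 ∣ q := even_iff_two_dvd.mp he
    have hm2 : m ^ 2 ≠ 0 := by positivity
    exact Dvd.dvd.mul_right (h2q.trans (dvd_pow_self q hm2)) _
  · have hg : Nat.gcd 2 (q - 1) = 2 := by
      obtain ⟨t, ht⟩ := ho
      have : q - 1 = 2 * t := by omega
      rw [this]
      exact Nat.gcd_eq_left (Dvd.intro t rfl)
    rw [hg] at h
    obtain ⟨t, ht⟩ := ho
    have h4 : 4 ∣ q ^ (2 * (0 + 1)) - 1 := by
      rw [ht]
      refine ⟨t * t + t, ?_⟩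
      have : (2 * t + 1) ^ (2 * (0 + 1)) = 4 * (t * t + t) + 1 := by ring
      rw [this]
      omega
    have h5 : q ^ (2 * (0 + 1)) - 1 ∣ ∏ i ∈ Finset.range m, (q ^ (2 * (i + 1)) - 1) :=
      Finset.dvd_prod_of_mem _ (Finset.mem_range.mpr (by omega))
    have h6 : 4 ∣ Nat.card (Cfsg.PSp m F₀) * 2 := by
      rw [h]
      exact Dvd.dvd.mul_left (h4.trans h5) _
    omega

/-- squares of the centralising inner-diagonal automorphisms lie in `E` -/
theorem sq_mem_EPSp (hm : 1 ≤ m) (j : F₀ →+* F) (A₁ : ↥(Cfsg.GSp m F₀)) :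
    (subDiagPSp j A₁ : MulAut (Cfsg.PSp m F)) ^ 2 ∈ EPSp (m := m) hm j := by
  set μ : F₀ˣ := gspMult hm A₁ with hμ
  refine ⟨A₁ ^ 2 * (scalarGSp μ)⁻¹, ?_, ?_⟩
  · show gspMult hm (A₁ ^ 2 * (scalarGSp μ)⁻¹) = 1
    rw [map_mul, map_pow, map_inv, gspMult_scalarGSp, ← hμ, pow_two, mul_inv_cancel]
  · rw [map_mul, map_pow, map_inv]
    have h1 : (subDiagPSp j (scalarGSp μ) : MulAut (Cfsg.PSp m F)) = 1 := by
      rw [subDiagPSp_apply, gspSub_scalarGSp, pspDiag_scalarGSp]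
    rw [h1, inv_one, mul_one]

theorem card_EPSp (hm : 1 ≤ m) (j : F₀ →+* F) :
    Nat.card ↥(EPSp (m := m) (F := F) hm j) = Nat.card (Cfsg.PSp m F₀) := by
  obtain ⟨e⟩ := nonempty_EPSp_equiv (m := m) (F := F) hm j
  exact (Nat.card_congr e.toEquiv).symm

theorem EPSp_ne_bot [Fintype F₀] (hm : 1 ≤ m) (j : F₀ →+* F) :
    EPSp (m := m) (F := F) hm j ≠ ⊥ := by
  intro h0
  have h1 := card_EPSp (m := m) (F := F) hm j
  rw [h0, Subgroup.card_bot] at h1
  have h2 := even_card_PSp (m := m) (F₀ := F₀) hm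
  rw [← h1] at h2
  omega

section Cent

variable [Finite F] [Fintype F₀] (hm : 1 ≤ m) (σ : RingAut F) {r : ℕ} (hr : 0 < r)
  (hσ : orderOf σ = r) (j : F₀ →+* F) (hj : ∀ a : F, σ a = a ↔ ∃ b, j b = a)

include hr hσ hj in
/-- a prime dividing the order of the inner centraliser divides the order of `E` -/
theorem dvd_card_EPSp (p : ℕ) [Fact p.Prime]
    (hp : p ∣ Nat.card ↥(Cfsg.Inn (Cfsg.PSp m F) ⊓
      Subgroup.centralizer {(pspField σ : MulAut (Cfsg.PSp m F))})) :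
    p ∣ Nat.card ↥(EPSp (m := m) (F := F) hm j) := by
  have hpp : p.Prime := Fact.out
  by_cases hp2 : p = 2
  · rw [hp2, card_EPSp]
    exact even_card_PSp hm
  · have hfin : Finite (MulAut (Cfsg.PSp m F)) :=
      Finite.of_injective (fun e : MulAut (Cfsg.PSp m F) => (e : Cfsg.PSp m F → Cfsg.PSp m F))
        DFunLike.coe_injective
    obtain ⟨y, hy⟩ := exists_prime_orderOf_dvd_card' p hp
    obtain ⟨A₁, hA₁⟩ := inn_inf_centralizer_le_range_psp hm σ hr hσ j hj y.2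
    have hyo : orderOf (y : MulAut (Cfsg.PSp m F)) = p := by
      rw [Subgroup.orderOf_coe]; exact hy
    have hsq : (y : MulAut (Cfsg.PSp m F)) ^ 2 ∈ EPSp (m := m) (F := F) hm j := by
      rw [← hA₁]
      exact sq_mem_EPSp hm j A₁
    have hodd : p % 2 = 1 := by
      rcases Nat.Prime.eq_two_or_odd hpp with h | h
      · exact absurd h hp2
      · exact h
    have hyE : (y : MulAut (Cfsg.PSp m F)) ∈ EPSp (m := m) (F := F) hm j := by
      have h1 : ((y : MulAut (Cfsg.PSp m F)) ^ 2) ^ ((p + 1) / 2) = (y : MulAut (Cfsg.PSp m F)) := by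
        rw [← pow_mul]
        have h2 : 2 * ((p + 1) / 2) = p + 1 := by omega
        rw [h2, pow_succ, ← hyo, pow_orderOf_eq_one, one_mul]
      rw [← h1]
      exact Subgroup.pow_mem _ hsq _
    have h3 : orderOf (⟨(y : MulAut (Cfsg.PSp m F)), hyE⟩ : ↥(EPSp (m := m) (F := F) hm j)) = p := by
      rw [← Subgroup.orderOf_coe]
      exact hyo
    rw [← h3]
    exact orderOf_dvd_natCard _

end Cent

/-- `E` has no non-trivial normal `p'`-subgroup, for `p` a prime dividing `|E|` -/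
theorem noNormal_EPSp [Fintype F₀] (hm : 2 ≤ m) (j : F₀ →+* F) (p : ℕ) [Fact p.Prime]
    (hp : p ∣ Nat.card ↥(EPSp (m := m) (F := F) (by omega) j))
    (M : Subgroup ↥(EPSp (m := m) (F := F) (by omega) j)) (hM : M.Normal)
    (hc : (Nat.card ↥M).Coprime p) : M = ⊥ := by
  classical
  have hpp : p.Prime := Fact.out
  have hm1 : 1 ≤ m := by omega
  obtain ⟨e⟩ := nonempty_EPSp_equiv (m := m) (F := F) hm1 j
  by_cases hcase : m = 2 ∧ Fintype.card F₀ = 2
  · obtain ⟨rfl, hq⟩ := hcase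
    obtain ⟨e₂⟩ := Cfsg.Agent.S0247.result (F := F₀) hq
    have hZ : Subgroup.center ↥(Matrix.symplecticGroup (Fin 2) F₀) = ⊥ := by
      apply Subgroup.eq_bot_of_card_eq
      rw [Cfsg.Agent.S0246.result (F := F₀) rfl 2 (by omega), hq]
      rfl
    let e₁ : Cfsg.PSp 2 F₀ ≃* ↥(Matrix.symplecticGroup (Fin 2) F₀) :=
      (QuotientGroup.quotientMulEquivOfEq hZ).trans QuotientGroup.quotientBot
    let e₃ : ↥(EPSp (m := 2) (F := F) hm1 j) ≃* Equiv.Perm (Fin 6) :=
      (e.symm.trans e₁).trans e₂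
    have hcard : Nat.card ↥(EPSp (m := 2) (F := F) hm1 j) = 720 := by
      rw [Nat.card_congr e₃.toEquiv, Nat.card_eq_fintype_card, Fintype.card_perm,
        Fintype.card_fin]
      decide
    have hp720 : p ∣ 720 := by
      have := hp
      rwa [hcard] at this
    have hp360 : p ∣ 360 := by
      have h720 : (720 : ℕ) = 2 * 360 := by norm_num
      rw [h720] at hp720
      rcases (Nat.Prime.dvd_mul hpp).mp hp720 with h | h
      · exact h.trans (by norm_num)
      · exact h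
    exact noNormal_of_equiv e₃ p (noNormal_perm_six p hp360 hpp.one_lt.ne') M hM hc
  · have hs₀ : m = 2 → 3 ≤ Fintype.card F₀ := by
      intro h2
      have h1 : 1 < Fintype.card F₀ := Fintype.one_lt_card
      have h3 : Fintype.card F₀ ≠ 2 := fun h => hcase ⟨h2, h⟩
      omega
    have hsimple : IsSimpleGroup (Cfsg.PSp m F₀) := Cfsg.Agent.S0270.result m hm hs₀
    have hEs : IsSimpleGroup ↥(EPSp (m := m) (F := F) hm1 j) := e.symm.isSimpleGroup
    exact noNormal_of_simple p hp M hM hc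

/-- **the criterion for the standard field automorphism `φ_σ`, `σ` of prime order `p`** -/
theorem psp_std [Finite F] [Fintype F₀] (hm : 2 ≤ m) (hK : IsSimpleGroup (Cfsg.PSp m F))
    (σ : RingAut F) {p : ℕ} [Fact p.Prime]
    (hσ : orderOf σ = p) (j : F₀ →+* F) (hj : ∀ a : F, σ a = a ↔ ∃ b, j b = a)
    (hall : ∀ a : MulAut (Cfsg.PSp m F),
      (∀ e ∈ EPSp (m := m) (F := F) (by omega) j, a * e = e * a) → a ∈ stdAutPSp m F)
    (A : Subgroup (MulAut (Cfsg.PSp m F))) (hinn : Cfsg.Inn (Cfsg.PSp m F) ≤ A) :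
    Cfsg.pPrimeCore p ↥(A ⊓ Subgroup.centralizer {(pspField σ : MulAut (Cfsg.PSp m F))}) ≠ ⊥ ↔
      Nat.Coprime p (Nat.card ↥(MonoidHom.eqLocus
        (pspField σ : MulAut (Cfsg.PSp m F)).toMonoidHom (MonoidHom.id (Cfsg.PSp m F)))) := by
  have hp : p.Prime := Fact.out
  have hm1 : 1 ≤ m := by omega
  set x : MulAut (Cfsg.PSp m F) := pspField σ with hx
  set E : Subgroup (MulAut (Cfsg.PSp m F)) := EPSp (m := m) (F := F) hm1 j with hE
  have hfinGL : Finite (GL (Fin m ⊕ Fin m) F) :=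
    Finite.of_injective (fun g : GL (Fin m ⊕ Fin m) F =>
      (g : Matrix (Fin m ⊕ Fin m) (Fin m ⊕ Fin m) F)) Units.val_injective
  have hfinSp : Finite ↥(Matrix.symplecticGroup (Fin m) F) :=
    Finite.of_injective (fun s : ↥(Matrix.symplecticGroup (Fin m) F) =>
      (s : Matrix (Fin m ⊕ Fin m) (Fin m ⊕ Fin m) F)) Subtype.val_injective
  have hfinK : Finite (Cfsg.PSp m F) := inferInstance
  have hj' : ∀ a, σ (j a) = j a := fun a => (hj (j a)).mpr ⟨a, rfl⟩
  have hE_ne : E ≠ ⊥ := EPSp_ne_bot hm1 j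
  have hEI : E ≤ Cfsg.Inn (Cfsg.PSp m F) ⊓ Subgroup.centralizer {x} :=
    le_inf (EPSp_le_Inn hm1 j) (EPSp_le_centralizer hm1 j σ hj')
  have hInn_ne : Cfsg.Inn (Cfsg.PSp m F) ≠ ⊥ := by
    intro h0
    apply hE_ne
    rw [eq_bot_iff, ← h0]
    exact hEI.trans inf_le_left
  have hZ : Subgroup.center (Cfsg.PSp m F) = ⊥ := center_eq_bot_of_inn_ne_bot hInn_ne
  have hcardfix := card_inn_inf_centralizer hZ x
  constructor
  · intro hcore
    by_contra hnc
    apply hcore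
    have hp_dvd : p ∣ Nat.card ↥(Cfsg.Inn (Cfsg.PSp m F) ⊓ Subgroup.centralizer {x}) := by
      rw [hcardfix]
      by_contra hnd
      exact hnc ((Nat.Prime.coprime_iff_not_dvd hp).mpr hnd)
    have hEp : p ∣ Nat.card ↥E := dvd_card_EPSp hm1 σ hp.pos hσ j hj p hp_dvd
    have hxp : x ^ p = 1 := by
      rw [hx, ← map_pow, ← hσ, pow_orderOf_eq_one, map_one]
    exact core_eq_bot_of_noNormal A x p hinn hxp E hEI (noNormal_EPSp hm j p hEp)
      (EPSp_normalized hm1 σ hp.pos hσ j hj)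
      (fun a ha => mem_zpowers_of_comm_EPSp hm1 j σ hj a (hall a ha) ha)
  · intro hcop
    apply core_ne_bot_of_coprime A x p hinn
    · rw [hcardfix]
      exact hcop.symm
    · intro h0
      apply hE_ne
      rw [eq_bot_iff, ← h0]
      exact hEI

end Cfsg.Agent.Lib.Helper36.LocalBalance
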