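import Mathlib
import Cfsg.Agent.Lib.Helper36.LocalBalance.PSpStd
import Cfsg.Agent.Lib.Helper45.Sp4.Out

set_option autoImplicit false
set_option linter.unusedSectionVars false

/-!
# `PSp_4(F)` in characteristic two: automorphisms commuting with `E`, and automorphisms of odd
order, are standard
-/

namespace Cfsg.Agent.Lib.Helper36.LocalBalance

open scoped MatrixGroups Matrix
open Matrix Cfsg.Agent.Lib.Helper45.PSLField Cfsg.Agent.Lib.Helper43 Cfsg.Agent.Lib.Helper13
  Cfsg.Agent.Lib.Helper45.PSpAut Cfsg.Agent.Lib.Helper45.Sp4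

variable {m : ℕ} {F : Type*} [Field F] {F₀ : Type*} [Field F₀]

theorem sympTransvection_map (j : F₀ →+* F) (v : Fin m ⊕ Fin m → F₀) (c : F₀) :
    (Cfsg.sympTransvection m v c).map j = Cfsg.sympTransvection m (fun i => j (v i)) (j c) := by
  unfold Cfsg.sympTransvection
  rw [Matrix.map_add _ (map_add j), Matrix.map_one _ (map_zero j) (map_one j)]
  congr 1
  ext k l
  rw [Matrix.map_apply, Matrix.smul_apply, Matrix.smul_apply, Matrix.vecMulVec_apply,
    Matrix.vecMulVec_apply, smul_eq_mul, smul_eq_mul, map_mul, map_mul]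
  congr 2
  have h := RingHom.map_mulVec j (Matrix.J (Fin m) F₀) v l
  rw [J_map'] at h
  exact h

theorem eL_map (j : F₀ →+* F) (i : Fin m) :
    (fun k => j ((eL i : Fin m ⊕ Fin m → F₀) k)) = (eL i : Fin m ⊕ Fin m → F) := by
  funext k
  unfold eL
  rw [Pi.single_apply, Pi.single_apply, apply_ite j, map_one, map_zero]

/-- conjugation by a long root element defined over `F₀` lies in `E` -/
theorem conj_tbar_mem_EPSp (hm : 1 ≤ m) (j : F₀ →+* F) (i : Fin m) :
    (MulAut.conj (tbar (eL i) (1 : F)) : MulAut (Cfsg.PSp m F)) ∈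
      EPSp (m := m) (F := F) hm j := by
  refine ⟨toGSp (tvElt (eL i) (1 : F₀)), gspMult_toGSp hm _, ?_⟩
  rw [subDiagPSp_apply]
  have h1 : gspSub j (toGSp (tvElt (eL i) (1 : F₀))) = toGSp (tvElt (eL i) (1 : F)) := by
    apply Subtype.ext
    apply Units.ext
    rw [gspSub_coe, toGSp_coe, toGSp_coe]
    show (Cfsg.sympTransvection m (eL i) (1 : F₀)).map j = Cfsg.sympTransvection m (eL i) (1 : F)
    rw [sympTransvection_map, eL_map, map_one]
  rw [h1, pspDiag_toGSp]
  rfl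

section Sp4

variable [Fintype F] [CharP F 2]

/-- in `PSp_4`, characteristic two: an automorphism commuting with `E` is standard -/
theorem std_of_comm_EPSp_sp4 (hZ : Subgroup.center (Cfsg.PSp 2 F) = ⊥) (j : F₀ →+* F)
    (a : MulAut (Cfsg.PSp 2 F))
    (ha : ∀ e ∈ EPSp (m := 2) (F := F) (by omega) j, a * e = e * a) :
    a ∈ stdAutPSp 2 F := by
  set t₀ : Cfsg.PSp 2 F := tbar (eL (0 : Fin 2)) (1 : F) with ht₀
  have ht₀T : IsT t₀ := ⟨eL (0 : Fin 2), 1, eL_ne_zero (0 : Fin 2), one_ne_zero, rfl⟩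
  have hfix : a t₀ = t₀ := by
    have h1 := ha _ (conj_tbar_mem_EPSp (m := 2) (F := F) (by omega) j (0 : Fin 2))
    rw [mul_conj_eq] at h1
    exact conj_injective_of_center_eq_bot hZ (mul_right_cancel h1)
  rcases dich a with h | h
  · exact mem_std_of_presT (le_refl 2) h
  · exfalso
    have h1 : IsT ((PsiP⁻¹ * a : MulAut (Cfsg.PSp 2 F)) t₀) := h t₀ ht₀T
    rw [MulAut.mul_apply, hfix] at h1
    obtain ⟨v, c, hv, hc, h2⟩ := h1
    obtain ⟨g, hg⟩ := exists_conj_tbar (0 : Fin 2) hv hc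
    have h3 : t₀ = PsiP (tbar v c) := by
      rw [← h2, MulAut.apply_inv_self]
    rw [← hg, map_mul, map_mul, map_inv, ← ht₀] at h3
    have h4 : PsiP t₀ = (PsiP g)⁻¹ * t₀ * ((PsiP g)⁻¹)⁻¹ := by
      rw [inv_inv]
      conv_rhs => rw [h3]
      group
    apply not_isT_PsiP (F := F)
    rw [← ht₀, h4]
    exact isT_conj ht₀T _

/-- in `PSp_4`, characteristic two: an automorphism of odd order is standard -/
theorem std_of_odd_order_sp4 (x : MulAut (Cfsg.PSp 2 F)) (hodd : Odd (orderOf x)) :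
    x ∈ stdAutPSp 2 F := by
  rcases aut_dich x with h | h
  · exact h
  · exfalso
    obtain ⟨n, hn⟩ := std_mk_out h
    obtain ⟨f, -, hf⟩ := FiniteField.card F 2
    have h1 : (QuotientGroup.mk x : Cfsg.Out (Cfsg.PSp 2 F)) =
        QuotientGroup.mk (PsiP : MulAut (Cfsg.PSp 2 F)) ^ (2 * n + 1) := by
      have : (QuotientGroup.mk x : Cfsg.Out (Cfsg.PSp 2 F)) =
          QuotientGroup.mk (PsiP : MulAut (Cfsg.PSp 2 F)) * QuotientGroup.mk (PsiP⁻¹ * x) := by
        rw [← QuotientGroup.mk_mul, mul_inv_cancel_left]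
      rw [this, hn, pow_succ']
    have h2 : (QuotientGroup.mk (PsiP : MulAut (Cfsg.PSp 2 F)) : Cfsg.Out (Cfsg.PSp 2 F)) ^
        ((2 * n + 1) * orderOf x) = 1 := by
      rw [pow_mul, ← h1, ← QuotientGroup.mk_pow, pow_orderOf_eq_one, QuotientGroup.mk_one]
    rw [← QuotientGroup.mk_pow, QuotientGroup.eq_one_iff] at h2
    have h3 := (PsiP_pow_mem_inn_iff (F := F) f.pos hf _).mp h2
    have h4 : Odd ((2 * n + 1) * orderOf x) := Odd.mul ⟨n, rfl⟩ hodd
    have h5 : 2 ∣ (2 * n + 1) * orderOf x := (Dvd.intro _ rfl).trans h3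
    rw [← even_iff_two_dvd] at h5
    exact (Nat.not_even_iff_odd.mpr h4) h5

end Sp4

end Cfsg.Agent.Lib.Helper36.LocalBalance
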