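import Mathlib
import Cfsg.Agent.Lib.Helper36.LocalBalance.PSpSp4
import Cfsg.Agent.Lib.Helper43.PSpH90
import Cfsg.Agent.S2693

set_option autoImplicit false
set_option linter.unusedSectionVars false

/-!
# The local-balance criterion for `PSp_{2m}(F)`
-/

namespace Cfsg.Agent.Lib.Helper36.LocalBalance

open scoped MatrixGroups Matrix
open Matrix Cfsg.Agent.Lib.Helper45.PSLField Cfsg.Agent.Lib.Helper43 Cfsg.Agent.Lib.Helper13

set_option maxHeartbeats 1600000 in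
/-- **S2730**: the criterion for an arbitrary non-inner-diagonal automorphism of prime order -/
theorem psp_main {F : Type*} [Field F] [Fintype F] {r : ℕ} [Fact r.Prime] [CharP F r] {m : ℕ}
    (hm : 2 ≤ m) (hK : IsSimpleGroup (Cfsg.PSp m F))
    (A : Subgroup (MulAut (Cfsg.PSp m F))) (hinn : ∀ k : Cfsg.PSp m F, MulAut.conj k ∈ A)
    {p : ℕ} [Fact p.Prime] (hpr : p ≠ r) (x : MulAut (Cfsg.PSp m F)) (hord : orderOf x = p)
    (hnot : ¬ Cfsg.IsInnerDiagonalAutPSp x) :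
    Cfsg.pPrimeCore p ↥(A ⊓ Subgroup.centralizer {x}) ≠ ⊥ ↔
      (Cfsg.IsFieldAutClassPSp x ∧
        Nat.Coprime p (Nat.card ↥(MonoidHom.eqLocus x.toMonoidHom
          (MonoidHom.id (Cfsg.PSp m F))))) := by
  classical
  have hp : p.Prime := Fact.out
  have hm1 : 1 ≤ m := by omega
  have hinn' : Cfsg.Inn (Cfsg.PSp m F) ≤ A := by
    rintro _ ⟨k, rfl⟩
    exact hinn k
  have hInn_ne : Cfsg.Inn (Cfsg.PSp m F) ≠ ⊥ := by
    intro h0
    apply EPSp_ne_bot (m := m) (F := F) hm1 (RingHom.id F)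
    rw [eq_bot_iff, ← h0]
    exact EPSp_le_Inn hm1 (RingHom.id F)
  have hZ : Subgroup.center (Cfsg.PSp m F) = ⊥ := center_eq_bot_of_inn_ne_bot hInn_ne
  have hcases : (m = 2 ∧ r = 2) ∨ (m = 2 → r ≠ 2) := by tauto
  have hxstd : x ∈ stdAutPSp m F := by
    rcases hcases with ⟨rfl, rfl⟩ | h4
    · apply std_of_odd_order_sp4
      rw [hord]
      rcases Nat.Prime.eq_two_or_odd' hp with h | h
      · exact absurd h hpr
      · exact h
    · exact exists_std_of_gammaPSp_eq_top (Cfsg.Agent.S2693.result (p := r) hm h4) x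
  obtain ⟨g, σ, hxeq⟩ := hxstd
  have hσne : σ ≠ 1 := by
    intro h1
    apply hnot
    rw [h1, map_one, mul_one] at hxeq
    exact (isInnerDiagonalAutPSp_iff x).mpr ⟨g, hxeq⟩
  have hxp : x ^ p = 1 := by rw [← hord]; exact pow_orderOf_eq_one x
  obtain ⟨gp, -, hpow⟩ := pow_pspDiag_pspField g σ p
  have hσp : σ ^ p = 1 := by
    rw [hxeq, hpow] at hxp
    exact (eq_one_of_pspDiag_mul_pspField_eq_one hm1 gp (σ ^ p) hxp).1
  have hσ : orderOf σ = p := by
    have h1 : orderOf σ ∣ p := orderOf_dvd_of_pow_eq_one hσp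
    rcases (Nat.dvd_prime hp).mp h1 with h | h
    · exact absurd (orderOf_eq_one_iff.mp h) hσne
    · exact h
  have hpow' : ((pspDiag g : MulAut (Cfsg.PSp m F)) * pspField σ) ^ p = 1 := by
    rw [← hxeq]; exact hxp
  obtain ⟨B, hB⟩ := field_coset_conj_psp hm1 σ hp.pos hσ g hpow'
  set β : MulAut (Cfsg.PSp m F) := pspDiag B with hβ
  set x₀ : MulAut (Cfsg.PSp m F) := pspField σ with hx₀
  have hx : x = β * x₀ * β⁻¹ := hxeq.trans hB
  have hx' : β⁻¹ * x * β⁻¹⁻¹ = x₀ := by rw [hx]; group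
  have hclass : Cfsg.IsFieldAutClassPSp x :=
    ⟨β⁻¹, σ, fun h => hσne h, (isStdFieldAutPSp_iff σ _).mpr hx'⟩
  have hcardfix : Nat.card ↥(MonoidHom.eqLocus x.toMonoidHom
      (MonoidHom.id (Cfsg.PSp m F))) =
      Nat.card ↥(MonoidHom.eqLocus x₀.toMonoidHom (MonoidHom.id (Cfsg.PSp m F))) := by
    rw [hx]
    exact card_eqLocus_conj x₀ β
  have hfin₀ : Fintype (fixF σ) := Fintype.ofFinite _
  set j : fixF σ →+* F := (fixF σ).subtype with hjdef
  have hj : ∀ a : F, σ a = a ↔ ∃ b, j b = a := by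
    intro a
    constructor
    · intro ha
      exact ⟨⟨a, (mem_fixF σ a).mpr ha⟩, rfl⟩
    · rintro ⟨b, rfl⟩
      exact (mem_fixF σ _).mp b.2
  have hall : ∀ a : MulAut (Cfsg.PSp m F),
      (∀ e ∈ EPSp (m := m) (F := F) hm1 j, a * e = e * a) → a ∈ stdAutPSp m F := by
    intro a ha
    rcases hcases with ⟨rfl, rfl⟩ | h4
    · exact std_of_comm_EPSp_sp4 hZ j a ha
    · exact exists_std_of_gammaPSp_eq_top (Cfsg.Agent.S2693.result (p := r) hm h4) a
  have hstd' := psp_std hm hK σ hσ j hj hall (A.map (MulAut.conj β⁻¹).toMonoidHom)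
    (inn_le_map_conj A β⁻¹ hinn')
  rw [core_conj_iff A x β⁻¹ p, hx', hcardfix]
  constructor
  · intro h
    exact ⟨hclass, hstd'.mp h⟩
  · rintro ⟨-, h⟩
    exact hstd'.mpr h

end Cfsg.Agent.Lib.Helper36.LocalBalance
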