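import Mathlib
import Cfsg.Agent.Lib.Helper36.LocalBalance.PSpStd

set_option autoImplicit false
set_option linter.unusedSectionVars false

/-!
# `(L-Sp)`: `PSp_{2m}(F₀)`, `m ≥ 2`, has no non-trivial normal subgroup of order prime to `p`,
for `p` a prime dividing its order (in particular `p = 2`).
-/

namespace Cfsg.Agent.Lib.Helper36.LocalBalance

open scoped MatrixGroups Matrix
open Matrix

variable {m : ℕ} {F₀ : Type*} [Field F₀]

/-- `PSp_{2m}(F₀)`, `m ≥ 2`, has no non-trivial normal `p'`-subgroup, for `p` a prime dividing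
its order (`PSp_4(2) ≅ S_6` included). -/
theorem noNormal_psp [Fintype F₀] (hm : 2 ≤ m) (p : ℕ) [Fact p.Prime]
    (hp : p ∣ Nat.card (Cfsg.PSp m F₀))
    (M : Subgroup (Cfsg.PSp m F₀)) (hM : M.Normal)
    (hc : (Nat.card ↥M).Coprime p) : M = ⊥ := by
  have hm1 : 1 ≤ m := by omega
  obtain ⟨e⟩ := nonempty_EPSp_equiv (m := m) (F := F₀) (F₀ := F₀) hm1 (RingHom.id F₀)
  have hp' : p ∣ Nat.card ↥(EPSp (m := m) (F := F₀) hm1 (RingHom.id F₀)) := by
    rw [← Nat.card_congr e.toEquiv]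
    exact hp
  exact noNormal_of_equiv e p
    (noNormal_EPSp (m := m) (F := F₀) hm (RingHom.id F₀) p hp') M hM hc

/-- `(L-Sp)`: `PSp_{2m}(F₀)`, `m ≥ 2`, has no non-trivial normal subgroup of odd order. -/
theorem noNormal_psp_two [Fintype F₀] (hm : 2 ≤ m)
    (M : Subgroup (Cfsg.PSp m F₀)) (hM : M.Normal)
    (hc : (Nat.card ↥M).Coprime 2) : M = ⊥ := by
  have : Fact (Nat.Prime 2) := ⟨Nat.prime_two⟩
  exact noNormal_psp hm 2 (even_card_PSp (m := m) (F₀ := F₀) (by omega)) M hM hc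

/-- `(L-Sp)` in the explicit quotient form. -/
theorem noNormal_sp_quot_two [Fintype F₀] (hm : 2 ≤ m)
    (M : Subgroup (↥(Matrix.symplecticGroup (Fin m) F₀) ⧸
      Subgroup.center ↥(Matrix.symplecticGroup (Fin m) F₀))) (hM : M.Normal)
    (hc : (Nat.card ↥M).Coprime 2) : M = ⊥ :=
  noNormal_psp_two (m := m) (F₀ := F₀) hm M hM hc

end Cfsg.Agent.Lib.Helper36.LocalBalance
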